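import Mathlib
import Cfsg.Prelude.Def_DegreeGraph
import Cfsg.Agent.Characters.Core
import Cfsg.Agent.Blocks.Basic
import Cfsg.Agent.Blocks.Knorr
import Cfsg.Agent.S0887
import Cfsg.Agent.S0188
import Cfsg.Agent.S0157
import Cfsg.Agent.S0169
import Cfsg.Agent.OddOrderCharacters.Clifford
import Cfsg.Agent.CharDeep.DegreeBound

/-!
# Tools for character degrees, the primes dividing them and the character degree graph

* `mem_charDegrees` : unfolding;
* `charDegrees_congr`, `degreePrimes_congr`, `degreeGraph_congr` : invariance under isomorphism;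
* `charDegrees_of_surjective` : inflation;
* `dvd_card` : degrees divide the order;  `sq_le` : `d ^ 2 ≤ |G : Z|`, `Z` central;
* `ito` : degrees divide the index of an abelian normal subgroup;
* `clifford_down`, `clifford_up` : degrees and normal subgroups;
* `mul_mem_prod` : direct products;
* `of_two_transitive` : the degree `n - 1` of a 2-transitive action.
-/

set_option autoImplicit false

namespace Cfsg.Agent.H424.DegTools

open Cfsg Cfsg.Agent.Characters.Core

universe u v

variable {G : Type u} [Group G]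

theorem mem_charDegrees {d : ℕ} :
    d ∈ charDegrees G ↔ ∃ χ : G → ℂ, IsIrrCharacter G χ ∧ χ 1 = (d : ℂ) := by
  constructor
  · rintro ⟨χ, h⟩
    refine ⟨χ, χ.2, ?_⟩
    rw [← h]
    exact Blocks.Basic.irr_one_eq_charDegree χ.2
  · rintro ⟨χ, h, h1⟩
    refine ⟨⟨χ, h⟩, ?_⟩
    have h2 := Blocks.Basic.irr_one_eq_charDegree h
    rw [h1] at h2
    exact_mod_cast h2.symm

theorem one_mem_degrees : 1 ∈ charDegrees G :=
  mem_charDegrees.2 ⟨1, isIrr_one, by simp⟩

theorem pos_of_mem {d : ℕ} (h : d ∈ charDegrees G) : 0 < d := by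
  obtain ⟨χ, hχ, h1⟩ := mem_charDegrees.1 h
  rcases Nat.eq_zero_or_pos d with h0 | h0
  · exact absurd (by rw [h1, h0]; simp) (isIrr_apply_one_ne_zero hχ)
  · exact h0

/-- Inflation of degrees along a surjective homomorphism. -/
theorem charDegrees_of_surjective {H : Type v} [Group H] (f : H →* G)
    (hf : Function.Surjective f) : charDegrees G ⊆ charDegrees H := by
  intro d h
  obtain ⟨χ, hχ, h1⟩ := mem_charDegrees.1 h
  exact mem_charDegrees.2 ⟨χ ∘ f, isIrr_comp f hf hχ, by simp [h1]⟩

theorem charDegrees_congr {H : Type v} [Group H] (e : G ≃* H) :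
    charDegrees G = charDegrees H :=
  Set.Subset.antisymm
    (charDegrees_of_surjective e.symm.toMonoidHom e.symm.surjective)
    (charDegrees_of_surjective e.toMonoidHom e.surjective)

theorem mem_degreePrimes {p : ℕ} :
    p ∈ degreePrimes G ↔ p.Prime ∧ ∃ d ∈ charDegrees G, p ∣ d := Iff.rfl

theorem adj_iff {p q : ℕ} : (degreeGraph G).Adj p q ↔
    p ≠ q ∧ p.Prime ∧ q.Prime ∧ ∃ d ∈ charDegrees G, p * q ∣ d := Iff.rfl

theorem degreePrimes_congr {H : Type v} [Group H] (e : G ≃* H) :
    degreePrimes G = degreePrimes H := by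
  ext p
  rw [mem_degreePrimes, mem_degreePrimes, charDegrees_congr e]

theorem degreeGraph_congr {H : Type v} [Group H] (e : G ≃* H) :
    degreeGraph G = degreeGraph H := by
  ext p q
  rw [adj_iff, adj_iff, charDegrees_congr e]

theorem dvd_card [Finite G] {d : ℕ} (h : d ∈ charDegrees G) : d ∣ Nat.card G := by
  obtain ⟨χ, hχ⟩ := h
  rw [← hχ]
  exact Blocks.Knorr.charDegree_dvd χ.2

/-- Itô's theorem. -/
theorem ito [Finite G] {d : ℕ} (h : d ∈ charDegrees G) (A : Subgroup G) [A.Normal]
    (hA : ∀ a ∈ A, ∀ b ∈ A, a * b = b * a) : d ∣ A.index := by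
  obtain ⟨χ, hχ, h1⟩ := mem_charDegrees.1 h
  obtain ⟨n, ρ, hρ, rfl⟩ := hχ
  have h2 := S0169.result ρ A hA
  rw [Representation.char_one] at h1
  have h3 : Module.finrank ℂ (Fin n → ℂ) = d := by exact_mod_cast h1
  rwa [h3] at h2

/-- The primes of an abelian normal Sylow subgroup divide no degree. -/
theorem not_mem_degreePrimes [Finite G] {p : ℕ} (A : Subgroup G) [A.Normal]
    (hA : ∀ a ∈ A, ∀ b ∈ A, a * b = b * a) (hp : ¬ p ∣ A.index) : p ∉ degreePrimes G := by
  rintro ⟨-, d, hd, hpd⟩
  exact hp (hpd.trans (ito hd A hA))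

/-- Clifford: degrees of `G` over a normal subgroup. -/
theorem clifford_down [Finite G] (N : Subgroup G) [N.Normal] {d : ℕ} (h : d ∈ charDegrees G) :
    ∃ c ∈ charDegrees N, c ∣ d ∧ d / c ∣ N.index := by
  classical
  have := Fintype.ofFinite G
  have := Fintype.ofFinite N
  obtain ⟨χ, hχ, h1⟩ := mem_charDegrees.1 h
  have hχN : IsCharacter N (fun n : N => χ n) :=
    isCharacter_comp N.subtype (isIrr_isCharacter hχ)
  have := finite_irr (G := N)
  have := Fintype.ofFinite (IrrCharacter N)
  obtain ⟨θ, hθ⟩ : ∃ θ : N → ℂ, IsIrrCharacter N θ ∧ classInner (fun n : N => χ n) θ ≠ 0 := by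
    by_contra hcon
    push Not at hcon
    have h0 := classFunction_eq_zero (isCharacter_isClassFunction hχN) hcon
    have h2 := congrFun h0 1
    simp only [Pi.zero_apply, OneMemClass.coe_one] at h2
    exact isIrr_apply_one_ne_zero hχ h2
  obtain ⟨c, hc0, hc⟩ := isIrr_apply_one hθ.1
  have h3 := S0887.result N χ hχ θ hθ.1 hθ.2 d c h1 hc
  exact ⟨c, mem_charDegrees.2 ⟨θ, hθ.1, hc⟩, h3.1, h3.2⟩

/-- Clifford: every degree of a normal subgroup divides a degree of the group. -/
theorem clifford_up [Finite G] (N : Subgroup G) [N.Normal] {c : ℕ} (h : c ∈ charDegrees N) :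
    ∃ d ∈ charDegrees G, c ∣ d ∧ d / c ∣ N.index := by
  classical
  have := Fintype.ofFinite G
  have := Fintype.ofFinite N
  obtain ⟨θ, hθ, h1⟩ := mem_charDegrees.1 h
  -- a constituent of the induced function
  have hcl : IsClassFunction G (indFun N θ) :=
    OddOrderCharacters.Clifford.isClassFunction_indFun N θ
  obtain ⟨χ, hχ, hne⟩ : ∃ χ : G → ℂ, IsIrrCharacter G χ ∧ classInner (indFun N θ) χ ≠ 0 := by
    by_contra hcon
    push Not at hcon
    have h0 := classFunction_eq_zero hcl hcon
    have h2 := congrFun h0 1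
    rw [indFun_apply, Pi.zero_apply] at h2
    have h3 : ∀ x : G, extendByZero N θ (x⁻¹ * 1 * x) = (c : ℂ) := by
      intro x
      have : x⁻¹ * 1 * x = 1 := by group
      rw [this, extendByZero_of_mem N θ N.one_mem]
      exact h1
    simp only [h3, Finset.sum_const, nsmul_eq_mul] at h2
    have hG : ((Finset.univ : Finset G).card : ℂ) ≠ 0 := by
      rw [Finset.card_univ]
      exact_mod_cast Fintype.card_ne_zero
    have hN : ((Nat.card N : ℕ) : ℂ) ≠ 0 := card_ne_zero_complex
    have hc : (c : ℂ) ≠ 0 := by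
      have := pos_of_mem h
      exact_mod_cast this.ne'
    exact (mul_ne_zero (inv_ne_zero hN) (mul_ne_zero hG hc)) h2
  rw [OddOrderCharacters.Clifford.classInner_indFun N θ χ (isIrr_isClassFunction hχ)] at hne
  have hne' : classInner (fun n : N => χ n) θ ≠ 0 := by
    intro h0
    apply hne
    rw [← classInner_conj_symm, h0, map_zero]
  obtain ⟨d, hd0, hd⟩ := isIrr_apply_one hχ
  have h3 := S0887.result N χ hχ θ hθ hne' d c hd h1
  exact ⟨d, mem_charDegrees.2 ⟨χ, hχ, hd⟩, h3.1, h3.2⟩

theorem mul_mem_prod {H : Type v} [Group H] [Finite G] [Finite H] {a b : ℕ}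
    (ha : a ∈ charDegrees G) (hb : b ∈ charDegrees H) : a * b ∈ charDegrees (G × H) := by
  obtain ⟨φ, hφ, h1⟩ := mem_charDegrees.1 ha
  obtain ⟨ψ, hψ, h2⟩ := mem_charDegrees.1 hb
  exact mem_charDegrees.2 ⟨_, S0188.isIrr_outer hφ hψ, by
    simp [h1, h2]⟩

/-- The permutation character of a 2-transitive action on `n` points gives the degree `n - 1`. -/
theorem of_two_transitive [Finite G] (X : Type v) [MulAction G X] [Finite X]
    (h2 : MulAction.IsMultiplyPretransitive G X 2) {n : ℕ} (hn : Nat.card X = n + 1)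
    (hn1 : 1 ≤ n) : n ∈ charDegrees G := by
  have hX : 2 ≤ Nat.card X := by omega
  have htr : MulAction.IsPretransitive G X := by
    have := h2
    exact MulAction.isPretransitive_of_is_two_pretransitive
  have h3 := (S0157.result X hX).2 h2
  refine mem_charDegrees.2 ⟨_, h3, ?_⟩
  have h4 : MulAction.fixedBy X (1 : G) = Set.univ := by
    ext x; simp
  rw [h4, Nat.card_coe_set_eq, Set.ncard_univ, hn]
  push_cast
  ring

/-- `d ^ 2` is at most the index of a central subgroup. -/
theorem sq_le [Finite G] {d : ℕ} (h : d ∈ charDegrees G) (Z : Subgroup G)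
    (hZ : Z ≤ Subgroup.center G) : d ^ 2 ≤ Z.index := by
  classical
  have := Fintype.ofFinite G
  obtain ⟨χ, hχ, h1⟩ := mem_charDegrees.1 h
  have hval : ∀ z ∈ Z, Complex.normSq (χ z) = (d : ℝ) ^ 2 := by
    intro z hz
    obtain ⟨w, hw, hw'⟩ := CharDeep.DegreeBound.exists_omega hχ (hZ hz)
    have h2 := hw' 1
    rw [one_mul, h1] at h2
    rw [h2, Complex.normSq_mul, Complex.normSq_eq_norm_sq, hw, Complex.normSq_natCast]
    ring
  have h3 := classInner_irr_self hχ
  rw [classInner_self_eq_ofReal] at h3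
  have h4 : (Nat.card G : ℝ)⁻¹ * ∑ g : G, Complex.normSq (χ g) = 1 := by exact_mod_cast h3
  have hG : (0 : ℝ) < Nat.card G := by exact_mod_cast Nat.card_pos
  have h5 : ∑ g : G, Complex.normSq (χ g) = Nat.card G := by
    field_simp at h4
    exact h4
  have h6 : ∑ g ∈ Finset.univ.filter (· ∈ Z), Complex.normSq (χ g) ≤
      ∑ g : G, Complex.normSq (χ g) :=
    Finset.sum_le_sum_of_subset_of_nonneg (Finset.filter_subset _ _)
      fun g _ _ => Complex.normSq_nonneg _
  have h7 : ∑ g ∈ Finset.univ.filter (· ∈ Z), Complex.normSq (χ g) =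
      Nat.card Z * (d : ℝ) ^ 2 := by
    rw [Finset.sum_congr rfl (fun g hg => hval g (Finset.mem_filter.1 hg).2), Finset.sum_const,
      nsmul_eq_mul]
    congr 2
    rw [← Fintype.card_subtype, ← Nat.card_eq_fintype_card]
  rw [h7, h5] at h6
  have h8 : Nat.card Z * d ^ 2 ≤ Nat.card G := by exact_mod_cast h6
  rw [← Z.card_mul_index] at h8
  exact Nat.le_of_mul_le_mul_left h8 Nat.card_pos

end Cfsg.Agent.H424.DegTools
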