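import Mathlib
import Cfsg.Agent.H424.DegTools
import Cfsg.Agent.S0861
import Cfsg.Agent.S0145
import Cfsg.Agent.CharactersDeep.SumRootsUnity
import Cfsg.Agent.OddOrderCharacters.PF13.SumBound

/-!
# Characters of degree prime to `p`

* `apply_ne_zero` : a character of degree prime to `p` does not vanish at `p`-elements;
* `card_le_centralizer` : there are at most `|C_G(x)|` irreducible characters of degree prime to `p`,
  for every `p`-element `x`;
* `exists_dvd_of_lt`, `exists_mul_dvd` : consequences for degrees, given the number of classes.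
-/

set_option autoImplicit false

namespace Cfsg.Agent.H424.CentBound

open Cfsg Cfsg.Agent.Characters.Core Cfsg.Agent.H424.DegTools

universe u

variable {G : Type u} [Group G]

theorem apply_ne_zero {χ : G → ℂ} (hχ : IsCharacter G χ) {p : ℕ} [Fact p.Prime] {d : ℕ}
    (hd : χ 1 = d) (hpd : ¬ p ∣ d) {g : G} {m : ℕ} (hg : g ^ p ^ m = 1) : χ g ≠ 0 := by
  obtain ⟨n, ρ, rfl⟩ := hχ
  have hp : p.Prime := Fact.out
  have hf : (ρ g) ^ (p ^ m) = 1 := by rw [← map_pow, hg, map_one]
  obtain ⟨s, hs, hz, htr⟩ := CharactersDeep.SumRootsUnity.exists_multiset_pow (ρ g)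
    (pow_ne_zero m hp.ne_zero) hf
  have h1 : ρ.character g = s.sum := by
    have := htr 1
    have e : s.map (fun z : ℂ => z ^ 1) = s := by simp
    rw [pow_one, e] at this
    exact this
  have hn : (n : ℂ) = d := by
    rw [← hd]
    have : ρ.character 1 = LinearMap.trace ℂ _ (ρ 1) := rfl
    rw [this, map_one, LinearMap.trace_one]
    simp
  have hcard : s.card = d := by
    rw [hs]
    have : (Module.finrank ℂ (Fin n → ℂ) : ℂ) = d := by rw [← hn]; simp
    exact_mod_cast this
  rw [h1]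
  obtain ⟨l, rfl⟩ := Quotient.exists_rep s
  have h2 := CharactersDeep.SumRootsUnity.sum_ne_zero_of_not_dvd (p := p) (m := m)
    (fun i : Fin l.length => l.get i) (fun i => hz _ (List.get_mem l i))
    (by rw [Fintype.card_fin]; exact fun h => hpd (by rw [← hcard]; exact h))
  intro h3
  apply h2
  rw [← h3]
  change _ = l.sum
  rw [← List.sum_ofFn, List.ofFn_get]

/-- At most `|C_G(x)|` irreducible characters have degree prime to `p`, for every `p`-element `x`. -/
theorem card_le_centralizer [Finite G] {p : ℕ} [Fact p.Prime] {m : ℕ} {x : G} (hx : x ^ p ^ m = 1)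
    (S : Finset (IrrCharacter G)) (hS : ∀ χ ∈ S, ¬ p ∣ charDegree (χ : G → ℂ)) :
    S.card ≤ Nat.card (Subgroup.centralizer ({x} : Set G)) := by
  classical
  have := Fintype.ofFinite G
  have := finite_irr (G := G)
  have := Fintype.ofFinite (IrrCharacter G)
  set n := Nat.card G with hn
  let X : Finset G := (Finset.range n).image (fun i => if i.Coprime n then x ^ i else x)
  have hn0 : 0 < n := Nat.card_pos
  have hmemX : ∀ g, g ∈ X ↔ ∃ k : ℕ, k.Coprime n ∧ g = x ^ k := by
    intro g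
    rw [Finset.mem_image]
    constructor
    · rintro ⟨i, -, rfl⟩
      by_cases h : i.Coprime n
      · rw [if_pos h]; exact ⟨i, h, rfl⟩
      · rw [if_neg h]; exact ⟨1, Nat.coprime_one_left n, (pow_one x).symm⟩
    · rintro ⟨k, hk, rfl⟩
      refine ⟨k % n, Finset.mem_range.2 (Nat.mod_lt _ hn0), ?_⟩
      have h1 : (k % n).Coprime n := by
        rw [Nat.Coprime, ← Nat.gcd_rec, Nat.gcd_comm]
        exact hk
      rw [if_pos h1]
      have h2 : x ^ n = 1 := pow_card_eq_one'
      exact (pow_eq_pow_mod k h2).symm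
  have hXpow : ∀ g ∈ X, ∀ m : ℕ, m.Coprime (Nat.card G) → g ^ m ∈ X := by
    intro g hg k hk
    obtain ⟨j, hj, rfl⟩ := (hmemX g).1 hg
    exact (hmemX _).2 ⟨j * k, Nat.Coprime.mul_left hj hk, (pow_mul x j k).symm⟩
  have hXne : X.Nonempty := ⟨x, (hmemX x).2 ⟨1, Nat.coprime_one_left n, (pow_one x).symm⟩⟩
  have hcent : ∀ g ∈ X, Nat.card (Subgroup.centralizer ({g} : Set G)) =
      Nat.card (Subgroup.centralizer ({x} : Set G)) := by
    intro g hg
    obtain ⟨j, hj, rfl⟩ := (hmemX g).1 hg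
    rw [S0861.centralizer_pow_eq (n := n) pow_card_eq_one' hj]
  have h1 : ∀ χ ∈ S, (X.card : ℝ) ≤ ∑ g ∈ X, ‖(χ : G → ℂ) g‖ ^ 2 := by
    intro χ hχ
    have h2 := OddOrderCharacters.PF13.SumBound.card_le_sum_sq (G := G) ({χ} : Finset (IrrCharacter G))
      (fun χ => (χ : G → ℂ)) (fun i _ => ⟨i, 0, isIrr_isCharacter i.2, isCharacter_zero, by simp⟩)
      X hXpow ?_
    · simpa using h2
    · intro g hg
      refine ⟨χ, Finset.mem_singleton_self χ, ?_⟩
      obtain ⟨j, hj, rfl⟩ := (hmemX g).1 hg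
      refine apply_ne_zero (p := p) (isIrr_isCharacter χ.2)
        (Blocks.Basic.irr_one_eq_charDegree χ.2) (hS χ hχ) (m := m) ?_
      rw [← pow_mul, mul_comm, pow_mul, hx, one_pow]
  have h2 : ∀ g ∈ X, ∑ χ ∈ S, ‖(χ : G → ℂ) g‖ ^ 2 ≤
      Nat.card (Subgroup.centralizer ({x} : Set G)) := by
    intro g hg
    have h3 := S0145.sum_irr_mul_conj (G := G) g g
    rw [if_pos (IsConj.refl g), hcent g hg] at h3
    have h4 : ∑ χ : IrrCharacter G, ‖(χ : G → ℂ) g‖ ^ 2 =
        (Nat.card (Subgroup.centralizer ({x} : Set G)) : ℝ) := by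
      have h5 : ((∑ χ : IrrCharacter G, ‖(χ : G → ℂ) g‖ ^ 2 : ℝ) : ℂ) =
          ((Nat.card (Subgroup.centralizer ({x} : Set G)) : ℝ) : ℂ) := by
        push_cast
        rw [← h3]
        refine Finset.sum_congr rfl fun χ _ => ?_
        rw [Complex.mul_conj, Complex.normSq_eq_norm_sq]
        push_cast
        rfl
      exact_mod_cast h5
    rw [← h4]
    exact Finset.sum_le_sum_of_subset_of_nonneg (Finset.subset_univ S)
      fun _ _ _ => by positivity
  have h3 : (S.card : ℝ) * X.card ≤ X.card * Nat.card (Subgroup.centralizer ({x} : Set G)) := by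
    calc (S.card : ℝ) * X.card = ∑ χ ∈ S, (X.card : ℝ) := by
          rw [Finset.sum_const, nsmul_eq_mul]
      _ ≤ ∑ χ ∈ S, ∑ g ∈ X, ‖(χ : G → ℂ) g‖ ^ 2 := Finset.sum_le_sum h1
      _ = ∑ g ∈ X, ∑ χ ∈ S, ‖(χ : G → ℂ) g‖ ^ 2 := Finset.sum_comm
      _ ≤ ∑ g ∈ X, (Nat.card (Subgroup.centralizer ({x} : Set G)) : ℝ) := Finset.sum_le_sum h2
      _ = X.card * Nat.card (Subgroup.centralizer ({x} : Set G)) := by
          rw [Finset.sum_const, nsmul_eq_mul]
  have hXpos : (0 : ℝ) < X.card := by exact_mod_cast hXne.card_pos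
  have h4 : (S.card : ℝ) ≤ Nat.card (Subgroup.centralizer ({x} : Set G)) := by
    rw [mul_comm] at h3
    exact le_of_mul_le_mul_left h3 hXpos
  exact_mod_cast h4

end Cfsg.Agent.H424.CentBound
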