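import Cfsg.Agent.H424.EightAsm
import Cfsg.Agent.H175.LD.Core33
import Cfsg.Agent.H916.T8
import Cfsg.Agent.H6.M11.StageCover
import Cfsg.Agent.H48.M12Three
import Cfsg.Agent.H24.M12.Main
import Cfsg.Agent.H921.M22.Two
import Cfsg.Agent.H95.JT.Core
import Cfsg.Agent.H878.Sz.MainThree
import Cfsg.Agent.H878.Sz.MainP3
import Cfsg.Agent.H806.LsFiLe
import Cfsg.Agent.H876.D3.Main5
import Cfsg.Agent.H937.G24.Row

/-!
# Dimension eight: the remaining inputs (helper424)

* `rest8` : `Rest8` from the row `M₂₂` (`p` odd);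
* `ru8` : the unitary groups in the defining characteristic.
-/

set_option autoImplicit false
set_option linter.unusedSectionVars false

universe u

namespace Cfsg.Agent.H424.Eight

open Cfsg Cfsg.Geo Matrix Cfsg.Agent.H915.LD Cfsg.Agent.H912.Bd Cfsg.Agent.H936.List12

variable {F : Type u} [Field F] [Finite F] {P : Subgroup (GL (Fin 8) F)}

theorem m12_eight (p : ℕ) [hp : Fact p.Prime] [hFp : CharP F p] (hC : Core P) (h : Spor.IsoM12 (Soc P)) : SD P := by
  have h8 : Fintype.card (Fin 8) = 8 := by simp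
  by_cases hp3 : p = 3
  · subst hp3
    exfalso
    have h3 : (3 : F) = 0 := by exact_mod_cast CharP.cast_eq_zero F 3
    rcases H6.M11.m12_cases hC h with ⟨⟨e⟩⟩ | ⟨h2, -, -, -⟩
    · exact H48.M12T.m12_three hC h3 e (by rw [h8]; norm_num) (by rw [h8]; norm_num)
    · have hZ : (scalars (Fin 8) F).subgroupOf P ≠ ⊥ := by
        intro h0
        rw [h0, Subgroup.card_bot] at h2
        norm_num at h2
      rcases H24.M12.two_m12 (p := 3) hC h (by norm_num) hZ (by rw [h8]; norm_num) with ⟨-, h1, -⟩ | ⟨h1, -⟩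
      · rw [h8] at h1
        omega
      · exact h1 rfl
  · rcases H6.M11.m12_small hC p hp3 h (by rw [h8]; norm_num) with h1 | ⟨h1, -⟩
    · exact h1
    · rw [h8] at h1
      omega

theorem rest8 (p : ℕ) [hp : Fact p.Prime] [hFp : CharP F p] (hC : Core P)
    (hm : p ≠ 2 → Spor.IsoM22 (Soc P) → SD P) : Rest8 p P where
  l33 := by
    rintro h3 ⟨K, i1, i2, hK, ⟨e⟩⟩
    exact (H175.L33.l33 hC p h3 hK e (by simp)).2.1
  o82 := by
    rintro h2 ⟨K, i1, i2, hK, ⟨e⟩⟩
    exact (H916.T8.om hK hC p e (two_ne h2) (by simp)).2.1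
  g24 := by
    intro h2 h
    have h1 := (H937.G24.row hC h p h2 (by simp)).1
    simp at h1
  m12 := m12_eight p hC
  m22 := by
    intro h
    by_cases hp2 : p = 2
    · subst hp2
      obtain ⟨e⟩ := h
      rcases H921.M22.two e hC (by simp) with ⟨h1, -⟩ | ⟨h1, -⟩ | ⟨h1, -⟩ <;> simp at h1
    · exact hm hp2 h
  j3 := by
    intro h
    have h1 := (H95.JT.j3 p hC h (by simp)).2.1
    simp at h1
  suz := by
    rintro ⟨e⟩
    by_cases hp3 : p = 3
    · subst hp3
      have h1 := (H878.Sz.core_Suz_three hC e (by simp)).1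
      simp at h1
    · have h1 := (H878.Sz.core_Suz hC e (by simp) p hp3).1
      simp at h1
  pend := by
    rintro ⟨-, h | h | h | h⟩
    · obtain ⟨e⟩ := h
      have := H806.Ls.fi22_le hp.out hC e
      omega
    · obtain ⟨e⟩ := h
      have := H806.Ls.fi23_le hp.out hC e
      omega
    · obtain ⟨e⟩ := h
      have := H806.Ls.b_le hp.out hC e
      omega
    · obtain ⟨e⟩ := h
      have := H806.Ls.m_le hp.out hC e
      omega

/-- the unitary groups of degree `4 ≤ N ≤ 7` in the defining characteristic have no faithful absolutely irreducible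
representation of degree `8` -/
theorem ru8 (p : ℕ) [hp : Fact p.Prime] [hFp : CharP F p] (hC : Core P) (K : Type) [Field K] [Fintype K] [CharP K p]
    {N q : ℕ} (hK : Fintype.card K = q ^ 2) (h4 : 4 ≤ N) (h7 : N ≤ 7) (e : Soc P ≃* PSU N K q) : SD P := by
  have h8 : Fintype.card (Fin 8) = 8 := by simp
  rcases H876.D3.core_psu p K h4 (by rw [h8]; norm_num) hK hC e with h | ⟨-, h, -⟩ | ⟨-, h, -⟩ | ⟨-, h⟩ <;>
    rw [h8] at h <;> omega

end Cfsg.Agent.H424.Eight
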