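import Cfsg.Agent.H424.M22Eight

/-!
# `M₂₂` in odd characteristic: no residual core of degree eight (helper424)
-/

set_option autoImplicit false
set_option linter.unusedSectionVars false

namespace Cfsg.Agent.H424.M22

open Module Cfsg Cfsg.Geo Matrix Cfsg.Agent.H915.LD Cfsg.Agent.H13.M22

universe u

variable {ι : Type} [Fintype ι] [DecidableEq ι] {F : Type u} [Field F] [Finite F] {P : Subgroup (GL ι F)}

/-- the covering data of a core -/
theorem exists_cov (p : ℕ) [hp : Fact p.Prime] [hFp : CharP F p] (hperf : ⁅P, P⁆ = P) (hpn : ¬ p ∣ Fintype.card ι)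
    {T : Type*} [Group T] (e : Soc P ≃* T) :
    ∃ ρ : P →* Module.End (AlgebraicClosure F) (ι → AlgebraicClosure F),
      Cov (e.toMonoidHom.comp (toSoc P)) ρ := by
  have : Finite P := by
    have := Finite.of_injective (fun g : GL ι F => (g : Matrix ι ι F)) (fun _ _ h => Units.ext h)
    exact Finite.of_injective P.subtype Subtype.val_injective
  let Fb := AlgebraicClosure F
  let R : P →* Module.End Fb (ι → Fb) :=
    ((Matrix.toLinAlgEquiv' (R := Fb) (n := ι)).toAlgHom : Matrix ι ι Fb →* Module.End Fb (ι → Fb)).comp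
      ((Units.coeHom _).comp ((Matrix.GeneralLinearGroup.map (algebraMap F Fb)).comp P.subtype))
  have hk := ker_comp e
  refine ⟨R, e.surjective.comp (toSoc_surjective P), by rw [hk]; exact scalars_le_center (P := P), ?_, ?_, ?_⟩
  · intro z hz
    rw [hk, Subgroup.mem_subgroupOf, mem_scalars_iff] at hz
    obtain ⟨c, hc⟩ := hz
    refine ⟨algebraMap F Fb (c : F), ?_⟩
    change Matrix.toLinAlgEquiv' (((z : GL ι F) : Matrix ι ι F).map (algebraMap F Fb)) = _
    rw [hc]
    have h1 : ((c : F) • (1 : Matrix ι ι F)).map (algebraMap F Fb) = (algebraMap F Fb (c : F)) • (1 : Matrix ι ι Fb) := by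
      ext i j
      by_cases hij : i = j
      · subst hij; simp
      · simp [Matrix.one_apply_ne hij]
    rw [h1, map_smul, map_one]
  · intro a b hab
    apply Subtype.ext
    apply Units.ext
    have h1 := (Matrix.toLinAlgEquiv' (R := Fb) (n := ι)).injective hab
    ext k l
    have h2 := congrFun (congrFun h1 k) l
    exact (algebraMap F Fb).injective h2
  · rw [hk]
    have hcop := H906.T14.coprime_card_scalars (P := P) hperf hp.out hpn
    have : CharP Fb p := charP_of_injective_algebraMap (algebraMap F Fb).injective p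
    intro h0
    rw [CharP.cast_eq_zero_iff Fb p] at h0
    exact hp.out.one_lt.ne' (Nat.eq_one_of_dvd_coprimes hcop h0 dvd_rfl)

/-- **`M₂₂`, `p` odd: the degree is not eight** -/
theorem core_ne_eight (p : ℕ) [hp : Fact p.Prime] [hFp : CharP F p] (hperf : ⁅P, P⁆ = P) (hp2 : p ≠ 2)
    (h : Spor.IsoM22 (Soc P)) : Fintype.card ι ≠ 8 := by
  intro hn
  obtain ⟨e⟩ := h
  have : Finite P := by
    have := Finite.of_injective (fun g : GL ι F => (g : Matrix ι ι F)) (fun _ _ h => Units.ext h)
    exact Finite.of_injective P.subtype Subtype.val_injective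
  have hpn : ¬ p ∣ Fintype.card ι := by
    rw [hn, show (8 : ℕ) = 2 ^ 3 by norm_num]
    intro hd
    exact hp2 ((Nat.prime_dvd_prime_iff_eq hp.out Nat.prime_two).1 (hp.out.dvd_of_dvd_pow hd))
  obtain ⟨ρ, hρ⟩ := exists_cov p hperf hpn e
  have h2 : (2 : AlgebraicClosure F) ≠ 0 := by
    have : CharP (AlgebraicClosure F) p := charP_of_injective_algebraMap (algebraMap F (AlgebraicClosure F)).injective p
    intro h0
    have h1 : ((2 : ℕ) : AlgebraicClosure F) = 0 := by exact_mod_cast h0
    rw [CharP.cast_eq_zero_iff _ p] at h1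
    exact hp2 ((Nat.prime_dvd_prime_iff_eq hp.out Nat.prime_two).1 h1)
  apply eight_false hρ h2
  · rw [ker_comp e]
    exact H906.T14.coprime_card_scalars (P := P) hperf Nat.prime_three (by rw [hn]; norm_num)
  · rw [Module.finrank_fintype_fun_eq_card, hn]

end Cfsg.Agent.H424.M22
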