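import Mathlib
import Cfsg.Agent.H424.BlockTools
import Cfsg.Agent.SmallSimple.OrdersA

/-!
# More tools for degrees and Sylow subgroups of prime order

* `degree_cases` : `P` self-centralizing, `d` a degree prime to `p`: `d` is a degree of the block;
* `sq_add_le` : a degree not in the block is bounded by the sum of squares;
* `no_pred` : a nonabelian simple group with an irreducible character of degree `p - 1` in the
  principal `p`-block has self-centralizing Sylow `p`-subgroups;
* `degs_simple` : `degs_check` for simple groups.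
-/

set_option autoImplicit false

namespace Cfsg.Agent.H424.BlockTools2

open Cfsg Cfsg.Agent.Characters.Core Cfsg.Agent.H424.DegTools Cfsg.Agent.H424.CentBound
open Cfsg.Agent.H424.BlockTools
open Cfsg.Agent.SmallSimple.LocalData Cfsg.Agent.SmallSimple.DegreeData
open Subgroup

universe u

variable {G : Type u} [Group G] [Finite G]

theorem centralizer_eq_self {p : ℕ} [Fact p.Prime] {P : Sylow p G} (hP : Nat.card P = p)
    (hC : Nat.card (centralizer (P : Set G)) = p) : centralizer (P : Set G) = (P : Subgroup G) := by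
  have : IsCyclic (P : Subgroup G) := isCyclic_of_prime_card hP
  have : IsMulCommutative (P : Subgroup G) := inferInstance
  have h1 : (P : Subgroup G) ≤ centralizer (P : Set G) := Subgroup.le_centralizer (P : Subgroup G)
  exact (Subgroup.eq_of_le_of_card_ge h1 (by rw [hC, hP])).symm

theorem mem_principalBlock {p e t : ℕ} [Fact p.Prime] {M : Ideal AlgInt} (hM : IsPModular p M)
    {P : Sylow p G} (D : BlockData p M P e t) (hP : Nat.card P = p)
    (hC : Nat.card (centralizer (P : Set G)) = p) {χ : IrrCharacter G}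
    (hχ : ¬ p ∣ charDegree (χ : G → ℂ)) : χ ∈ principalBlock M G := by
  by_contra hn'
  have hp : p.Prime := Fact.out
  have : Nontrivial (P : Subgroup G) := by
    rw [← Finite.one_lt_card_iff_nontrivial, hP]
    exact hp.one_lt
  obtain ⟨x, hx⟩ := exists_ne (1 : (P : Subgroup G))
  have hx1 : (x : G) ≠ 1 := fun h => hx (Subtype.ext h)
  have h2 := D.vanish hM hP (centralizer_eq_self hP hC) hn' x.2 hx1
  refine CentBound.apply_ne_zero (p := p) (isIrr_isCharacter χ.2)
    (Blocks.Basic.irr_one_eq_charDegree χ.2) hχ (g := (x : G)) (m := 1) ?_ h2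
  have h3 : x ^ Nat.card P = 1 := pow_card_eq_one'
  rw [hP] at h3
  rw [pow_one]
  exact congrArg Subtype.val h3

/-- The degrees of the principal block. -/
theorem block_degree_cases {p e t : ℕ} [Fact p.Prime] {M : Ideal AlgInt}
    {P : Sylow p G} (D : BlockData p M P e t) (ht : e * t = p - 1) {χ : IrrCharacter G}
    (hχ : χ ∈ principalBlock M G) :
    charDegree (χ : G → ℂ) = 1 ∨ (∃ z ∈ D.degs, z.natAbs = charDegree (χ : G → ℂ)) ∨
      charDegree (χ : G → ℂ) = (1 + D.degs.sum).natAbs := by
  rcases (D.mem_block χ).1 hχ with h | h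
  · rcases List.mem_cons.1 h with h | h
    · left
      rw [h, D.coe_one]
      exact Blocks.Knorr.charDegree_of_natCast (by simp)
    · right; left
      exact ⟨D.sd χ, List.mem_map.2 ⟨χ, h, rfl⟩, D.natAbs_sd (List.mem_cons_of_mem _ h)⟩
  · right; right
    rw [D.dexc_eq ht, D.natAbs_dexc]
    exact D.deg_X χ h

theorem degree_cases {p e t : ℕ} [Fact p.Prime] {M : Ideal AlgInt} (hM : IsPModular p M)
    {P : Sylow p G} (D : BlockData p M P e t) (hP : Nat.card P = p)
    (hC : Nat.card (centralizer (P : Set G)) = p) (ht : e * t = p - 1) {d : ℕ}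
    (hd : d ∈ charDegrees G) (hpd : ¬ p ∣ d) :
    d = 1 ∨ (∃ z ∈ D.degs, z.natAbs = d) ∨ d = (1 + D.degs.sum).natAbs := by
  obtain ⟨χ, rfl⟩ := hd
  exact block_degree_cases D ht (mem_principalBlock hM D hP hC hpd)

/-- A bound for the degrees outside the principal block. -/
theorem sq_add_le {p e t : ℕ} {M : Ideal AlgInt} {P : Sylow p G} (D : BlockData p M P e t)
    {χ : IrrCharacter G} (hχ : χ ∉ principalBlock M G) :
    1 + (D.degs.map (· ^ 2)).sum + t * (D.f : ℤ) ^ 2 + (charDegree (χ : G → ℂ) : ℤ) ^ 2 ≤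
      Nat.card G := by
  have := finite_irr (G := G)
  have := Fintype.ofFinite (IrrCharacter G)
  rw [← D.sum_sq]
  have h1 := Finset.single_le_sum (f := fun χ : IrrCharacter G => (charDegree (χ : G → ℂ) : ℤ) ^ 2)
    (fun _ _ => sq_nonneg _) ((D.mem_others (χ := χ)).2 hχ)
  linarith

/-- A nonabelian simple group with an irreducible character of degree `p - 1` and sign `-1` in the
principal `p`-block has self-centralizing Sylow `p`-subgroups. -/
theorem no_pred [IsSimpleGroup G] (hG : ¬ (Nat.card G).Prime) {p e k t : ℕ} [Fact p.Prime]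
    (h : Data G p e k) (hk : 1 < k) {M : Ideal AlgInt} (hM : IsPModular p M) {P : Sylow p G}
    (D : BlockData p M P e t) : (1 - p : ℤ) ∉ D.degs := by
  classical
  intro hz
  have hp : p.Prime := Fact.out
  have := Fintype.ofFinite (P : Subgroup G)
  have hP := h.card_eq P
  obtain ⟨χ, hχ, hz⟩ := List.mem_map.1 hz
  have hχ' : χ ∈ D.one :: D.l := List.mem_cons_of_mem _ hχ
  have h1 : charDegree (χ : G → ℂ) = p - 1 := by
    rw [← D.natAbs_sd hχ', hz]
    have := hp.one_lt
    omega
  have hε : D.ε χ = -1 := by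
    rcases D.ε_mem χ hχ' with h2 | h2
    · exfalso
      rw [BlockData.sd, h2, h1] at hz
      have := hp.two_le
      omega
    · exact h2
  -- an element of prime order of the centralizer, not in `P`
  have hC := h.card_centralizer P
  obtain ⟨K, hK, hKk⟩ := h.loc P
  have hq : (k.minFac).Prime := Nat.minFac_prime (by omega)
  have : Fact (k.minFac).Prime := ⟨hq⟩
  obtain ⟨y, hy⟩ := exists_prime_orderOf_dvd_card' k.minFac (G := centralizer (P : Set G)) (by
    rw [hC]; exact (Nat.minFac_dvd k).trans (dvd_mul_left k p))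
  have hpk : ¬ p ∣ k := by
    intro hpk
    apply h.not_sq_dvd
    rw [← h.card_sylow_mul]
    obtain ⟨c, rfl⟩ := hpk
    exact ⟨Nat.card (Sylow p G) * e * c, by ring⟩
  have hyo : orderOf (y : G) = k.minFac := by rw [Subgroup.orderOf_coe, hy]
  have hyp : ¬ p ∣ orderOf (y : G) := by
    rw [hyo]
    intro h3
    exact hpk (h3.trans (Nat.minFac_dvd k))
  have hsum : ∑ x : (P : Subgroup G), (χ : G → ℂ) x = 0 := by
    have h4 : ∀ x : (P : Subgroup G), x ≠ 1 → (χ : G → ℂ) x = ((-1 : ℤ) : ℂ) := by
      intro x hx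
      rw [D.val' hχ' x.2 (fun h5 => hx (Subtype.ext h5)), hε]
    have h5 := SmallSimple.TheoremBCor.sum_const_off (f := fun x : (P : Subgroup G) =>
      (χ : G → ℂ) x) (c := ((-1 : ℤ) : ℂ)) h4
    rw [h5]
    have h6 : (χ : G → ℂ) ((1 : (P : Subgroup G)) : G) = (p : ℂ) - 1 := by
      rw [OneMemClass.coe_one, Blocks.Basic.irr_one_eq_charDegree χ.2, h1,
        Nat.cast_sub hp.one_lt.le, Nat.cast_one]
    have h7 : (Nat.card (P : Subgroup G) : ℂ) = p := by exact_mod_cast hP
    rw [h6, h7]
    push_cast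
    ring
  have hmem : χ ∈ principalBlock M G := (D.mem_block χ).2 (Or.inl hχ')
  have h8 := SmallSimple.TheoremBCor.apply_eq_of_sum_eq_zero hM P hP hmem hsum y.2 hyp
  have hcomm := MTwelve.SmallDegree.commutator_eq_top_of_card hG
  have hne : (χ : G → ℂ) ≠ 1 := by
    intro h9
    have h3 : χ = D.one := Subtype.ext (h9.trans D.coe_one.symm)
    have h4 := D.nodup
    rw [List.nodup_cons] at h4
    exact h4.1 (h3 ▸ hχ)
  have h9 := MTwelve.SmallDegree.eq_one_of_norm_eq hcomm χ.2 hne (g := (y : G)) (by rw [h8])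
  rw [h9, orderOf_one] at hyo
  exact hq.one_lt.ne hyo

/-- The degree check for nonabelian simple groups. -/
theorem degs_simple [IsSimpleGroup G] {p : ℕ} [Fact p.Prime] {M : Ideal AlgInt}
    {P : Sylow p G} {e t : ℕ} (D : BlockData p M P e t) (hP : Nat.card P = p)
    (ht : e * t = p - 1) {n : ℕ} (hn : Nat.card G = n) (hn' : ¬ n.Prime) (h2 : 2 ∣ n)
    {L : List (ℕ × ℕ)} (hL : ∀ x ∈ L, x.1.Prime) (hLn : (L.map fun x => x.1 ^ x.2).prod = n)
    {C Ds : List ℤ} (hC : C.Pairwise (· < ·)) {o : ℤ} {w : ℕ} {Q : List ℤ → Bool}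
    (h : SmallSimple.DegreeCheck.kcheck p e t n L (fun z => decide (3 ≤ z.natAbs)) (fun _ => true)
      C Ds o w 0 (fun _ => 0) 0 Q = true) : Q D.degs = true := by
  refine SmallSimple.DegreeCheck.degs_check D hP ht hn hL hLn (F := fun z => decide (3 ≤ z.natAbs))
    (FX := fun _ => true) (fun z hz => ?_) rfl hC (Or.inl rfl) h
  rw [decide_eq_true_eq]
  subst hn
  exact degs_three_le hn' h2 D z hz

end Cfsg.Agent.H424.BlockTools2
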