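import Mathlib
import Cfsg.Agent.Lib.Cores
import Cfsg.Agent.Lib.MinNormal
import Cfsg.Agent.SignalizersComponents.ComponentExists
import Cfsg.Agent.OddOrderLocal.RankTwoFitting
import Cfsg.Agent.SmallSimple.DegreePPlusOne
import Cfsg.Agent.SmallSimple.PrimeLocal
import Cfsg.Agent.BpSpor.Cen
import Cfsg.Agent.S0493
import Cfsg.Agent.QTComp.Basic

/-!
# Group theoretic tools for groups of small order with a non-normal Sylow subgroup of prime order

* `two_transitive` : `|P| = p`, `n_p = p + 1` ⟹ 2-transitive on the Sylow `p`-subgroups;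
* `solvable_case` : in a solvable group with a non-normal Sylow subgroup of prime order `p` some
  normal `r`-subgroup is acted on nontrivially, whence a congruence `r ^ c ≡ 1 [MOD p]`;
* `exists_reduction` : in a nonsolvable group of small order, a simple normal subgroup modulo the
  solvable radical.
-/

set_option autoImplicit false

namespace Cfsg.Agent.H424.GroupTools

open Subgroup Cfsg

universe u

variable {G : Type u} [Group G] [Finite G]

/-- If `|P| = p` and `n_p = p + 1` then `G` is 2-transitive on its Sylow `p`-subgroups. -/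
theorem two_transitive {p : ℕ} [hp : Fact p.Prime] (P : Sylow p G) (hP : Nat.card P = p)
    (hn : Nat.card (Sylow p G) = p + 1) : MulAction.IsMultiplyPretransitive G (Sylow p G) 2 := by
  rw [MulAction.is_two_pretransitive_iff]
  have hcard : ∀ R : Sylow p G, Nat.card R = p := fun R =>
    (Nat.card_congr (P.equiv R).symm.toEquiv).trans hP
  intro a b c d hab hcd
  obtain ⟨g, hg⟩ := MulAction.exists_smul_eq G a c
  have hb : g • b ≠ c := by
    rw [← hg]
    exact fun h => hab (smul_left_cancel g h).symm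
  obtain ⟨x, hx, hx2⟩ := SmallSimple.DegreePPlusOne.exists_smul_eq c (hcard c) hn (g • b) d hb
    hcd.symm
  refine ⟨x * g, ?_, ?_⟩
  · rw [mul_smul, hg]
    exact Sylow.smul_eq_iff_mem_normalizer.2 (le_normalizer hx)
  · rw [mul_smul, hx2]

/-- A generator of a Sylow subgroup of prime order. -/
theorem exists_generator {p : ℕ} [hp : Fact p.Prime] (P : Sylow p G) (hP : Nat.card P = p) :
    ∃ x : G, orderOf x = p ∧ zpowers x = (P : Subgroup G) := by
  have h1 : 1 < Nat.card P := by rw [hP]; exact hp.out.one_lt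
  obtain ⟨x, hx, hx1⟩ := (Subgroup.one_lt_card_iff_ne_bot (P : Subgroup G)).1 h1 |>
    (Subgroup.ne_bot_iff_exists_ne_one (H := (P : Subgroup G))).1 |> fun ⟨x, hx⟩ =>
      (⟨x.1, x.2, fun h => hx (Subtype.ext h)⟩ : ∃ x : G, x ∈ (P : Subgroup G) ∧ x ≠ 1)
  have h2 : orderOf x ∣ p := by
    have := Subgroup.orderOf_dvd_natCard (P : Subgroup G) hx
    rwa [show Nat.card (P : Subgroup G) = p from hP] at this
  have h3 : orderOf x = p := by
    rcases (Nat.dvd_prime hp.out).1 h2 with h | h
    · exact absurd (orderOf_eq_one_iff.1 h) hx1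
    · exact h
  refine ⟨x, h3, ?_⟩
  apply Subgroup.eq_of_le_of_card_ge
  · rwa [zpowers_le]
  · rw [Nat.card_zpowers, h3]
    exact le_of_eq hP

/-- **The solvable case.** -/
theorem solvable_case [Group.IsSolvable G] {p : ℕ} [hp : Fact p.Prime] (P : Sylow p G)
    (hP : Nat.card P = p) (hn : ¬ (P : Subgroup G).Normal) :
    ∃ (x : G) (r a b : ℕ) (Q : Subgroup G), orderOf x = p ∧ r.Prime ∧ r ≠ p ∧ Q.Normal ∧
      Nat.card Q = r ^ a ∧ Nat.card (Q ⊓ centralizer ({x} : Set G) : Subgroup G) = r ^ b ∧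
      b < a ∧ p ∣ r ^ (a - b) - 1 := by
  obtain ⟨x, hx, hxP⟩ := exists_generator P hP
  have hxmem : x ∈ (P : Subgroup G) := hxP ▸ mem_zpowers x
  -- `O_p(G) = 1`
  have hcore : pCore p G = ⊥ := by
    by_contra hne
    apply hn
    have h1 := Lib.Cores.pCore_le_sylow P
    have h2 : pCore p G = (P : Subgroup G) := by
      apply Subgroup.eq_of_le_of_card_ge h1
      have h3 : Nat.card (pCore p G) ∣ p := by
        have := Subgroup.card_dvd_of_le h1
        rwa [show Nat.card (P : Subgroup G) = p from hP] at this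
      rcases (Nat.dvd_prime hp.out).1 h3 with h | h
      · exact absurd (Subgroup.card_eq_one.1 h) hne
      · exact le_of_eq (hP.trans h.symm)
    rw [← h2]
    exact Lib.Cores.pCore_normal p
  -- some core is not centralised
  obtain ⟨r, hr, hxr⟩ : ∃ r : ℕ, r.Prime ∧ x ∉ centralizer (pCore r G : Set G) := by
    by_contra hcon
    push Not at hcon
    obtain ⟨-, h2⟩ := OddOrderLocal.RankTwoFitting.mem_fitting_of_forall_mem_centralizer hcon
    have h3 : (P : Subgroup G) ≤ pCore p G := by
      refine OddOrderLocal.RankTwoFitting.le_pCore_of_le_fitting P.2 ?_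
      rw [← hxP, zpowers_le]
      exact h2
    rw [hcore, le_bot_iff, ← Subgroup.card_eq_one] at h3
    rw [show Nat.card (P : Subgroup G) = p from hP] at h3
    exact hp.out.one_lt.ne' h3
  have hrp : r ≠ p := by
    rintro rfl
    apply hxr
    rw [hcore]
    simp [mem_centralizer_iff]
  have : Fact r.Prime := ⟨hr⟩
  obtain ⟨a, ha⟩ := (Lib.Cores.pCore_isPGroup (G := G) r).exists_card_eq
  have hle : pCore r G ⊓ centralizer ({x} : Set G) ≤ pCore r G := inf_le_left
  obtain ⟨b, hb⟩ := ((Lib.Cores.pCore_isPGroup (G := G) r).to_le hle).exists_card_eq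
  have hQn : (pCore r G).Normal := Lib.Cores.pCore_normal r
  have hmod := BpSpor.Cen.card_fix (N := pCore r G) hx (fun n hn => hQn.conj_mem n hn x)
  rw [ha, hb] at hmod
  have hlt : b < a := by
    have h1 : Nat.card (pCore r G ⊓ centralizer ({x} : Set G) : Subgroup G) <
        Nat.card (pCore r G) := by
      refine lt_of_le_of_ne (Nat.le_of_dvd Nat.card_pos (Subgroup.card_dvd_of_le hle)) ?_
      intro h
      apply hxr
      have h2 : pCore r G ⊓ centralizer ({x} : Set G) = pCore r G :=
        Subgroup.eq_of_le_of_card_ge hle (le_of_eq h.symm)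
      rw [mem_centralizer_iff]
      intro y hy
      have h3 : y ∈ centralizer ({x} : Set G) := (inf_eq_left.1 h2) hy
      exact (mem_centralizer_singleton_iff.1 h3)
    rw [ha, hb] at h1
    exact (Nat.pow_lt_pow_iff_right hr.one_lt).1 h1
  refine ⟨x, r, a, b, pCore r G, hx, hr, hrp, hQn, ha, hb, hlt, ?_⟩
  have h1 : r ^ a = r ^ b * r ^ (a - b) := by
    rw [← pow_add]; congr 1; omega
  have h2 : p ∣ r ^ a - r ^ b := (Nat.modEq_iff_dvd' (Nat.pow_le_pow_right hr.pos hlt.le)).1 hmod.symm
  rw [h1, show r ^ b * r ^ (a - b) - r ^ b = r ^ b * (r ^ (a - b) - 1) by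
    rw [Nat.mul_sub, mul_one]] at h2
  rcases (Nat.Prime.dvd_mul hp.out).1 h2 with h | h
  · exact absurd ((Nat.prime_dvd_prime_iff_eq hp.out hr).1 (hp.out.dvd_of_dvd_pow h)).symm hrp
  · exact h

/-- **The nonsolvable case**: modulo the solvable radical there is a simple normal subgroup. -/
theorem exists_reduction (hns : ¬ Group.IsSolvable G) (hlt : Nat.card G < 6241)
    (h3600 : ¬ 3600 ∣ Nat.card G) :
    ∃ (R : Subgroup G) (_ : R.Normal), Group.IsSolvable R ∧
      (∀ N : Subgroup (G ⧸ R), N.Normal → Group.IsSolvable N → N = ⊥) ∧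
      ∃ T : Subgroup (G ⧸ R), T.Normal ∧ IsSimpleGroup T ∧ ¬ IsMulCommutative T := by
  obtain ⟨R, hR⟩ := QTComp.Basic.exists_isRad G
  have hRn : R.Normal := hR.normal
  have hrad : ∀ N : Subgroup (G ⧸ R), N.Normal → Group.IsSolvable N → N = ⊥ :=
    fun N hN hs => hR.eq_bot_of_subnormal hN.isSubnormal hs
  refine ⟨R, hRn, hR.solv, hrad, ?_⟩
  have htop : (⊤ : Subgroup (G ⧸ R)) ≠ ⊥ := by
    intro h
    apply hns
    have h1 : Subsingleton (G ⧸ R) := by
      rw [← Subgroup.subsingleton_iff, ← subsingleton_iff_bot_eq_top]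
      exact h.symm
    have h2 : R = ⊤ := by
      rw [eq_top_iff]
      intro g _
      have : (QuotientGroup.mk g : G ⧸ R) = QuotientGroup.mk 1 := Subsingleton.elim _ _
      rwa [QuotientGroup.mk_one, QuotientGroup.eq_one_iff] at this
    have h3 := hR.solv
    rw [h2] at h3
    exact (Group.isSolvable_of_surjective (f := (Subgroup.topEquiv (G := G)).toMonoidHom)
      Subgroup.topEquiv.surjective)
  -- a minimal normal subgroup
  obtain ⟨N, hNmem, hNmin⟩ := Set.Finite.exists_minimal
    (s := {N : Subgroup (G ⧸ R) | N.Normal ∧ N ≠ ⊥}) (Set.toFinite _) ⟨⊤, inferInstance, htop⟩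
  obtain ⟨hNn, hN0⟩ := hNmem
  have hmin : ∀ M : Subgroup (G ⧸ R), M.Normal → M ≤ N → M = ⊥ ∨ M = N := by
    intro M hM hMN
    by_cases h : M = ⊥
    · exact Or.inl h
    · exact Or.inr (le_antisymm hMN (hNmin ⟨hM, h⟩ hMN))
  obtain ⟨T, m, hTN, hTs, hm, ⟨e⟩⟩ := Lib.MinNormal.exists_mulEquiv_pi N hN0 hmin
  have hNns : ¬ Group.IsSolvable N := fun h => hN0 (hrad N hNn h)
  have hTna : ¬ IsMulCommutative T := by
    intro h
    apply hNns
    have h1 : Group.IsSolvable (Fin m → T) := by
      have h2 : ∀ a b : (Fin m → T), a * b = b * a := fun a b => by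
        funext i
        exact h.is_comm.comm (a i) (b i)
      exact Group.isSolvable_of_comm h2
    exact Group.isSolvable_of_surjective (f := e.symm.toMonoidHom) e.symm.surjective
  have hcardN : Nat.card N = Nat.card T ^ m := by
    rw [Nat.card_congr e.toEquiv, Nat.card_fun, Nat.card_eq_fintype_card (α := Fin m),
      Fintype.card_fin]
  have hdvd : Nat.card N ∣ Nat.card G :=
    (Subgroup.card_subgroup_dvd_card N).trans (Subgroup.card_quotient_dvd_card R)
  have hTpos : 0 < Nat.card T := Nat.card_pos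
  have hm1 : m = 1 := by
    by_contra hne
    have hm2 : 2 ≤ m := by omega
    have h1 : Nat.card T ^ 2 ∣ Nat.card G := (pow_dvd_pow _ hm2).trans (hcardN ▸ hdvd)
    have h2 : Nat.card T ^ 2 ≤ Nat.card G := Nat.le_of_dvd Nat.card_pos h1
    have h3 : Nat.card T ≤ 100 := by nlinarith
    have h4 : ¬ IsCyclic T := by
      intro h
      exact hTna ⟨⟨fun a b => (IsCyclic.commGroup (α := T)).mul_comm a b⟩⟩
    have h5 := S0493.result h4 h3
    rw [h5] at h1
    exact h3600 h1
  subst hm1
  have e2 : N ≃* T := e.trans (MulEquiv.funUnique (Fin 1) T)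
  refine ⟨N, hNn, ?_, ?_⟩
  · have := hTs
    exact e2.isSimpleGroup
  · intro h
    apply hTna
    exact ⟨⟨fun a b => e2.symm.injective (by
      rw [map_mul, map_mul]; exact h.is_comm.comm _ _)⟩⟩

/-- If the simple section has the order of the group, the group is simple. -/
theorem isSimpleGroup_of_card {R : Subgroup G} [R.Normal] (T : Subgroup (G ⧸ R))
    [IsSimpleGroup T] (h : Nat.card T = Nat.card G) : IsSimpleGroup G := by
  have h1 : Nat.card T ∣ Nat.card (G ⧸ R) := Subgroup.card_subgroup_dvd_card T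
  have h2 : Nat.card (G ⧸ R) ∣ Nat.card G := Subgroup.card_quotient_dvd_card R
  have h3 : Nat.card (G ⧸ R) = Nat.card G := Nat.dvd_antisymm h2 (h ▸ h1)
  have hT : T = ⊤ := Subgroup.eq_top_of_card_eq T (h.trans h3.symm)
  have hinj : Function.Bijective (QuotientGroup.mk' R) :=
    (Nat.bijective_iff_surjective_and_card _).2 ⟨QuotientGroup.mk'_surjective R, h3.symm⟩
  have e : G ≃* (G ⧸ R) := MulEquiv.ofBijective _ hinj
  subst hT
  have : IsSimpleGroup (G ⧸ R) := (Subgroup.topEquiv (G := G ⧸ R)).symm.isSimpleGroup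
  exact e.isSimpleGroup

/-! ### Prime powers dividing `n` and congruent to `1` modulo `p` -/

/-- The primes used in the checks. -/
def small : List ℕ := [2, 3, 5, 7, 11, 13, 17, 19]

/-- All divisors of `n` congruent to `1` modulo `p` are `≤ 1`, divisible by two primes, or in `L`. -/
def chk (n p : ℕ) (L : List ℕ) : Bool :=
  (List.range (n + 1)).all fun m => !(Nat.beq (n % m) 0 && Nat.beq (m % p) 1) || Nat.ble m 1 ||
    Nat.ble 2 ((small.filter (fun q => Nat.beq (m % q) 0)).length) || L.any (Nat.beq m)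

theorem mem_of_chk {n p : ℕ} {L : List ℕ} (h : chk n p L = true) (hn : 0 < n) (hp : 1 < p)
    {r c : ℕ} (hr : r.Prime) (hc : c ≠ 0) (h1 : r ^ c ∣ n) (h2 : p ∣ r ^ c - 1) : r ^ c ∈ L := by
  rw [chk, List.all_eq_true] at h
  have h3 := h (r ^ c) (List.mem_range.2 (Nat.lt_succ_of_le (Nat.le_of_dvd hn h1)))
  have h4 : 1 < r ^ c := Nat.one_lt_pow hc hr.one_lt
  have h5 : r ^ c % p = 1 := by
    obtain ⟨k, hk⟩ := h2
    have : r ^ c = 1 + p * k := by omega
    rw [this, Nat.add_mul_mod_self_left, Nat.mod_eq_of_lt hp]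
  simp only [Bool.or_eq_true, Bool.not_eq_true', Bool.and_eq_false_iff] at h3
  rcases h3 with ((h3 | h3) | h3) | h3
  · rcases h3 with h3 | h3
    · rw [← Bool.not_eq_true, Nat.beq_eq] at h3
      exact absurd (Nat.mod_eq_zero_of_dvd h1) h3
    · rw [← Bool.not_eq_true, Nat.beq_eq] at h3
      exact absurd h5 h3
  · have := Nat.le_of_ble_eq_true h3
    omega
  · exfalso
    have h6 := Nat.le_of_ble_eq_true h3
    have h7 : small.Nodup := by decide
    have h8 : ∀ q ∈ small.filter (fun q => Nat.beq (r ^ c % q) 0), q = r := by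
      intro q hq
      rw [List.mem_filter, Nat.beq_eq] at hq
      have hqp : q.Prime := by
        have := hq.1
        simp only [small, List.mem_cons, List.mem_nil_iff, or_false] at this
        rcases this with h | h | h | h | h | h | h | h <;> rw [h] <;> norm_num
      exact (Nat.prime_dvd_prime_iff_eq hqp hr).1 (hqp.dvd_of_dvd_pow
        (Nat.dvd_of_mod_eq_zero hq.2))
    have h9 : (small.filter (fun q => Nat.beq (r ^ c % q) 0)).Nodup := h7.filter _
    rw [List.eq_replicate_of_mem h8] at h9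
    exact absurd (List.nodup_replicate.1 h9) (by omega)
  · rw [List.any_eq_true] at h3
    obtain ⟨x, hx, h6⟩ := h3
    rw [Nat.beq_eq] at h6
    rw [h6]
    exact hx

/-- The solvable case when no prime power dividing the order is `1` modulo `p`. -/
theorem not_solvable {p : ℕ} [hp : Fact p.Prime] (P : Sylow p G) (hP : Nat.card P = p)
    (hn : ¬ (P : Subgroup G).Normal) {n : ℕ} (hcard : Nat.card G = n) (h : chk n p [] = true) :
    ¬ Group.IsSolvable G := by
  intro hs
  obtain ⟨x, r, a, b, Q, hx, hr, hrp, hQ, ha, hb, hlt, hdvd⟩ := solvable_case P hP hn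
  have h1 : r ^ (a - b) ∣ n := by
    rw [← hcard]
    exact ((pow_dvd_pow r (Nat.sub_le a b)).trans (ha ▸ Subgroup.card_subgroup_dvd_card Q))
  have h2 := mem_of_chk h (hcard ▸ Nat.card_pos) hp.out.one_lt hr (by omega) h1 hdvd
  exact absurd h2 (List.not_mem_nil)

/-- A group of order `60` with a non-normal Sylow `5`-subgroup is simple. -/
theorem isSimpleGroup_sixty (hcard : Nat.card G = 60) {P : Sylow 5 G}
    (hn : ¬ (P : Subgroup G).Normal) : IsSimpleGroup G := by
  have : Fact (Nat.Prime 5) := ⟨by norm_num⟩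
  have hP : Nat.card P = 5 := SmallSimple.PrimeLocal.card_of_not_sq_dvd
    (by rw [hcard]; norm_num) (by rw [hcard]; norm_num) P
  have hns : ¬ Group.IsSolvable G := not_solvable P hP hn hcard (by decide +kernel)
  obtain ⟨R, hR, hRs, hrad, T, hTn, hTs, hTna⟩ := exists_reduction hns (by omega)
    (by rw [hcard]; norm_num)
  have h1 : Nat.card T ∣ 60 := by
    rw [← hcard]
    exact (Subgroup.card_subgroup_dvd_card T).trans (Subgroup.card_quotient_dvd_card R)
  have h2 : Nat.card T = 60 := by
    refine S0493.result ?_ (by have := Nat.le_of_dvd (by norm_num) h1; omega)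
    intro h
    exact hTna ⟨⟨fun a b => (IsCyclic.commGroup (α := T)).mul_comm a b⟩⟩
  exact isSimpleGroup_of_card T (h2.trans hcard.symm)

end Cfsg.Agent.H424.GroupTools
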