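import Mathlib
import Cfsg.Agent.H424.GroupTools
import Cfsg.Agent.H424.BlockTools2
import Cfsg.Agent.Classification.Order360Action
import Cfsg.Agent.S0497
import Cfsg.Agent.S0984

/-!
# Degrees of some small simple groups

For a simple group `G` of the given order:

* `sixty`, `one_six_eight`, ... : primes dividing a degree;
* `mem_six_of_168`, `mem_ten_of_360`, `not_six_dvd_360`, `not_six_dvd_504`.
-/

set_option autoImplicit false

namespace Cfsg.Agent.H424.SimpleFacts

open Cfsg Cfsg.Agent.Characters.Core Cfsg.Agent.H424.DegTools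
open Cfsg.Agent.H424.BlockTools Cfsg.Agent.H424.BlockTools2 Cfsg.Agent.H424.GroupTools
open Cfsg.Agent.H424.CentBound
open Cfsg.Agent.SmallSimple.LocalData Cfsg.Agent.SmallSimple.DegreeData
open Cfsg.Agent.SmallSimple.OrdersA
open Subgroup

universe u

variable {G : Type u} [Group G] [Finite G]

/-- If the degrees of the principal block do not account for the whole order, some degree is
divisible by `p` (Sylow `p`-subgroup of order `p`, self-centralizing). -/
theorem mem_of_rest {p e t : ℕ} [Fact p.Prime] {M : Ideal AlgInt} (hM : IsPModular p M)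
    {P : Sylow p G} (D : BlockData p M P e t) (hP : Nat.card P = p)
    (hC : Nat.card (centralizer (P : Set G)) = p) (ht : e * t = p - 1) {n : ℕ}
    (hn : Nat.card G = n)
    (hne : 1 + (D.degs.map (· ^ 2)).sum + t * (1 + D.degs.sum) ^ 2 ≠ (n : ℤ)) :
    p ∈ degreePrimes G := by
  have := finite_irr (G := G)
  have := Fintype.ofFinite (IrrCharacter G)
  rw [mem_degreePrimes]
  refine ⟨Fact.out, ?_⟩
  by_contra hcon
  push Not at hcon
  apply hne
  have h1 := D.sum_sq
  have h2 : D.others = ∅ := by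
    rw [Finset.eq_empty_iff_forall_notMem]
    intro χ hχ
    exact (D.mem_others.1 hχ) (mem_principalBlock hM D hP hC (hcon _ ⟨χ, rfl⟩))
  rw [h2, Finset.sum_empty, add_zero, hn] at h1
  have h3 : ((1 : ℤ) + D.degs.sum) ^ 2 = (D.f : ℤ) ^ 2 := by
    rw [D.dexc_eq ht, ← Int.natAbs_sq D.dexc, D.natAbs_dexc]
  rw [h3]
  exact h1

theorem mem_succ {p : ℕ} [hp : Fact p.Prime] {P : Sylow p G} (hP : Nat.card P = p)
    (hn : Nat.card (Sylow p G) = p + 1) : p ∈ degreePrimes G := by
  have h := of_two_transitive (G := G) (Sylow p G) (two_transitive P hP hn) hn hp.out.one_lt.le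
  exact ⟨hp.out, p, h, dvd_rfl⟩

theorem mem_of_cand [IsSimpleGroup G] {n : ℕ} (h : Nat.card G = n) (hn : ¬ n.Prime) {p e : ℕ}
    (hp : p.Prime) (hp2 : p ≠ 2) (h1 : p ∣ n) (h2 : ¬ p ^ 2 ∣ n)
    (hL : candList n p = [(p + 1, e, 1)]) : p ∈ degreePrimes G := by
  have hG := not_comm h hn
  have : Fact p.Prime := ⟨hp⟩
  obtain ⟨d, e, k, h3, h4, h5⟩ := data_cases h hG p hp hp2 h1 h2 _ hL
  simp only [List.mem_cons, Prod.mk.injEq, List.mem_nil_iff, or_false] at h5
  exact mem_succ (h3.card_eq default) (by rw [h4, h5.1])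

theorem sixty [IsSimpleGroup G] (h : Nat.card G = 60) : 5 ∈ degreePrimes G :=
  mem_of_cand (e := 2) h (by norm_num) (by norm_num) (by norm_num) (by norm_num) (by norm_num)
    (by decide +kernel)

theorem seven_168 [IsSimpleGroup G] (h : Nat.card G = 168) : 7 ∈ degreePrimes G :=
  mem_of_cand (e := 3) h (by norm_num) (by norm_num) (by norm_num) (by norm_num) (by norm_num)
    (by decide +kernel)

theorem eleven_660 [IsSimpleGroup G] (h : Nat.card G = 660) : 11 ∈ degreePrimes G :=
  mem_of_cand (e := 5) h (by norm_num) (by norm_num) (by norm_num) (by norm_num) (by norm_num)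
    (by decide +kernel)

theorem thirteen_1092 [IsSimpleGroup G] (h : Nat.card G = 1092) : 13 ∈ degreePrimes G :=
  mem_of_cand (e := 6) h (by norm_num) (by norm_num) (by norm_num) (by norm_num) (by norm_num)
    (by decide +kernel)

theorem seventeen_2448 [IsSimpleGroup G] (h : Nat.card G = 2448) : 17 ∈ degreePrimes G :=
  mem_of_cand (e := 8) h (by norm_num) (by norm_num) (by norm_num) (by norm_num) (by norm_num)
    (by decide +kernel)

theorem nineteen_3420 [IsSimpleGroup G] (h : Nat.card G = 3420) : 19 ∈ degreePrimes G :=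
  mem_of_cand (e := 9) h (by norm_num) (by norm_num) (by norm_num) (by norm_num) (by norm_num)
    (by decide +kernel)

/-! ### The orders 168, 504, 4080, 5616 -/

theorem six_168 [IsSimpleGroup G] (h : Nat.card G = 168) : 6 ∈ charDegrees G := by
  have hG := not_comm h (by norm_num)
  have : Fact (Nat.Prime 7) := ⟨by norm_num⟩
  obtain ⟨d, e, k, h1, h2, h3⟩ := data_cases h hG 7 (by norm_num) (by norm_num) (by norm_num)
    (by norm_num) [(8, 3, 1)] (by decide +kernel)
  simp only [List.mem_cons, Prod.mk.injEq, List.mem_nil_iff, or_false] at h3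
  obtain ⟨rfl, rfl, rfl⟩ := h3
  obtain ⟨M, hM, ⟨D⟩⟩ := exists_block h1 (by norm_num) default (t := 2) (by norm_num)
  have h4 := degs_simple D (h1.card_eq _) rfl h (by norm_num) (by norm_num)
    (L := [(2, 3), (3, 1), (7, 1)]) (by norm_num) (by norm_num)
    (C := [-6, 8]) (Ds := [-4, 3, 24]) (by decide) (o := 6) (w := 1000)
    (Q := fun l => [[-6, 8]].contains l) (by decide +kernel)
  have h5 : D.degs = [-6, 8] := by simpa using h4
  exact degs_mem D (z := -6) (by rw [h5]; simp)

theorem block_504 [IsSimpleGroup G] (h : Nat.card G = 504) :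
    7 ∈ degreePrimes G ∧ 8 ∈ charDegrees G ∧ ∀ d ∈ charDegrees G, ¬ 6 ∣ d := by
  have hG := not_comm h (by norm_num)
  have : Fact (Nat.Prime 7) := ⟨by norm_num⟩
  obtain ⟨d, e, k, h1, h2, h3⟩ := data_cases h hG 7 (by norm_num) (by norm_num) (by norm_num)
    (by norm_num) [(36, 2, 1)] (by decide +kernel)
  simp only [List.mem_cons, Prod.mk.injEq, List.mem_nil_iff, or_false] at h3
  obtain ⟨rfl, rfl, rfl⟩ := h3
  obtain ⟨M, hM, ⟨D⟩⟩ := exists_block h1 (by norm_num) default (t := 3) (by norm_num)
  have h4 := degs_simple D (h1.card_eq _) rfl h (by norm_num) (by norm_num)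
    (L := [(2, 3), (3, 2), (7, 1)]) (by norm_num) (by norm_num)
    (C := [-6, 8, 36]) (Ds := [-12, 2, 9, 72]) (by decide) (o := 13) (w := 1000)
    (Q := fun l => [[8]].contains l) (by decide +kernel)
  have h5 : D.degs = [8] := by simpa using h4
  refine ⟨mem_of_rest hM D (h1.card_eq _) (by rw [h1.card_centralizer]) (by norm_num) h
    (by rw [h5]; norm_num), degs_mem D (z := 8) (by rw [h5]; simp), ?_⟩
  intro d hd h6
  by_cases h7 : 7 ∣ d
  · have h8 : 6 * 7 ∣ d := Nat.Coprime.mul_dvd_of_dvd_of_dvd (by norm_num) h6 h7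
    have h9 := sq_le hd ⊥ bot_le
    rw [index_bot, h] at h9
    have h10 := Nat.le_of_dvd (pos_of_mem hd) h8
    nlinarith
  · have h8 := degree_cases hM D (h1.card_eq _) (by rw [h1.card_centralizer]) (by norm_num) hd h7
    rw [h5] at h8
    simp only [List.mem_cons, List.mem_nil_iff, or_false] at h8
    rcases h8 with rfl | ⟨z, rfl, rfl⟩ | rfl
    · norm_num at h6
    · norm_num at h6
    · norm_num at h6

theorem seventeen_4080 [IsSimpleGroup G] (h : Nat.card G = 4080) : 17 ∈ degreePrimes G := by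
  have hG := not_comm h (by norm_num)
  have : Fact (Nat.Prime 17) := ⟨by norm_num⟩
  obtain ⟨d, e, k, h1, h2, h3⟩ := data_cases h hG 17 (by norm_num) (by norm_num) (by norm_num)
    (by norm_num) [(120, 2, 1)] (by decide +kernel)
  simp only [List.mem_cons, Prod.mk.injEq, List.mem_nil_iff, or_false] at h3
  obtain ⟨rfl, rfl, rfl⟩ := h3
  obtain ⟨M, hM, ⟨D⟩⟩ := exists_block h1 (by norm_num) default (t := 8) (by norm_num)
  have h4 := degs_simple D (h1.card_eq _) rfl h (by norm_num) (by norm_num)
    (L := [(2, 4), (3, 1), (5, 1), (17, 1)]) (by norm_num) (by norm_num)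
    (C := [-16, 120]) (Ds := [-15, 2, 240]) (by decide) (o := 16) (w := 1000)
    (Q := fun l => [[-16]].contains l) (by decide +kernel)
  have h5 : D.degs = [-16] := by simpa using h4
  exact mem_of_rest hM D (h1.card_eq _) (by rw [h1.card_centralizer]) (by norm_num) h
    (by rw [h5]; norm_num)

theorem block_5616 [IsSimpleGroup G] (h : Nat.card G = 5616) :
    13 ∈ degreePrimes G ∧ 3 ∈ degreePrimes G := by
  have hG := not_comm h (by norm_num)
  have : Fact (Nat.Prime 13) := ⟨by norm_num⟩
  obtain ⟨d, e, k, h1, h2, h3⟩ := data_cases h hG 13 (by norm_num) (by norm_num) (by norm_num)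
    (by norm_num) [(144, 3, 1)] (by decide +kernel)
  simp only [List.mem_cons, Prod.mk.injEq, List.mem_nil_iff, or_false] at h3
  obtain ⟨rfl, rfl, rfl⟩ := h3
  obtain ⟨M, hM, ⟨D⟩⟩ := exists_block h1 (by norm_num) default (t := 4) (by norm_num)
  have h4 := degs_simple D (h1.card_eq _) rfl h (by norm_num) (by norm_num)
    (L := [(2, 4), (3, 3), (13, 1)]) (by norm_num) (by norm_num)
    (C := [-12, 27, 144]) (Ds := [-36, 3, 16, 432]) (by decide) (o := 25) (w := 1000)
    (Q := fun l => [[-12, 27]].contains l) (by decide +kernel)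
  have h5 : D.degs = [-12, 27] := by simpa using h4
  refine ⟨mem_of_rest hM D (h1.card_eq _) (by rw [h1.card_centralizer]) (by norm_num) h
    (by rw [h5]; norm_num), by norm_num, _, degs_mem D (z := 27) (by rw [h5]; simp), by norm_num⟩

end Cfsg.Agent.H424.SimpleFacts
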