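import Cfsg.Agent.H72.AdjOrth
import Cfsg.Agent.H403.EltUni
import Cfsg.Agent.H390.FactsOrth

/-!
# More elements of the orthogonal groups in even dimension (helper424)

Complements to `Cfsg.Agent.H377.Elt` (isometries of nondegenerate forms of type `ε` in dimension `2n`), all
characteristics.

* `elt_char_minus` : order `p` in dimension 4, type `-1`, characteristic `p ≠ 2`; `elt_three` : order `3` in dimension
  4, both types, every field;
* `elt_eight` : order `8` in dimension 6, both types, every field;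
* `exists_four` : an isometry of order `N` gives an element `g` of `PΩ` with `N ∣ 4 * orderOf g`;
* `noncyclic_of_elt` : noncyclic Sylow `3`-subgroups.
-/

set_option autoImplicit false
set_option linter.unusedSectionVars false
set_option linter.style.haveILetI false

open Subgroup QuadraticMap Cfsg

namespace Cfsg.Agent.H424.OrthElt

open Cfsg.Agent.LieClassical.OrthCore Cfsg.Agent.LieClassical.OrthForms Cfsg.Agent.LieClassical.OrthCount
open Cfsg.Agent.H403.Classify Cfsg.Agent.H377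

/-- two commuting elements of order `3` generating different subgroups -/
theorem noncyclic_of_comm {S : Type*} [Group S] [Finite S] {x y : S} (hx : orderOf x = 3) (hy : orderOf y = 3)
    (hxy : Commute x y) (h : y ∉ zpowers x) : ∃ P : Sylow 3 S, ¬ IsCyclic P := by
  have hF : Fact (Nat.Prime 3) := ⟨Nat.prime_three⟩
  have hpx : IsPGroup 3 (zpowers x) := IsPGroup.of_card (n := 1) (by rw [Nat.card_zpowers, hx, pow_one])
  have hpy : IsPGroup 3 (zpowers y) := IsPGroup.of_card (n := 1) (by rw [Nat.card_zpowers, hy, pow_one])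
  have hnorm : zpowers x ≤ Subgroup.normalizer (zpowers y : Set S) := by
    rw [zpowers_le]
    rw [mem_normalizer_iff]
    intro g
    constructor
    · rintro ⟨k, rfl⟩
      refine ⟨k, ?_⟩
      simp only
      rw [(hxy.zpow_right k).eq, mul_inv_cancel_right]
    · rintro ⟨k, hk⟩
      refine ⟨k, ?_⟩
      simp only at hk ⊢
      have h1 : g = x⁻¹ * y ^ k * x := by rw [hk]; group
      rw [h1, mul_assoc, ← (hxy.zpow_right k).eq, inv_mul_cancel_left]
  obtain ⟨P, hP⟩ := (IsPGroup.to_sup_of_normal_right' hpx hpy hnorm).exists_le_sylow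
  refine ⟨P, fun hc => ?_⟩
  have hxP : x ∈ P := hP (mem_sup_left (mem_zpowers x))
  have hyP : y ∈ P := hP (mem_sup_right (mem_zpowers y))
  classical
  letI : Fintype P := Fintype.ofFinite _
  have hle := IsCyclic.card_pow_eq_one_le (α := P) (n := 3) (by norm_num)
  let X : P := ⟨x, hxP⟩
  let Y : P := ⟨y, hyP⟩
  have hX : orderOf X = 3 := (Subgroup.orderOf_mk x hxP).trans hx
  have hY : orderOf Y = 3 := (Subgroup.orderOf_mk y hyP).trans hy
  have hX3 : X ^ 3 = 1 := orderOf_dvd_iff_pow_eq_one.1 (dvd_of_eq hX)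
  have hY3 : Y ^ 3 = 1 := orderOf_dvd_iff_pow_eq_one.1 (dvd_of_eq hY)
  have hYX : Y ∉ zpowers X := by
    rintro ⟨k, hk⟩
    exact h ⟨k, congrArg Subtype.val hk⟩
  have hsub : ({1, X, X ^ 2, Y} : Finset P) ⊆ Finset.univ.filter (fun a => a ^ 3 = 1) := by
    intro a ha
    simp only [Finset.mem_insert, Finset.mem_singleton] at ha
    rw [Finset.mem_filter]
    refine ⟨Finset.mem_univ _, ?_⟩
    rcases ha with rfl | rfl | rfl | rfl
    · exact one_pow 3
    · exact hX3
    · rw [← pow_mul, mul_comm, pow_mul, hX3, one_pow]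
    · exact hY3
  have hcard : ({1, X, X ^ 2, Y} : Finset P).card = 4 := by
    have hX1 : X ≠ 1 := by
      intro h1
      rw [h1, orderOf_one] at hX
      norm_num at hX
    have hX2 : X ^ 2 ≠ 1 := by
      intro h1
      have := orderOf_dvd_of_pow_eq_one h1
      rw [hX] at this
      norm_num at this
    have hX12 : X ≠ X ^ 2 := by
      intro h1
      apply hX1
      rw [pow_two] at h1
      exact (mul_eq_left.1 h1.symm)
    have e1 : (1 : P) ≠ Y := fun h1 => hYX (h1 ▸ one_mem _)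
    have e2 : X ≠ Y := fun h1 => hYX (h1 ▸ mem_zpowers X)
    have e3 : X ^ 2 ≠ Y := fun h1 => hYX (h1 ▸ pow_mem (mem_zpowers X) 2)
    rw [Finset.card_insert_of_notMem, Finset.card_insert_of_notMem, Finset.card_insert_of_notMem,
      Finset.card_singleton]
    · simpa using e3
    · simp only [Finset.mem_insert, Finset.mem_singleton, not_or]
      exact ⟨hX12, e2⟩
    · simp only [Finset.mem_insert, Finset.mem_singleton, not_or]
      exact ⟨hX1.symm, hX2.symm, e1⟩
  have := Finset.card_le_card hsub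
  omega

section

variable {F : Type*} [Field F] [Finite F]

/-- **order `p` in dimension 4, minus type** -/
theorem elt_char_minus {p : ℕ} (hp : p.Prime) (hp2 : p ≠ 2) [CharP F p] : Elt F 2 (-1) p := by
  classical
  letI := Fintype.ofFinite F
  have h2 : (2 : F) ≠ 0 := by
    intro h
    have h1 : ((2 : ℕ) : F) = 0 := by exact_mod_cast h
    rw [CharP.cast_eq_zero_iff F p] at h1
    exact hp2 ((Nat.prime_dvd_prime_iff_eq hp Nat.prime_two).1 h1)
  have hr2 : ringChar F ≠ 2 := by
    intro h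
    apply h2
    have := ringChar.Nat.cast_ringChar (R := F)
    rw [h] at this
    exact_mod_cast this
  obtain ⟨ν, hν⟩ := FiniteField.exists_nonsquare hr2
  have hab : Aniso (0 : F) (-ν) := by
    intro z₁ z₂ hz
    have h1 : z₁ ^ 2 = ν * z₂ ^ 2 := by linear_combination hz
    by_cases hz2 : z₂ = 0
    · rw [hz2] at h1
      refine ⟨?_, hz2⟩
      have : z₁ ^ 2 = 0 := by rw [h1]; ring
      exact pow_eq_zero_iff (two_ne_zero) |>.1 this
    · exfalso
      apply hν
      refine ⟨z₁ / z₂, ?_⟩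
      field_simp
      rw [h1]
  let T : Module.End F ((F × F) × (Fin 2 → F)) :=
    { toFun := fun v => ((v.1.1, v.1.2 - 4 * v.1.1 - 4 * v.2 0), ![v.2 0 + 2 * v.1.1, v.2 1])
      map_add' := fun v w => by
        refine Prod.ext (Prod.ext rfl ?_) ?_
        · simp only [Prod.fst_add, Prod.snd_add, Pi.add_apply]
          ring
        · funext i
          fin_cases i
          · simp
            ring
          · simp
      map_smul' := fun c v => by
        refine Prod.ext (Prod.ext rfl ?_) ?_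
        · simp only [Prod.smul_fst, Prod.smul_snd, smul_eq_mul, RingHom.id_apply, Pi.smul_apply]
          ring
        · funext i
          fin_cases i
          · simp
            ring
          · simp }
  have hT : ∀ (j : ℕ) (v : (F × F) × (Fin 2 → F)),
      (T ^ j) v = ((v.1.1, v.1.2 - 4 * (j : F) ^ 2 * v.1.1 - 4 * j * v.2 0), ![v.2 0 + 2 * j * v.1.1, v.2 1]) := by
    intro j
    induction j with
    | zero =>
      intro v
      refine Prod.ext (Prod.ext rfl ?_) ?_
      · simp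
      · funext i
        fin_cases i <;> simp
    | succ j ih =>
      intro v
      rw [pow_succ, Module.End.mul_apply, ih]
      refine Prod.ext (Prod.ext rfl ?_) ?_
      · change v.1.2 - 4 * v.1.1 - 4 * v.2 0 - 4 * (j : F) ^ 2 * v.1.1 - 4 * j * (v.2 0 + 2 * v.1.1) =
          v.1.2 - 4 * ((j + 1 : ℕ) : F) ^ 2 * v.1.1 - 4 * ((j + 1 : ℕ) : F) * v.2 0
        push_cast
        ring
      · funext i
        fin_cases i
        · change (v.2 0 + 2 * v.1.1) + 2 * (j : F) * v.1.1 = v.2 0 + 2 * ((j + 1 : ℕ) : F) * v.1.1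
          push_cast
          ring
        · rfl
  have hT1 : ∀ v : (F × F) × (Fin 2 → F), T v = ((v.1.1, v.1.2 - 4 * v.1.1 - 4 * v.2 0), ![v.2 0 + 2 * v.1.1, v.2 1]) :=
    fun v => rfl
  have hnd : Nondeg (binForm F 0 (-ν)) := by
    intro x hx
    exact (binForm_nondegenerate hab).1 x fun y => hx y
  refine Elt.of (V := (F × F) × (Fin 2 → F)) (Q := sumQ (hypQ F) (binForm F 0 (-ν))) (g := T) (by simp)
    (sumQ_nondeg hypQ_nondeg hnd) ?_ ?_ hp.pos ?_
  · have h := (hasSign_mul (F := F)).prod (hasSign_bin hab)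
    rw [one_mul] at h
    have e : (⇑(sumQ (hypQ F) (binForm F 0 (-ν))) : (F × F) × (Fin 2 → F) → F) =
        fun p => p.1.1 * p.1.2 + bin 0 (-ν) p.2 := by
      funext p
      rw [sumQ_apply, hypQ_apply, binForm_apply]
    rw [e]
    exact h
  · intro v
    rw [hT1, sumQ_apply, sumQ_apply, hypQ_apply, hypQ_apply, binForm_apply, binForm_apply]
    simp only [bin, Matrix.cons_val_zero, Matrix.cons_val_one]
    ring
  · haveI : Fact p.Prime := ⟨hp⟩
    refine orderOf_eq_prime_iff.2 ⟨?_, ?_⟩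
    · refine LinearMap.ext fun v => ?_
      rw [hT, CharP.cast_eq_zero]
      refine Prod.ext (Prod.ext rfl ?_) ?_
      · change v.1.2 - 4 * 0 ^ 2 * v.1.1 - 4 * 0 * v.2 0 = v.1.2
        ring
      · funext i
        fin_cases i
        · change v.2 0 + 2 * 0 * v.1.1 = v.2 0
          ring
        · rfl
    · intro h
      have h5 := hT1 ((1, 0), 0)
      rw [h] at h5
      have h6 := congrArg (fun v => v.2 0) h5
      simp at h6
      exact h2 h6.symm

/-- plane elements of order `3` -/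
theorem elt_three_plane (h3 : ¬ 3 ∣ Nat.card F) : ∃ ε : ℤ, (ε = 1 ∨ ε = -1) ∧ Elt F 1 ε 3 := by
  have h1 : 3 ∣ Nat.card F - 1 ∨ 3 ∣ Nat.card F + 1 := by
    have := Finite.one_lt_card (α := F)
    omega
  rcases h1 with h | h
  · exact ⟨1, Or.inl rfl, elt_hyp h⟩
  · exact ⟨-1, Or.inr rfl, elt_ell h⟩

/-- **order `3` in dimension 4**, both types, every finite field -/
theorem elt_three_two {ε : ℤ} (hε : ε = 1 ∨ ε = -1) : Elt F 2 ε 3 := by
  by_cases h3 : 3 ∣ Nat.card F
  · obtain ⟨p, hp⟩ := CharP.exists F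
    have hpp : p.Prime := CharP.char_is_prime F p
    have : Fact p.Prime := ⟨hpp⟩
    have hf := Fintype.ofFinite F
    obtain ⟨n, -, hn⟩ := FiniteField.card F p
    rw [Nat.card_eq_fintype_card, hn] at h3
    have h1 : 3 = p := (Nat.prime_dvd_prime_iff_eq Nat.prime_three hpp).1 (Nat.prime_three.dvd_of_dvd_pow h3)
    subst h1
    rcases hε with rfl | rfl
    · exact elt_char Nat.prime_three le_rfl
    · exact elt_char_minus Nat.prime_three (by norm_num)
  · obtain ⟨ε0, hε0, h⟩ := elt_three_plane (F := F) h3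
    exact Cfsg.Agent.H72.AdjOrth.elt_extend h hε0 hε (by omega)

/-- **order `3` in dimension at least 4** -/
theorem elt_three {n : ℕ} (hn : 2 ≤ n) {ε : ℤ} (hε : ε = 1 ∨ ε = -1) : Elt F n ε 3 := by
  rcases Nat.eq_or_lt_of_le hn with rfl | hn'
  · exact elt_three_two hε
  · exact Cfsg.Agent.H72.AdjOrth.elt_extend (elt_three_two (F := F) hε) hε hε (by omega)

/-- conversion of the elements of helper403 -/
theorem of403 [CharP F 2] {n : ℕ} {ε : ℤ} (hε : ε = 1 ∨ ε = -1) {N : ℕ} (h : Cfsg.Agent.H403.Elt F n ε N) :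
    Elt F n ε N := by
  obtain ⟨hN, d, Q, g, hQ, hs, hg, ho⟩ := h
  obtain ⟨ψ, hψ⟩ := Cfsg.Agent.H403.exists_addChar (F := F)
  have hq : 1 < Nat.card F := Finite.one_lt_card
  have key : ∀ (a b : ℕ), (Nat.card F : ℤ) ^ a = (Nat.card F : ℤ) ^ b → a = b := fun a b h3 => by
    have h4 : Nat.card F ^ a = Nat.card F ^ b := by exact_mod_cast h3
    exact Nat.pow_right_injective hq h4
  have hpos : ∀ a : ℕ, (0 : ℤ) < (Nat.card F : ℤ) ^ a := fun a => by
    have : (0 : ℤ) < (Nat.card F : ℤ) := by exact_mod_cast (by omega : 0 < Nat.card F)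
    positivity
  rcases Cfsg.Agent.H403.Classify.classify Q hQ with ⟨m, h | h⟩
  · have hfr := h.finrank
    obtain ⟨e, he⟩ := h
    have h1 := ((Cfsg.Agent.H403.hasSign_plusForm (F := F) m).congr e.toEquiv he) ψ hψ
    rw [hs ψ hψ] at h1
    have h2 : ε = 1 ∧ n = m := by
      rcases hε with rfl | rfl
      · exact ⟨rfl, key _ _ (by linarith)⟩
      · exfalso
        have := hpos n
        have := hpos m
        linarith
    obtain ⟨rfl, rfl⟩ := h2
    exact Elt.of hfr hQ ((hasSign_plusForm (F := F) n).congr e.toEquiv he) hg hN ho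
  · have hfr := h.finrank
    obtain ⟨a, b, hab, e, he⟩ := h
    have h1 := ((Cfsg.Agent.H403.hasSign_minusForm (F := F) m hab).congr e.toEquiv he) ψ hψ
    rw [hs ψ hψ] at h1
    have h2 : ε = -1 ∧ n = m + 1 := by
      rcases hε with rfl | rfl
      · exfalso
        have := hpos n
        have := hpos (m + 1)
        linarith
      · exact ⟨rfl, key _ _ (by linarith)⟩
    obtain ⟨rfl, rfl⟩ := h2
    exact Elt.of (by rw [hfr]; ring) hQ ((hasSign_minusForm (F := F) m hab).congr e.toEquiv he) hg hN ho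

/-- odd order of the field -/
theorem eight_dvd (h : Odd (Nat.card F)) : 8 ∣ Nat.card F ^ 2 - 1 := by
  obtain ⟨k, hk⟩ := h
  rw [hk]
  have h1 : (2 * k + 1) ^ 2 = 4 * (k * (k + 1)) + 1 := by ring
  rw [h1, Nat.add_sub_cancel]
  obtain ⟨c, hc⟩ := Nat.even_mul_succ_self k
  rw [hc]
  exact ⟨c, by ring⟩

/-- **order `8` in dimension 6**, both types, every finite field -/
theorem elt_eight {ε : ℤ} (hε : ε = 1 ∨ ε = -1) : Elt F 3 ε 8 := by
  by_cases h2 : (2 : F) = 0
  · haveI := charTwo_of h2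
    exact of403 hε (Cfsg.Agent.H403.elt_unip (F := F) (b := 3) (by norm_num) hε)
  · have hodd : Odd (Nat.card F) := by
      obtain ⟨p, hp⟩ := CharP.exists F
      have hpp : p.Prime := CharP.char_is_prime F p
      have : Fact p.Prime := ⟨hpp⟩
      have hf := Fintype.ofFinite F
      obtain ⟨n, -, hn⟩ := FiniteField.card F p
      rw [Nat.card_eq_fintype_card, hn]
      apply Odd.pow
      apply hpp.odd_of_ne_two
      rintro rfl
      exact h2 (by exact_mod_cast CharP.cast_eq_zero F 2)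
    have h8 := eight_dvd hodd
    exact Cfsg.Agent.H72.AdjOrth.elt_extend (elt_tor_plus (F := F) (k := 2) (by norm_num) h8) (Or.inl rfl) hε (by omega)

theorem elt_eight' {n : ℕ} (hn : 3 ≤ n) {ε : ℤ} (hε : ε = 1 ∨ ε = -1) : Elt F n ε 8 := by
  rcases Nat.eq_or_lt_of_le hn with rfl | hn'
  · exact elt_eight hε
  · exact Cfsg.Agent.H72.AdjOrth.elt_extend (elt_eight (F := F) hε) hε hε (by omega)

/-- **elements of order `12`** -/
theorem elt2_twelve {n : ℕ} (hn : 4 ≤ n) {ε : ℤ} (hε : ε = 1 ∨ ε = -1) : Elt2 F n ε 12 := by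
  by_cases h3 : 3 ∣ Nat.card F
  · have hodd : Odd (Nat.card F) := by
      rcases Nat.even_or_odd (Nat.card F) with h | h
      · exfalso
        obtain ⟨p, hp⟩ := CharP.exists F
        have hpp : p.Prime := CharP.char_is_prime F p
        have : Fact p.Prime := ⟨hpp⟩
        have hf := Fintype.ofFinite F
        obtain ⟨k, -, hk⟩ := FiniteField.card F p
        rw [Nat.card_eq_fintype_card, hk] at h3 h
        have h4 : 3 = p := (Nat.prime_dvd_prime_iff_eq Nat.prime_three hpp).1 (Nat.prime_three.dvd_of_dvd_pow h3)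
        have h5 : 2 = p := (Nat.prime_dvd_prime_iff_eq Nat.prime_two hpp).1
          (Nat.prime_two.dvd_of_dvd_pow (even_iff_two_dvd.1 h))
        omega
      · exact h
    have h8 : Elt F (n - 2) 1 8 := by
      have h := elt_tor_plus (F := F) (k := 2) (by norm_num) (eight_dvd hodd)
      rcases Nat.eq_or_lt_of_le (show 2 ≤ n - 2 by omega) with h1 | h1
      · rw [← h1]; exact h
      · exact Cfsg.Agent.H72.AdjOrth.elt_extend h (Or.inl rfl) (Or.inl rfl) (by omega)
    have h := Elt.prod_two (by norm_num) (by decide) (elt_three_two (F := F) hε) h8 (by decide)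
    rw [mul_one, show 2 + (n - 2) = n by omega] at h
    exact h
  · obtain ⟨ε0, hε0, h0⟩ := elt_three_plane (F := F) h3
    have h8 : Elt F (n - 1) (ε0 * ε) 8 :=
      elt_eight' (by omega) (Cfsg.Agent.H72.AdjOrth.mul_pm hε0 hε)
    have h := Elt.prod_two le_rfl (by decide) h0 h8 (by decide)
    rw [← mul_assoc, Cfsg.Agent.H72.AdjOrth.sq_pm hε0, one_mul, show 1 + (n - 1) = n by omega] at h
    exact h

/-- the elements `j` with `a ^ j = 1` or `a ^ j = z`, `z` an involution or `1` -/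
theorem exists_period {M : Type*} [Monoid M] {a z : M} (hz : z * z = 1) {N : ℕ} (hN : 0 < N) (ha : a ^ N = 1) :
    ∃ o : ℕ, 0 < o ∧ (∀ j : ℕ, (a ^ j = 1 ∨ a ^ j = z) ↔ o ∣ j) ∧ a ^ (2 * o) = 1 := by
  classical
  have hex : ∃ o : ℕ, 0 < o ∧ (a ^ o = 1 ∨ a ^ o = z) := ⟨N, hN, Or.inl ha⟩
  have ho := Nat.find_spec hex
  have hmin := fun m => Nat.find_min (m := m) hex
  generalize Nat.find hex = o at ho hmin
  have h2 : a ^ (2 * o) = 1 := by
    rw [two_mul, pow_add]
    rcases ho.2 with h | h <;> rw [h]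
    · exact one_mul 1
    · exact hz
  have hstep : ∀ j, (a ^ (o + j) = 1 ∨ a ^ (o + j) = z) ↔ (a ^ j = 1 ∨ a ^ j = z) := by
    intro j
    rw [pow_add]
    rcases ho.2 with h | h <;> rw [h]
    · rw [one_mul]
    · constructor
      · rintro (h1 | h1)
        · right
          calc a ^ j = z * z * a ^ j := by rw [hz, one_mul]
            _ = z * (z * a ^ j) := mul_assoc _ _ _
            _ = z := by rw [h1, mul_one]
        · left
          calc a ^ j = z * z * a ^ j := by rw [hz, one_mul]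
            _ = z * (z * a ^ j) := mul_assoc _ _ _
            _ = 1 := by rw [h1, hz]
      · rintro (h1 | h1)
        · right; rw [h1, mul_one]
        · left; rw [h1, hz]
  refine ⟨o, ho.1, fun j => ?_, h2⟩
  induction j using Nat.strong_induction_on with
  | _ j ih =>
    by_cases hj : o ≤ j
    · obtain ⟨k, rfl⟩ := Nat.exists_eq_add_of_le hj
      rw [hstep, ih k (by omega)]
      exact (Nat.dvd_add_right (dvd_refl o)).symm
    · constructor
      · intro h
        by_cases h0 : j = 0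
        · rw [h0]; exact dvd_zero o
        · exact absurd ⟨by omega, h⟩ (hmin j (by omega))
      · intro h
        have h0 : j = 0 := by
          by_contra h0
          have := Nat.le_of_dvd (by omega) h
          omega
        left
        rw [h0, pow_zero]

/-- an isometry of order `N` gives an element of `PΩ` whose order is a multiple of `N / 4` -/
theorem exists_four {n : ℕ} {ε : ℤ} {N : ℕ} (h : Elt F n ε N) : ∃ o : ℕ, 0 < o ∧ Elt2 F n ε o ∧ N ∣ 4 * o := by
  obtain ⟨hN, Q, g, hQ, hs, hg, rfl⟩ := h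
  have hgN : (g ^ 2) ^ orderOf g = 1 := by
    rw [← pow_mul, mul_comm 2 (orderOf g), pow_mul, pow_orderOf_eq_one, one_pow]
  have hz : (-1 : Module.End F (Fin (2 * n) → F)) * (-1) = 1 := by
    have := neg_mul_neg (1 : Module.End F (Fin (2 * n) → F)) 1
    rw [one_mul] at this
    exact this
  obtain ⟨o, ho0, ho1, ho2⟩ := exists_period (a := g ^ 2) (z := -1) hz hN hgN
  refine ⟨o, ho0, ⟨Q, g, hQ, hs, hg, fun j => ?_⟩, ?_⟩
  · rw [← ho1 j, ← pow_mul]
  · apply orderOf_dvd_of_pow_eq_one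
    rw [← pow_mul] at ho2
    rw [← ho2]
    congr 1
    ring

end

section noncyclic

variable {F : Type*} [Field F] [Finite F] {ι : Type} [Fintype ι] [DecidableEq ι] {Q : QuadraticForm F (ι → F)}

theorem noncyclic_pomega (D : Cfsg.Agent.H390.Lift.Data Q) {X Y : Cfsg.isometryGroup F (⇑Q)} (hX : X ^ 3 = 1)
    (hY : Y ^ 3 = 1) (hXY : Commute X Y) (hX1 : X ≠ 1) (h : ∀ j : ℕ, X ^ j ≠ Y) :
    ∃ P : Sylow 3 (POmega F (⇑Q)), ¬ IsCyclic P := by
  have hXm : X ∈ Cfsg.Omega F (⇑Q) := Cfsg.Agent.H390.Lift.mem_of_odd _ D.idx (m := 3) (by decide) hX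
  have hYm : Y ∈ Cfsg.Omega F (⇑Q) := Cfsg.Agent.H390.Lift.mem_of_odd _ D.idx (m := 3) (by decide) hY
  let x : Cfsg.Omega F (⇑Q) := ⟨X, hXm⟩
  let y : Cfsg.Omega F (⇑Q) := ⟨Y, hYm⟩
  have hx3 : x ^ 3 = 1 := Subtype.ext hX
  have hy3 : y ^ 3 = 1 := Subtype.ext hY
  have hxy : Commute x y := Subtype.ext hXY.eq
  let φ : Cfsg.Omega F (⇑Q) →* POmega F (⇑Q) := QuotientGroup.mk' (Subgroup.center (Cfsg.Omega F (⇑Q)))
  -- the kernel meets the 3-elements trivially
  have hker : ∀ z : Cfsg.Omega F (⇑Q), z ^ 3 = 1 → φ z = 1 → z = 1 := by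
    intro z hz h1
    have h2 := Cfsg.Agent.H390.Lift.center_sq D z ((QuotientGroup.eq_one_iff z).1 h1)
    have h3 : z ^ 3 = z ^ 2 * z := pow_succ z 2
    rw [hz, h2, one_mul] at h3
    exact h3.symm
  have hord : ∀ z : Cfsg.Omega F (⇑Q), z ^ 3 = 1 → z ≠ 1 → orderOf (φ z) = 3 := by
    intro z hz h1
    refine orderOf_eq_prime_iff.2 ⟨by rw [← map_pow, hz, map_one], fun h2 => h1 (hker z hz h2)⟩
  have hx1 : x ≠ 1 := fun h1 => hX1 (congrArg Subtype.val h1)
  have hy1 : y ≠ 1 := fun h1 => h 0 (by rw [pow_zero]; exact (congrArg Subtype.val h1).symm)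
  have : Fact (Nat.Prime 3) := ⟨Nat.prime_three⟩
  have hfin : Finite (POmega F (⇑Q)) := by
    infer_instance
  refine noncyclic_of_comm (hord x hx3 hx1) (hord y hy3 hy1) (hxy.map φ) ?_
  intro hmem
  have hof : IsOfFinOrder (φ x) := isOfFinOrder_of_finite _
  obtain ⟨j, hj⟩ := hof.mem_powers_iff_mem_zpowers.2 hmem
  have hj' : φ x ^ j = φ y := hj
  have h1 : φ ((x ^ j)⁻¹ * y) = 1 := by
    rw [map_mul, map_inv, map_pow, hj', inv_mul_cancel]
  have hc : Commute (x ^ j)⁻¹ y := (hxy.pow_left j).inv_left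
  have h2 : ((x ^ j)⁻¹ * y) ^ 3 = 1 := by
    rw [hc.mul_pow, hy3, mul_one, inv_pow, ← pow_mul, mul_comm, pow_mul, hx3, one_pow, inv_one]
  have h3 := hker _ h2 h1
  have h4 : x ^ j = y := (inv_mul_eq_one.1 h3)
  exact h j (congrArg Subtype.val h4)

theorem noncyclic_of_isom (D : Cfsg.Agent.H390.Lift.Data Q) {V : Type*} [AddCommGroup V] [Module F V]
    {R : QuadraticForm F V} (e : (ι → F) ≃ₗ[F] V) (he : ∀ u, R (e u) = Q u) {T U : Module.End F V}
    (hT : ∀ v, R (T v) = R v) (hU : ∀ v, R (U v) = R v) (hT3 : T ^ 3 = 1) (hU3 : U ^ 3 = 1) (hTU : Commute T U)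
    (hT1 : T ≠ 1) (h : ∀ j : ℕ, T ^ j ≠ U) : ∃ P : Sylow 3 (POmega F (⇑Q)), ¬ IsCyclic P := by
  obtain ⟨t, ht⟩ := Cfsg.Agent.H150.exists_og R T (by norm_num) hT3 hT
  obtain ⟨u, hu⟩ := Cfsg.Agent.H150.exists_og R U (by norm_num) hU3 hU
  let Φ : OG R ≃* Cfsg.isometryGroup F (⇑Q) := (OGcongr e he).symm.trans (isometryGroupEquiv Q).symm
  have ht3 : t ^ 3 = 1 := (Cfsg.Agent.H150.og_pow_eq_one_iff t T ht 3).2 hT3
  have hu3 : u ^ 3 = 1 := (Cfsg.Agent.H150.og_pow_eq_one_iff u U hu 3).2 hU3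
  have htu : Commute t u := by
    apply Subtype.ext
    apply LinearEquiv.ext
    intro v
    change (t : V ≃ₗ[F] V) ((u : V ≃ₗ[F] V) v) = (u : V ≃ₗ[F] V) ((t : V ≃ₗ[F] V) v)
    rw [ht, hu, hu, ht]
    exact LinearMap.congr_fun hTU.eq v
  refine noncyclic_pomega D (X := Φ t) (Y := Φ u) (by rw [← map_pow, ht3, map_one]) (by rw [← map_pow, hu3, map_one])
    (htu.map Φ) ?_ ?_
  · intro h1
    have h2 : t = 1 := Φ.injective (h1.trans (map_one Φ).symm)
    apply hT1
    have h3 := (Cfsg.Agent.H150.og_pow_eq_one_iff t T ht 1).1 (by rw [pow_one, h2])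
    rwa [pow_one] at h3
  · intro j h1
    rw [← map_pow] at h1
    have h2 : t ^ j = u := Φ.injective h1
    apply h j
    apply LinearMap.ext
    intro v
    rw [← Cfsg.Agent.H150.og_pow_apply t T ht j v, h2, hu]

/-- the isometries `g ⊕ 1` and `1 ⊕ g'` -/
theorem noncyclic_of_elt (D : Cfsg.Agent.H390.Lift.Data Q) {n n' : ℕ} {ε ε' : ℤ} (h : Elt F n ε 3) (h' : Elt F n' ε' 3)
    (hcl : ∀ (R : QuadraticForm F ((Fin (2 * n) → F) × (Fin (2 * n') → F))), Nondeg R →
      HasSign (⇑R) (n + n') (ε * ε') → ∃ e : (ι → F) ≃ₗ[F] ((Fin (2 * n) → F) × (Fin (2 * n') → F)),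
        ∀ u, R (e u) = Q u) : ∃ P : Sylow 3 (POmega F (⇑Q)), ¬ IsCyclic P := by
  obtain ⟨-, R, g, hR, hs, hg, ho⟩ := h
  obtain ⟨-, R', g', hR', hs', hg', ho'⟩ := h'
  obtain ⟨e, he⟩ := hcl (sumQ R R') (sumQ_nondeg hR hR') (hs.prod hs')
  have hg3 : g ^ 3 = 1 := by rw [← ho]; exact pow_orderOf_eq_one g
  have hg3' : g' ^ 3 = 1 := by rw [← ho']; exact pow_orderOf_eq_one g'
  have hg1 : g ≠ 1 := by
    rintro rfl
    rw [orderOf_one] at ho
    norm_num at ho
  have hg1' : g' ≠ 1 := by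
    rintro rfl
    rw [orderOf_one] at ho'
    norm_num at ho'
  refine noncyclic_of_isom D e he (T := g.prodMap (1 : Module.End F (Fin (2 * n') → F)))
    (U := (1 : Module.End F (Fin (2 * n) → F)).prodMap g') ?_ ?_ ?_ ?_ ?_ ?_ ?_
  · intro v
    change R (g v.1) + R' v.2 = R v.1 + R' v.2
    rw [hg]
  · intro v
    change R v.1 + R' (g' v.2) = R v.1 + R' v.2
    rw [hg']
  · rw [prodMap_pow', hg3, one_pow]
    rfl
  · rw [prodMap_pow', hg3', one_pow]
    rfl
  · apply LinearMap.ext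
    intro v
    rfl
  · intro h1
    exact hg1 ((prodMap_eq_one_iff _ _).1 h1).1
  · intro j h1
    rw [prodMap_pow', one_pow] at h1
    apply hg1'
    apply LinearMap.ext
    intro w
    have h2 := congrArg Prod.snd (LinearMap.congr_fun h1 (0, w))
    exact h2.symm

end noncyclic

end Cfsg.Agent.H424.OrthElt
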