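import Mathlib
import Cfsg.Agent.H424.BlockTools2
import Cfsg.Agent.SmallSimple.Sieve
import Cfsg.Agent.SmallSimple.FiveSq
import Cfsg.Agent.S0243
import Cfsg.Agent.S0144
import Cfsg.Agent.S1016
import Cfsg.Agent.S1017
import Cfsg.Agent.S0997
import Cfsg.Agent.S0999

/-!
# Orders of nonabelian simple groups between 1093 and 3640

`survivors` : such an order is 2448, 2520, 3420 or one of the orders 1512, 1620, 2160, 2880, 3024,
3240 of the form `p 3 ^ a 2 ^ b` (excluded by S1000).
-/

set_option autoImplicit false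

namespace Cfsg.Agent.H424.SimpleOrders

open Cfsg Cfsg.Agent.Characters.Core Cfsg.Agent.H424.DegTools
open Cfsg.Agent.H424.BlockTools Cfsg.Agent.H424.BlockTools2
open Cfsg.Agent.SmallSimple Cfsg.Agent.SmallSimple.LocalData Cfsg.Agent.SmallSimple.DegreeData
open Cfsg.Agent.SmallSimple.OrdersA Cfsg.Agent.SmallSimple.Sieve
open Subgroup

variable {G : Type*} [Group G] [Finite G] [IsSimpleGroup G]

theorem check1 : ((List.range 1307).all fun i => autoDead (1093 + i) ||
    [1224, 1344, 1440, 1512, 1560, 1620, 1680, 1716, 1728, 1800, 1980, 2016, 2080, 2100, 2160,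
      2268].any (Nat.beq (1093 + i))) = true := by
  decide +kernel

theorem check2 : ((List.range 1241).all fun i => autoDead (2400 + i) ||
    [2400, 2448, 2464, 2520, 2688, 2700, 2880, 2976, 3024, 3120, 3168, 3240, 3360, 3420, 3432,
      3444, 3600].any (Nat.beq (2400 + i))) = true := by
  decide +kernel

omit [Finite G] [IsSimpleGroup G] in
theorem not_cyclic (hG : ¬ IsMulCommutative G) : ¬ IsCyclic G := fun _ => hG inferInstance

omit [Finite G] [IsSimpleGroup G] in
/-- The order of `PSL₂(q)`. -/
theorem psl_card {n q : ℕ} (hn : Nat.card G = n) {F : Type} [Field F] [Fintype F]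
    (hF : Fintype.card F = q)
    (e : Nonempty (G ≃* Matrix.ProjectiveSpecialLinearGroup (Fin 2) F)) :
    Nat.gcd 2 (q - 1) * ((q - 1) * n) = (q ^ 2 - 1) * (q ^ 2 - q) := by
  obtain ⟨e⟩ := e
  have h1 := Cfsg.Agent.S0243.result hF 2 le_rfl
  rw [Fin.prod_univ_two, ← Nat.card_congr e.toEquiv, hn] at h1
  simpa using h1

theorem ne_thirteen (m : ℕ) : 13 ≠ 2 ^ m + 1 := by
  intro h
  rcases Nat.lt_or_ge m 4 with h1 | h1
  · interval_cases m <;> omega
  · have := Nat.pow_le_pow_right (n := 2) (by norm_num) h1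
    omega

theorem kill_large {n : ℕ} (h : Nat.card G = n) (hn : ¬ n.Prime) (p : ℕ) (hp : p.Prime)
    (hdvd : p ∣ n) (hbig : n < p ^ 3)
    (h1 : Nat.gcd 2 (p - 1) * ((p - 1) * n) ≠ (p ^ 2 - 1) * (p ^ 2 - p))
    (h2 : (∀ m : ℕ, p ≠ 2 ^ m + 1) ∨
      Nat.gcd 2 (p - 1 - 1) * ((p - 1 - 1) * n) ≠ ((p - 1) ^ 2 - 1) * ((p - 1) ^ 2 - (p - 1))) :
    False := by
  have hG := not_comm h hn
  rcases S0999.result (not_cyclic hG) p hp (h ▸ hdvd) (h ▸ hbig) with
    ⟨F, _, _, hF, -, e⟩ | ⟨m, F, _, _, hF, hpm, -, e⟩
  · exact h1 (psl_card h hF e)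
  · have hF' : Fintype.card F = p - 1 := by omega
    rcases h2 with h2 | h2
    · exact h2 m hpm
    · exact h2 (psl_card h hF' e)

theorem kill_pqg {n : ℕ} (h : Nat.card G = n) (hn : ¬ n.Prime) (p q b g : ℕ) (hp : p.Prime)
    (hq : q.Prime) (hpq : p ≠ q) (hfac : n = p * q ^ b * g) (hg : g < p - 1)
    (h1 : Nat.gcd 2 (p - 1) * ((p - 1) * n) ≠ (p ^ 2 - 1) * (p ^ 2 - p))
    (h2 : Nat.gcd 2 (p - 1 - 1) * ((p - 1 - 1) * n) ≠ ((p - 1) ^ 2 - 1) * ((p - 1) ^ 2 - (p - 1))) :
    False := by
  have hG := not_comm h hn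
  rcases S0997.result (not_cyclic hG) p q b g hp hq hpq (h.trans hfac) hg with
    ⟨m, F, _, _, hF, -, e⟩ | ⟨m, F, _, _, hF, hpm, -, e⟩
  · exact h1 (psl_card h hF e)
  · have hF' : Fintype.card F = p - 1 := by omega
    exact h2 (psl_card h hF' e)

theorem kill_five {n : ℕ} (h : Nat.card G = n) (hn : ¬ n.Prime) (m : ℕ) (hm : n = m * 5 ^ 2)
    (h5 : ¬ 5 ∣ m) (hlt : n < 4500) (h300 : n ≠ 300)
    (hdiv : ∀ t ∈ Nat.divisors m, 15 * t ≤ m → (∃ s ∈ Nat.divisors t, s % 5 = 1 ∧ s ≠ 1) →
      t = 6 ∨ t = 12)
    (hmod : ∀ r ∈ Nat.divisors m, 5 ≤ r → ¬ r ≡ 1 [MOD 5 ^ 2]) : False := by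
  have hG := not_comm h hn
  have : Fact (Nat.Prime 5) := ⟨by norm_num⟩
  have hm' : Nat.card G = m * 5 ^ 2 := h.trans hm
  have hmm : m ≠ 0 := by
    rintro rfl
    exact h5 (dvd_zero 5)
  have h5n : 5 ∣ Nat.card G := by rw [hm']; exact (dvd_pow_self 5 two_ne_zero).mul_left m
  have hmod' : ¬ Nat.card (Sylow 5 G) ≡ 1 [MOD 5 ^ 2] := by
    have h1 : Nat.card (Sylow 5 G) ∣ m := PSqQR.card_sylow_dvd_of_card_eq hm' h5
    have h3 := Embed.five_le_card_sylow hG (p := 5) h5n
    exact hmod _ (Nat.mem_divisors.2 ⟨h1, hmm⟩) h3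
  obtain ⟨R, hPR, hD5, hPC, hRC, hC⟩ := FiveSq.exists_config hG (by omega) hm' h5
    hdiv hmod' (default : Sylow 5 G)
  set P : Sylow 5 G := default with hP
  set C : Subgroup G := centralizer (((P : Subgroup G) ⊓ R : Subgroup G) : Set G) with hCdef
  have h1 := C.card_mul_index
  rw [hC, h] at h1
  have hCtop : C ≠ ⊤ := by
    intro htop
    rw [htop, Subgroup.card_top, h] at hC
    exact h300 hC
  have h15 := IndexJordan.three_mul_le_index hG (by omega) 5 (le_refl 5)
    (by rw [hm']; exact dvd_mul_left _ _) _ hCtop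
  omega

theorem kill_1980 (h : Nat.card G = 1980) : False := by
  have hG := not_comm h (by norm_num)
  have : Fact (Nat.Prime 11) := ⟨by norm_num⟩
  obtain ⟨d, e, k, h1, h2, h3⟩ := data_cases h hG 11 (by norm_num) (by norm_num) (by norm_num)
    (by norm_num) [(45, 2, 2)] (by decide +kernel)
  simp only [List.mem_cons, Prod.mk.injEq, List.mem_nil_iff, or_false] at h3
  obtain ⟨rfl, rfl, rfl⟩ := h3
  obtain ⟨M, hM, ⟨D⟩⟩ := exists_block h1 (by norm_num) default (t := 5) (by norm_num)
  have h4 := degs_simple D (h1.card_eq _) rfl h (by norm_num) (by norm_num)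
    (L := [(2, 2), (3, 2), (5, 1), (11, 1)]) (by norm_num) (by norm_num)
    (C := [-10, 12, 45]) (Ds := [-20, -9, 2, 90]) (by decide) (o := 10) (w := 1000)
    (Q := fun l => [[-10]].contains l) (by decide +kernel)
  have h5 : D.degs = [-10] := by simpa using h4
  exact no_pred (by rw [h]; norm_num) h1 (by norm_num) hM D (by rw [h5]; simp)

theorem kill_3432 (h : Nat.card G = 3432) : False := by
  have hG := not_comm h (by norm_num)
  have : Fact (Nat.Prime 13) := ⟨by norm_num⟩
  obtain ⟨d, e, k, h1, h2, h3⟩ := data_cases h hG 13 (by norm_num) (by norm_num) (by norm_num)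
    (by norm_num) [(66, 2, 2), (66, 4, 1)] (by decide +kernel)
  simp only [List.mem_cons, Prod.mk.injEq, List.mem_nil_iff, or_false] at h3
  rcases h3 with ⟨rfl, rfl, rfl⟩ | ⟨rfl, rfl, rfl⟩
  · obtain ⟨M, hM, ⟨D⟩⟩ := exists_block h1 (by norm_num) default (t := 6) (by norm_num)
    have h4 := degs_simple D (h1.card_eq _) rfl h (by norm_num) (by norm_num)
      (L := [(2, 3), (3, 1), (11, 1), (13, 1)]) (by norm_num) (by norm_num)
      (C := [-12, 66]) (Ds := [-24, -11, 2, 132]) (by decide) (o := 12) (w := 1000)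
      (Q := fun l => [[-12]].contains l) (by decide +kernel)
    have h5 : D.degs = [-12] := by simpa using h4
    exact no_pred (by rw [h]; norm_num) h1 (by norm_num) hM D (by rw [h5]; simp)
  · obtain ⟨M, hM, ⟨D⟩⟩ := exists_block h1 (by norm_num) default (t := 3) (by norm_num)
    have h4 := degs_simple D (h1.card_eq _) rfl h (by norm_num) (by norm_num)
      (L := [(2, 3), (3, 1), (11, 1), (13, 1)]) (by norm_num) (by norm_num)
      (C := [-12, 66]) (Ds := [-22, 4, 264]) (by decide) (o := 12) (w := 1000)
      (Q := fun _ => false) (by decide +kernel)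
    exact absurd h4 (by simp)

theorem kill_3120 (h : Nat.card G = 3120) : False := by
  have hG := not_comm h (by norm_num)
  have : Fact (Nat.Prime 13) := ⟨by norm_num⟩
  obtain ⟨d, e, k, h1, h2, h3⟩ := data_cases h hG 13 (by norm_num) (by norm_num) (by norm_num)
    (by norm_num) [(40, 2, 3), (40, 6, 1)] (by decide +kernel)
  simp only [List.mem_cons, Prod.mk.injEq, List.mem_nil_iff, or_false] at h3
  rcases h3 with ⟨rfl, rfl, rfl⟩ | ⟨rfl, rfl, rfl⟩
  · obtain ⟨M, hM, ⟨D⟩⟩ := exists_block h1 (by norm_num) default (t := 6) (by norm_num)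
    have h4 := degs_simple D (h1.card_eq _) rfl h (by norm_num) (by norm_num)
      (L := [(2, 4), (3, 1), (5, 1), (13, 1)]) (by norm_num) (by norm_num)
      (C := [-12, 40]) (Ds := [-24, 2, 15, 80]) (by decide) (o := 12) (w := 1000)
      (Q := fun _ => false) (by decide +kernel)
    exact absurd h4 (by simp)
  · obtain ⟨M, hM, ⟨D⟩⟩ := exists_block h1 (by norm_num) default (t := 2) (by norm_num)
    have h4 := degs_simple D (h1.card_eq _) rfl h (by norm_num) (by norm_num)
      (L := [(2, 4), (3, 1), (5, 1), (13, 1)]) (by norm_num) (by norm_num)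
      (C := [-12, 40]) (Ds := [-20, 6, 240]) (by decide) (o := 12) (w := 1000)
      (Q := fun _ => false) (by decide +kernel)
    exact absurd h4 (by simp)

theorem kill_3360 (h : Nat.card G = 3360) : False := by
  have hG := not_comm h (by norm_num)
  have : Fact (Nat.Prime 7) := ⟨by norm_num⟩
  have : Fact (Nat.Prime 5) := ⟨by norm_num⟩
  obtain ⟨d, e, k, h1, h2, h3⟩ := data_cases h hG 7 (by norm_num) (by norm_num) (by norm_num)
    (by norm_num) [(120, 2, 2)] (by decide +kernel)
  simp only [List.mem_cons, Prod.mk.injEq, List.mem_nil_iff, or_false] at h3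
  obtain ⟨rfl, rfl, rfl⟩ := h3
  obtain ⟨M, hM, ⟨D⟩⟩ := exists_block h1 (by norm_num) default (t := 3) (by norm_num)
  have h4 := degs_simple D (h1.card_eq _) rfl h (by norm_num) (by norm_num)
    (L := [(2, 5), (3, 1), (5, 1), (7, 1)]) (by norm_num) (by norm_num)
    (C := [-160, -48, -20, -6, 8, 15, 120]) (Ds := [-96, -40, -12, -5, 2, 16, 30, 240])
    (by decide) (o := 160) (w := 1000)
    (Q := fun l => [[-6], [15]].contains l) (by decide +kernel)
  have h5 : D.degs = [-6] ∨ D.degs = [15] := by simpa using h4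
  rcases h5 with h5 | h5
  · exact no_pred (by rw [h]; norm_num) h1 (by norm_num) hM D (by rw [h5]; simp)
  have h16 : 16 ∈ charDegrees G := by
    have := dexc_mem D (by norm_num)
    rw [h5] at this
    exact this
  obtain ⟨d', e', k', h1', h2', h3'⟩ := data_cases h hG 5 (by norm_num) (by norm_num) (by norm_num)
    (by norm_num) [(56, 2, 6), (56, 4, 3), (336, 2, 1)] (by decide +kernel)
  obtain ⟨d'', e'', k'', h1'', h2'', h3''⟩ := data_cases h hG 3 (by norm_num) (by norm_num)
    (by norm_num) (by norm_num) [(28, 2, 20), (40, 2, 14), (70, 2, 8), (112, 2, 5), (280, 2, 2)]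
    (by decide +kernel)
  simp only [List.mem_cons, Prod.mk.injEq, List.mem_nil_iff, or_false] at h3' h3''
  have hcases : (k' = 1 ∧ e' = 2) ∨ (3 ∣ k' ∧ 5 * e' * k' = 60 ∧ k' ≤ 6) := by
    rcases h3' with ⟨-, rfl, rfl⟩ | ⟨-, rfl, rfl⟩ | ⟨-, rfl, rfl⟩
    · exact Or.inr ⟨by norm_num, by norm_num, by norm_num⟩
    · exact Or.inr ⟨by norm_num, by norm_num, by norm_num⟩
    · exact Or.inl ⟨rfl, rfl⟩
  rcases hcases with ⟨rfl, rfl⟩ | ⟨hk', hek, hk6⟩
  · obtain ⟨M', hM', ⟨D'⟩⟩ := exists_block h1' (by norm_num) default (t := 2) (by norm_num)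
    have h6 := degs_simple D' (h1'.card_eq _) rfl h (by norm_num) (by norm_num)
      (L := [(2, 5), (3, 1), (5, 1), (7, 1)]) (by norm_num) (by norm_num)
      (C := [-224, -84, -24, -14, -4, 6, 16, 21, 56, 96, 336])
      (Ds := [-168, -48, -28, -8, -3, 2, 7, 12, 32, 42, 112, 672])
      (by decide) (o := 224) (w := 1000)
      (Q := fun l => [[-4], [6]].contains l) (by decide +kernel)
    have h7 : D'.degs = [-4] ∨ D'.degs = [6] := by simpa using h6
    have h8 := degree_cases hM' D' (h1'.card_eq _) (by rw [h1'.card_centralizer]) (by norm_num)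
      h16 (by norm_num)
    rcases h7 with h7 | h7 <;> (rw [h7] at h8; simp at h8)
  · have h6 := h1'.dvd_of_dvd h1'' (by norm_num) hk'
    have h7 := h1'.dvd_normalizer h1'' hk' (by
      intro r hr hr'
      have : k' = 3 ∨ k' = 6 := by omega
      rcases this with rfl | rfl
      · have : r ≤ 1 := Nat.le_of_dvd (by norm_num) hr
        omega
      · have : r ≤ 2 := Nat.le_of_dvd (by norm_num) hr
        omega)
    rw [hek] at h7
    have h8 : k'' = 20 ∧ e'' = 2 := by
      rcases h3'' with ⟨-, rfl, rfl⟩ | ⟨-, rfl, rfl⟩ | ⟨-, rfl, rfl⟩ | ⟨-, rfl, rfl⟩ | ⟨-, rfl, rfl⟩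
        <;> omega
    obtain ⟨rfl, rfl⟩ := h8
    have h9 := h1''.dvd_normalizer h1' (by norm_num) (by
      intro r hr hr'
      have : r ≤ 4 := Nat.le_of_dvd (by norm_num) hr
      omega)
    rw [hek] at h9
    omega

theorem kill_1680 (h : Nat.card G = 1680) : False := by
  have hG := not_comm h (by norm_num)
  have : Fact (Nat.Prime 7) := ⟨by norm_num⟩
  have : Fact (Nat.Prime 5) := ⟨by norm_num⟩
  obtain ⟨d, e, k, h1, h2, h3⟩ := data_cases h hG 7 (by norm_num) (by norm_num) (by norm_num)
    (by norm_num) [(120, 2, 1)] (by decide +kernel)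
  simp only [List.mem_cons, Prod.mk.injEq, List.mem_nil_iff, or_false] at h3
  obtain ⟨rfl, rfl, rfl⟩ := h3
  obtain ⟨M, hM, ⟨D⟩⟩ := exists_block h1 (by norm_num) default (t := 3) (by norm_num)
  have h4 := degs_simple D (h1.card_eq _) rfl h (by norm_num) (by norm_num)
    (L := [(2, 4), (3, 1), (5, 1), (7, 1)]) (by norm_num) (by norm_num)
    (C := [-48, -20, -6, 8, 15, 120]) (Ds := [-40, -12, -5, 2, 16, 30, 240])
    (by decide) (o := 48) (w := 1000)
    (Q := fun l => [[-6], [15]].contains l) (by decide +kernel)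
  have h5 : D.degs = [-6] ∨ D.degs = [15] := by simpa using h4
  obtain ⟨d', e', k', h1', h2', h3'⟩ := data_cases h hG 5 (by norm_num) (by norm_num) (by norm_num)
    (by norm_num) [(21, 4, 4), (56, 2, 3)] (by decide +kernel)
  obtain ⟨d'', e'', k'', h1'', h2'', h3''⟩ := data_cases h hG 3 (by norm_num) (by norm_num)
    (by norm_num) (by norm_num) [(28, 2, 10), (40, 2, 7), (70, 2, 4), (280, 2, 1)]
    (by decide +kernel)
  simp only [List.mem_cons, Prod.mk.injEq, List.mem_nil_iff, or_false] at h3' h3''
  rcases h5 with h5 | h5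
  · have h6 := dexc_mem D (by norm_num)
    rw [h5] at h6
    obtain ⟨χ, hχ⟩ := h6
    have h7 := MTwelve.SmallDegree.centralizer_eq_of_degree_eq
      (MTwelve.SmallDegree.commutator_eq_top_of_card (by rw [h]; norm_num)) (default : Sylow 5 G)
      (h1'.card_eq _) χ.2 (by
        rw [Blocks.Basic.irr_one_eq_charDegree χ.2, hχ]
        norm_num)
    have h8 := h1'.card_centralizer (default : Sylow 5 G)
    have h9 := h1'.card_eq (default : Sylow 5 G)
    have h10 : Nat.card (centralizer ((default : Sylow 5 G) : Set G)) = 5 := by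
      have : centralizer ((default : Sylow 5 G) : Set G) = ((default : Sylow 5 G) : Subgroup G) := h7
      rw [this]
      exact h9
    rw [h10] at h8
    omega
  · rcases h3' with ⟨rfl, rfl, rfl⟩ | ⟨rfl, rfl, rfl⟩
    · -- the principal 5-block
      obtain ⟨M', hM', ⟨D'⟩⟩ := exists_block h1' (by norm_num) default (t := 1) (by norm_num)
      have hf : D.f = 16 := by
        rw [← D.natAbs_dexc, ← D.dexc_eq (by norm_num), h5]
        rfl
      have key : ∀ χ : IrrCharacter G, (charDegree (χ : G → ℂ) = 1 ∨ charDegree (χ : G → ℂ) = 15 ∨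
          charDegree (χ : G → ℂ) = 16) ∨ (7 ∣ charDegree (χ : G → ℂ) ∧
            charDegree (χ : G → ℂ) ≤ 26) := by
        intro χ
        by_cases hχ : χ ∈ principalBlock M G
        · left
          have h6 := block_degree_cases D (by norm_num) hχ
          rw [h5] at h6
          simp only [List.mem_cons, List.mem_nil_iff, or_false] at h6
          rcases h6 with h6 | ⟨z, rfl, h6⟩ | h6
          · exact Or.inl h6
          · exact Or.inr (Or.inl h6.symm)
          · exact Or.inr (Or.inr h6)
        · right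
          constructor
          · by_contra h7
            exact hχ (mem_principalBlock hM D (h1.card_eq _) (by rw [h1.card_centralizer]) h7)
          · have h6 := sq_add_le D hχ
            rw [h5, hf, h] at h6
            norm_num at h6
            by_contra h7
            push Not at h7
            have h8 : (27 : ℤ) ≤ charDegree (χ : G → ℂ) := by exact_mod_cast h7
            nlinarith
      have h6 := SmallSimple.DegreeCheck.degs_check D' (h1'.card_eq _) rfl h
        (L := [(2, 4), (3, 1), (5, 1), (7, 1)]) (by norm_num) (by norm_num)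
        (F := fun z => decide (3 ≤ z.natAbs) && (decide (z.natAbs = 15) || decide (z.natAbs = 16) ||
          (decide (z.natAbs % 7 = 0) && decide (z.natAbs ≤ 26))))
        (FX := fun z => (decide (z.natAbs = 1) || decide (z.natAbs = 15) || decide (z.natAbs = 16) ||
          (decide (z.natAbs % 7 = 0) && decide (z.natAbs ≤ 26))))
        (C := [-14, 16, 21]) (Ds := [-21, -16, -1, 14]) (o := 14) (w := 1000) (M := 0)
        (wt := fun _ => 0) (V := 0) (P := fun _ => false) (by
          intro z hz
          have h7 := degs_three_le (by rw [h]; norm_num) (by rw [h]; norm_num) D' z hz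
          obtain ⟨χ, hχ⟩ := degs_mem D' hz
          have h8 := key χ
          rw [hχ] at h8
          simp only [Bool.and_eq_true, Bool.or_eq_true, decide_eq_true_eq]
          omega) (by
          have h6 := dexc_mem D' (by norm_num)
          rw [D'.dexc_eq (by norm_num)] at h6
          obtain ⟨χ, hχ⟩ := h6
          have h8 := key χ
          rw [hχ] at h8
          simp only [Bool.and_eq_true, Bool.or_eq_true, decide_eq_true_eq]
          omega) (by decide) (Or.inl rfl) (by decide +kernel)
      exact absurd h6 (by simp)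
    · have h6 := h1'.dvd_of_dvd h1'' (by norm_num) (by norm_num)
      have h8 : k'' = 10 ∧ e'' = 2 := by omega
      obtain ⟨rfl, rfl⟩ := h8
      have h9 := h1''.dvd_normalizer h1' (by norm_num) (by
        intro r hr hr'
        have : r ≤ 2 := Nat.le_of_dvd (by norm_num) hr
        omega)
      omega

/-- The orders of nonabelian simple groups between 1093 and 3640, up to orders `p 3 ^ a 2 ^ b`. -/
theorem survivors (hG : ¬ IsMulCommutative G) (h1 : 1092 < Nat.card G) (h2 : Nat.card G ≤ 3640) :
    Nat.card G = 2448 ∨ Nat.card G = 2520 ∨ Nat.card G = 3420 ∨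
    Nat.card G ∈ [1512, 1620, 2160, 2880, 3024, 3240] := by
  have hsolv : ¬ Group.IsSolvable G := fun hs => hG ⟨⟨IsSimpleGroup.comm_iff_isSolvable.mpr hs⟩⟩
  by_cases h : Nat.card G ≤ 2399
  · have h3 := mem_of_range hG 1093 1307 _ check1 (by omega) (by omega) (by omega)
    simp only [List.mem_cons, List.mem_nil_iff, or_false] at h3
    rcases h3 with h | h | h | h | h | h | h | h | h | h | h | h | h | h | h | h
    · exact (kill_large h (by norm_num) 17 (by norm_num) (by norm_num) (by norm_num) (by norm_num)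
        (Or.inr (by norm_num))).elim
    · exact (kill_pqg h (by norm_num) 7 2 6 3 (by norm_num) (by norm_num) (by norm_num)
        (by norm_num) (by norm_num) (by norm_num) (by norm_num)).elim
    · exact absurd h S1016.result
    · simp [h]
    · exact (kill_large h (by norm_num) 13 (by norm_num) (by norm_num) (by norm_num) (by norm_num)
        (Or.inl ne_thirteen)).elim
    · simp [h]
    · exact (kill_1680 h).elim
    · exact (kill_large h (by norm_num) 13 (by norm_num) (by norm_num) (by norm_num) (by norm_num)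
        (Or.inl ne_thirteen)).elim
    · exact (hsolv (S0144.result 2 3 6 3 Nat.prime_two Nat.prime_three (by rw [h]; norm_num))).elim
    · exact (kill_five h (by norm_num) 72 (by norm_num) (by norm_num) (by norm_num) (by norm_num)
        (by decide +kernel) (by decide +kernel)).elim
    · exact (kill_1980 h).elim
    · exact absurd h S1017.result
    · exact (kill_large h (by norm_num) 13 (by norm_num) (by norm_num) (by norm_num) (by norm_num)
        (Or.inl ne_thirteen)).elim
    · exact (kill_five h (by norm_num) 84 (by norm_num) (by norm_num) (by norm_num) (by norm_num)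
        (by decide +kernel) (by decide +kernel)).elim
    · simp [h]
    · exact (kill_pqg h (by norm_num) 7 3 4 4 (by norm_num) (by norm_num) (by norm_num)
        (by norm_num) (by norm_num) (by norm_num) (by norm_num)).elim
  · have h3 := mem_of_range hG 2400 1241 _ check2 (by omega) (by omega) (by omega)
    simp only [List.mem_cons, List.mem_nil_iff, or_false] at h3
    rcases h3 with h | h | h | h | h | h | h | h | h | h | h | h | h | h | h | h | h
    · exact (kill_five h (by norm_num) 96 (by norm_num) (by norm_num) (by norm_num) (by norm_num)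
        (by decide +kernel) (by decide +kernel)).elim
    · exact Or.inl h
    · exact (kill_pqg h (by norm_num) 11 2 5 7 (by norm_num) (by norm_num) (by norm_num)
        (by norm_num) (by norm_num) (by norm_num) (by norm_num)).elim
    · exact Or.inr (Or.inl h)
    · exact (kill_pqg h (by norm_num) 7 2 7 3 (by norm_num) (by norm_num) (by norm_num)
        (by norm_num) (by norm_num) (by norm_num) (by norm_num)).elim
    · exact (kill_five h (by norm_num) 108 (by norm_num) (by norm_num) (by norm_num) (by norm_num)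
        (by decide +kernel) (by decide +kernel)).elim
    · simp [h]
    · exact (kill_large h (by norm_num) 31 (by norm_num) (by norm_num) (by norm_num) (by norm_num)
        (Or.inr (by norm_num))).elim
    · simp [h]
    · exact (kill_3120 h).elim
    · exact (kill_pqg h (by norm_num) 11 2 5 9 (by norm_num) (by norm_num) (by norm_num)
        (by norm_num) (by norm_num) (by norm_num) (by norm_num)).elim
    · simp [h]
    · exact (kill_3360 h).elim
    · exact Or.inr (Or.inr (Or.inl h))
    · exact (kill_3432 h).elim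
    · exact (kill_large h (by norm_num) 41 (by norm_num) (by norm_num) (by norm_num) (by norm_num)
        (Or.inr (by norm_num))).elim
    · exact (kill_five h (by norm_num) 144 (by norm_num) (by norm_num) (by norm_num) (by norm_num)
        (by decide +kernel) (by decide +kernel)).elim

end Cfsg.Agent.H424.SimpleOrders
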