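import Mathlib
import Cfsg.Agent.H424.SimpleOrders
import Cfsg.Agent.S0494
import Cfsg.Agent.S0495
import Cfsg.Agent.S0496
import Cfsg.Agent.S0497
import Cfsg.Agent.S0498
import Cfsg.Agent.S0981
import Cfsg.Agent.S0983
import Cfsg.Agent.S0984
import Cfsg.Agent.S1000
import Cfsg.Agent.S1011
import Cfsg.Agent.S1020
import Cfsg.Agent.S1021
import Cfsg.Agent.SmallSimple.S1000.PSLFacts
import Cfsg.Agent.LieClassical.FieldTransfer

/-!
# The simple groups of order less than 6000

* `orders` : the eleven orders;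
* `iso` : two nonabelian simple groups of the same order less than 6000 are isomorphic.
-/

set_option autoImplicit false

namespace Cfsg.Agent.H424.SmallIso

open Cfsg Cfsg.Agent.H424.SimpleOrders Cfsg.Agent.SmallSimple.PSLFacts

universe u v

variable {G : Type u} [Group G] [Finite G] [IsSimpleGroup G]

theorem known_orders (hG : ¬ IsMulCommutative G) {n : ℕ} (hn : Nat.card G = n) (p a b : ℕ)
    (hp : p.Prime) (hG' : n = p * 3 ^ a * 2 ^ b) :
    n = 60 ∨ n = 360 ∨ n = 25920 ∨ n = 168 ∨ n = 504 ∨ n = 2448 ∨ n = 6048 ∨ (n = 5616 ∧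
      ∃ (F : Type) (_ : Field F) (_ : Fintype F), Fintype.card F = 3 ∧
        Nonempty (G ≃* Matrix.ProjectiveSpecialLinearGroup (Fin 3) F)) := by
  rcases S1000.result hG p a b hp (hn.trans hG') with ⟨⟨e⟩⟩ | ⟨⟨e⟩⟩ | ⟨F, _, _, hF, ⟨e⟩⟩ |
    ⟨F, _, _, hF, ⟨e⟩⟩ | ⟨F, _, _, hF, ⟨e⟩⟩ | ⟨F, _, _, hF, ⟨e⟩⟩
  · left; rw [← hn, Nat.card_congr e.toEquiv, card_alt_five]
  · right; left; rw [← hn, Nat.card_congr e.toEquiv, card_alt_six]
  · right; right; left; rw [← hn, Nat.card_congr e.toEquiv, card_psp_two_three hF]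
  · rcases hF with hF | hF | hF
    · right; right; right; left; rw [← hn, Nat.card_congr e.toEquiv, card_psl_two_seven hF]
    · right; right; right; right; left
      rw [← hn, Nat.card_congr e.toEquiv, card_psl_two_eight hF]
    · right; right; right; right; right; left
      rw [← hn, Nat.card_congr e.toEquiv, card_psl_two_seventeen hF]
  · right; right; right; right; right; right; left
    rw [← hn, Nat.card_congr e.toEquiv, card_psu_three_three hF]
  · right; right; right; right; right; right; right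
    refine ⟨?_, F, _, _, hF, ⟨e⟩⟩
    rw [← hn, Nat.card_congr e.toEquiv, card_psl_three_three hF]

/-- The orders of the nonabelian simple groups of order less than 6000. -/
theorem orders (hG : ¬ IsMulCommutative G) (h : Nat.card G < 6000) :
    Nat.card G = 60 ∨ Nat.card G = 168 ∨ Nat.card G = 360 ∨ Nat.card G = 504 ∨ Nat.card G = 660 ∨
      Nat.card G = 1092 ∨ Nat.card G = 2448 ∨ Nat.card G = 2520 ∨ Nat.card G = 3420 ∨
      Nat.card G = 4080 ∨ Nat.card G = 5616 := by
  rcases Nat.lt_or_ge 1092 (Nat.card G) with h1 | h1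
  · rcases Nat.lt_or_ge 3640 (Nat.card G) with h2 | h2
    · have := S0983.result hG h2 (by omega)
      omega
    · rcases survivors hG h1 h2 with h3 | h3 | h3 | h3
      · omega
      · omega
      · omega
      · exfalso
        simp only [List.mem_cons, List.mem_nil_iff, or_false] at h3
        rcases h3 with h3 | h3 | h3 | h3 | h3 | h3
        · have := known_orders hG h3 7 3 3 (by norm_num) (by norm_num)
          omega
        · have := known_orders hG h3 5 4 2 (by norm_num) (by norm_num)
          omega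
        · have := known_orders hG h3 5 3 4 (by norm_num) (by norm_num)
          omega
        · have := known_orders hG h3 5 2 6 (by norm_num) (by norm_num)
          omega
        · have := known_orders hG h3 7 3 4 (by norm_num) (by norm_num)
          omega
        · have := known_orders hG h3 5 4 3 (by norm_num) (by norm_num)
          omega
  · have := S0496.result hG h1
    omega

/-- Two nonabelian simple groups of the same order less than 6000 are isomorphic. -/
theorem iso (hG : ¬ IsMulCommutative G) (h : Nat.card G < 6000) {S : Type v} [Group S] [Finite S]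
    [IsSimpleGroup S] (hS : ¬ IsMulCommutative S) (hcard : Nat.card S = Nat.card G) :
    Nonempty (G ≃* S) := by
  have : Fact (Nat.Prime 7) := ⟨by norm_num⟩
  have : Fact (Nat.Prime 11) := ⟨by norm_num⟩
  have : Fact (Nat.Prime 13) := ⟨by norm_num⟩
  have : Fact (Nat.Prime 17) := ⟨by norm_num⟩
  have : Fact (Nat.Prime 19) := ⟨by norm_num⟩
  have : Fact (Nat.Prime 2) := ⟨by norm_num⟩
  rcases orders hG h with h1 | h1 | h1 | h1 | h1 | h1 | h1 | h1 | h1 | h1 | h1
  · obtain ⟨e⟩ := S0494.result h1
    obtain ⟨f⟩ := S0494.result (hcard.trans h1)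
    exact ⟨e.trans f.symm⟩
  · obtain ⟨e⟩ := S0495.result h1 (F := ZMod 7) (by rw [ZMod.card])
    obtain ⟨f⟩ := S0495.result (hcard.trans h1) (F := ZMod 7) (by rw [ZMod.card])
    exact ⟨e.trans f.symm⟩
  · obtain ⟨e⟩ := S0497.result h1
    obtain ⟨f⟩ := S0497.result (hcard.trans h1)
    exact ⟨e.trans f.symm⟩
  · have := Fintype.ofFinite (GaloisField 2 3)
    have hF : Fintype.card (GaloisField 2 3) = 8 := by
      rw [← Nat.card_eq_fintype_card, GaloisField.card 2 3 (by norm_num)]; norm_num
    obtain ⟨e⟩ := S1011.result h1 hF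
    obtain ⟨f⟩ := S1011.result (hcard.trans h1) hF
    exact ⟨e.trans f.symm⟩
  · obtain ⟨e⟩ := S0498.result (G := G) 11 (by norm_num) (by rw [h1]; norm_num) (F := ZMod 11)
      (by rw [ZMod.card])
    obtain ⟨f⟩ := S0498.result (G := S) 11 (by norm_num) (by rw [hcard, h1]; norm_num) (F := ZMod 11)
      (by rw [ZMod.card])
    exact ⟨e.trans f.symm⟩
  · obtain ⟨e⟩ := S0498.result (G := G) 13 (by norm_num) (by rw [h1]; norm_num) (F := ZMod 13)
      (by rw [ZMod.card])
    obtain ⟨f⟩ := S0498.result (G := S) 13 (by norm_num) (by rw [hcard, h1]; norm_num) (F := ZMod 13)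
      (by rw [ZMod.card])
    exact ⟨e.trans f.symm⟩
  · obtain ⟨e⟩ := S1020.result h1 (F := ZMod 17) (by rw [ZMod.card])
    obtain ⟨f⟩ := S1020.result (hcard.trans h1) (F := ZMod 17) (by rw [ZMod.card])
    exact ⟨e.trans f.symm⟩
  · obtain ⟨e⟩ := S0984.result h1
    obtain ⟨f⟩ := S0984.result (hcard.trans h1)
    exact ⟨e.trans f.symm⟩
  · obtain ⟨e⟩ := S1021.result h1 (F := ZMod 19) (by rw [ZMod.card])
    obtain ⟨f⟩ := S1021.result (hcard.trans h1) (F := ZMod 19) (by rw [ZMod.card])
    exact ⟨e.trans f.symm⟩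
  · have := Fintype.ofFinite (GaloisField 2 4)
    have hF : Fintype.card (GaloisField 2 4) = 16 := by
      rw [← Nat.card_eq_fintype_card, GaloisField.card 2 4 (by norm_num)]; norm_num
    obtain ⟨e⟩ := S0981.result h1 hF
    obtain ⟨f⟩ := S0981.result (hcard.trans h1) hF
    exact ⟨e.trans f.symm⟩
  · have h2 := known_orders hG h1 13 3 4 (by norm_num) (by norm_num)
    have h3 := known_orders hS (hcard.trans h1) 13 3 4 (by norm_num) (by norm_num)
    rcases h2 with h2 | h2 | h2 | h2 | h2 | h2 | h2 | ⟨-, F, _, _, hF, ⟨e⟩⟩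
    iterate 7 exact absurd h2 (by norm_num)
    rcases h3 with h3 | h3 | h3 | h3 | h3 | h3 | h3 | ⟨-, K, _, _, hK, ⟨f⟩⟩
    iterate 7 exact absurd h3 (by norm_num)
    have : Fact (Nat.Prime 3) := ⟨by norm_num⟩
    have i : F ≃+* K := FiniteField.ringEquivOfCardEq (hF.trans hK.symm)
    exact ⟨(e.trans (LieClassical.FieldTransfer.pslCongr i)).trans f.symm⟩

end Cfsg.Agent.H424.SmallIso
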