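import Mathlib
import Cfsg.Agent.H390.NonAdj
import Cfsg.Agent.H390.Lift
import Cfsg.Agent.H150.FarOrthEven
import Cfsg.Agent.S2469
import Cfsg.Agent.S2472
import Cfsg.Agent.S0246

/-!
# The prime graph of `PΩ⁺₈(q)`: primes `r` with `ord_r(q) = 3, 4, 6` (helper424)

* `coc_plus` : `ord_r(q) ∈ {3, 6}`, `ord_s(q) ∈ {3, 4, 6}` different: no elements of order `r s`;
* `char_plus` : `ord_r(q) ∈ {3, 6}`: no elements of order `r p`;
* `sixteen_plus`, `sixteen_psp` : no elements of order 16 in characteristic 2.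
-/

set_option autoImplicit false

namespace Cfsg.Agent.H424.SpecPlus

open Module Cfsg Cfsg.Agent.H150 Cfsg.Agent.H390 Cfsg.Agent.H390.Lift Cfsg.Agent.H390.NonAdj
open Cfsg.Agent.H390.Dec
open Cfsg.Agent.LieClassical.OrthCount Cfsg.Agent.LieClassical.OmegaReindex Cfsg.Agent.LieClassical

section

variable {F : Type*} [Field F]

theorem data_plus [Finite F] {m : ℕ} (hm : 3 ≤ m) : Data (quadPlus m F) := by
  have hc : Fintype.card (Fin m ⊕ Fin m) = 2 * m := by
    rw [Fintype.card_sum, Fintype.card_fin]; ring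
  have : Nonempty (Fin m ⊕ Fin m) := ⟨.inl ⟨0, by omega⟩⟩
  refine ⟨quadPlus_nondegenerate, by rw [hc]; omega, quadPlus_sing (by omega), ?_⟩
  by_cases h2 : (2 : F) = 0
  · left
    exact Cfsg.Agent.ClassicalGeometry.OrthDickson.index_commutator_two (quadPlus m F) h2
      quadPlus_nondegenerate (Or.inr (by rw [hc]; omega))
  · right
    exact Cfsg.Agent.ClassicalGeometry.OmegaIndex.index_Omega h2 (by rw [hc]; omega) (quadPlus m F)
      quadPlus_nondegenerate

/-- the arithmetic hypotheses on a prime `r` : `ord_r(q) = e` -/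
structure Pr (F : Type*) (r e : ℕ) : Prop where
  prime : r.Prime
  five : 5 ≤ r
  ord : orderOf ((Nat.card F : ℕ) : ZMod r) = e
  pos : 2 ≤ e

theorem Pr.ne_two {r e : ℕ} (h : Pr F r e) : r ≠ 2 := by have := h.five; omega

theorem Pr.cast_ne [Finite F] {r e : ℕ} (h : Pr F r e) : ((r : ℕ) : F) ≠ 0 := by
  rw [natCast_ne_zero_iff h.prime]
  intro hd
  have h1 : ((Nat.card F : ℕ) : ZMod r) = 0 := (ZMod.natCast_eq_zero_iff _ _).2 hd
  have h2 := h.ord
  have : Fact r.Prime := ⟨h.prime⟩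
  rw [h1, orderOf_eq_zero_iff'.2 (by
    intro n hn
    rw [zero_pow (by omega)]
    exact zero_ne_one)] at h2
  have := h.pos
  omega

theorem Pr.ne_char [Finite F] {r e : ℕ} (h : Pr F r e) (p : ℕ) [CharP F p] : r ≠ p := by
  rintro rfl
  exact h.cast_ne (CharP.cast_eq_zero F r)

/-- `PSp₆(q)` -/
theorem coc_psp [Fintype F] {r s d e : ℕ} (hr : Pr F r d) (hs : Pr F s e) (hd : d = 3 ∨ d = 6)
    (he : e = 3 ∨ e = 4 ∨ e = 6) (hde : d ≠ e) (g : PSp 3 F) : orderOf g ≠ r * s := by
  intro hg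
  obtain ⟨p, hp⟩ := CharP.exists F
  have hpp : Fact p.Prime := ⟨CharP.char_is_prime F p⟩
  have hrs : r ≠ s := by
    rintro rfl
    exact hde (hr.ord.symm.trans hs.ord)
  have h1 : r ∣ Nat.card (PSp 3 F) := by
    have := orderOf_dvd_natCard g
    rw [hg] at this
    exact (Dvd.intro _ rfl).trans this
  have h2 : s ∣ Nat.card (PSp 3 F) := by
    have := orderOf_dvd_natCard g
    rw [hg] at this
    exact (Dvd.intro_left _ rfl).trans this
  have hro := hr.ord
  have hso := hs.ord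
  rw [Nat.card_eq_fintype_card] at hro hso
  have key : s * r ∉ Set.range (orderOf : Cfsg.PSp 3 F → ℕ) := by
    rcases he with rfl | rfl | rfl
    · have hd6 : d = 6 := by omega
      subst hd6
      refine (S2469.result p 3 (by norm_num) (by norm_num) s r hs.prime hr.prime hs.ne_two hr.ne_two
        (hs.ne_char p) (hr.ne_char p) hrs.symm h2 h1 3 6 3 3 hso.symm hro.symm (Or.inl ⟨by decide, rfl⟩)
        (Or.inr ⟨by decide, rfl⟩) le_rfl).2 ⟨by norm_num, ?_⟩
      rintro ⟨t, ht, h⟩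
      have : t = 2 := by omega
      subst this
      exact absurd ht (by decide)
    · rcases hd with rfl | rfl
      · refine (S2469.result p 3 (by norm_num) (by norm_num) s r hs.prime hr.prime hs.ne_two hr.ne_two
          (hs.ne_char p) (hr.ne_char p) hrs.symm h2 h1 4 3 2 3 hso.symm hro.symm (Or.inr ⟨by decide, rfl⟩)
          (Or.inl ⟨by decide, rfl⟩) (by norm_num)).2 ⟨by norm_num, ?_⟩
        rintro ⟨t, ht, h⟩
        omega
      · refine (S2469.result p 3 (by norm_num) (by norm_num) s r hs.prime hr.prime hs.ne_two hr.ne_two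
          (hs.ne_char p) (hr.ne_char p) hrs.symm h2 h1 4 6 2 3 hso.symm hro.symm (Or.inr ⟨by decide, rfl⟩)
          (Or.inr ⟨by decide, rfl⟩) (by norm_num)).2 ⟨by norm_num, ?_⟩
        rintro ⟨t, ht, h⟩
        omega
    · have hd3 : d = 3 := by omega
      subst hd3
      refine (S2469.result p 3 (by norm_num) (by norm_num) s r hs.prime hr.prime hs.ne_two hr.ne_two
        (hs.ne_char p) (hr.ne_char p) hrs.symm h2 h1 6 3 3 3 hso.symm hro.symm (Or.inr ⟨by decide, rfl⟩)
        (Or.inl ⟨by decide, rfl⟩) le_rfl).2 ⟨by norm_num, ?_⟩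
      rintro ⟨t, ht, h⟩
      omega
  exact key ⟨g, by rw [hg, mul_comm]⟩

theorem char_psp [Fintype F] (p : ℕ) [CharP F p] {r d : ℕ} (hr : Pr F r d) (hd : d = 3 ∨ d = 6)
    (g : PSp 3 F) : orderOf g ≠ r * p := by
  intro hg
  have hpp : Fact p.Prime := ⟨CharP.char_is_prime F p⟩
  have h1 : r ∣ Nat.card (PSp 3 F) := by
    have := orderOf_dvd_natCard g
    rw [hg] at this
    exact (Dvd.intro _ rfl).trans this
  have hro := hr.ord
  rw [Nat.card_eq_fintype_card] at hro
  have key : r * p ∉ Set.range (orderOf : Cfsg.PSp 3 F → ℕ) := by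
    rcases hd with rfl | rfl
    · exact (S2472.result p 3 (by norm_num) (by norm_num) r hr.prime hr.ne_two (hr.ne_char p) h1 3 3
        hro.symm (Or.inl ⟨by decide, rfl⟩)).2 (by norm_num)
    · exact (S2472.result p 3 (by norm_num) (by norm_num) r hr.prime hr.ne_two (hr.ne_char p) h1 6 3
        hro.symm (Or.inr ⟨by decide, rfl⟩)).2 (by norm_num)
  exact key ⟨g, hg⟩

variable {V : Type*} [AddCommGroup V] [Module F V] [FiniteDimensional F V]

/-- splitting an isometry of order `r * s` -/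
theorem split {T : V →ₗ[F] V} {r s : ℕ} (hr : r.Prime) (hs : s.Prime) (hrs : r ≠ s)
    (hT : ∀ j : ℕ, T ^ j = 1 ↔ r * s ∣ j) :
    (T ^ s) ^ r = 1 ∧ T ^ s ≠ 1 ∧ (T ^ r) ^ s = 1 ∧ T ^ r ≠ 1 := by
  refine ⟨?_, ?_, ?_, ?_⟩
  · rw [← pow_mul, hT, mul_comm]
  · rw [Ne, hT]
    intro h
    have h1 : r ∣ s := (Dvd.intro _ rfl).trans h
    exact hrs ((Nat.prime_dvd_prime_iff_eq hr hs).1 h1)
  · rw [← pow_mul, hT]
  · rw [Ne, hT]
    intro h
    have h1 : s ∣ r := (Dvd.intro_left _ rfl).trans h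
    exact hrs ((Nat.prime_dvd_prime_iff_eq hs hr).1 h1).symm

/-- `y` trivial on `range (x - 1)`: the range of `y - 1` is small -/
theorem finrank_range_le {x y : V →ₗ[F] V}
    (hc : IsCompl (LinearMap.ker (x - 1)) (LinearMap.range (x - 1)))
    (hy : ∀ v ∈ LinearMap.range (x - 1), y v = v) :
    finrank F (LinearMap.range (y - 1)) ≤ finrank F (LinearMap.ker (x - 1)) := by
  have h1 : LinearMap.range (y - 1) = (LinearMap.ker (x - 1)).map (y - 1) := by
    rw [← Submodule.map_top, ← hc.sup_eq_top, Submodule.map_sup]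
    have : (LinearMap.range (x - 1)).map (y - 1) = ⊥ := by
      rw [Submodule.eq_bot_iff]
      rintro _ ⟨v, hv, rfl⟩
      rw [LinearMap.sub_apply, hy v hv, Module.End.one_apply, sub_self]
    rw [this, sup_bot_eq]
  rw [h1]
  exact Submodule.finrank_map_le _ _

theorem isEta {d : ℕ} (hd : d = 3 ∨ d = 6) : IsEta d 3 := by
  rcases hd with rfl | rfl
  · exact Or.inl ⟨by decide, rfl⟩
  · exact Or.inr ⟨by decide, rfl⟩

theorem coc_lin [Fintype F] (Q : QuadraticForm F V) (hQ : ND Q) (hV : finrank F V = 8) {r s d e : ℕ}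
    (hr : Pr F r d) (hs : Pr F s e) (hd : d = 3 ∨ d = 6)
    (he : e = 3 ∨ e = 4 ∨ e = 6) (hde : d ≠ e) {T : V →ₗ[F] V} (hTQ : ∀ v, Q (T v) = Q v)
    (hT : ∀ j : ℕ, T ^ j = 1 ↔ r * s ∣ j) : False := by
  have hrs : r ≠ s := by
    rintro rfl
    exact hde (hr.ord.symm.trans hs.ord)
  obtain ⟨h1, h2, h3, h4⟩ := split hr.prime hs.prime hrs hT
  have hcomm : Commute (T ^ s) (T ^ r) := (Commute.refl T).pow_pow _ _
  have hdim := finrank_range_eq Q hQ hr.prime hr.ne_two hr.cast_ne h1 h2 (quad_pow hTQ s) hr.ord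
    (isEta hd) (by omega)
  have hcompl := isCompl_fix hr.cast_ne (T ^ s) h1
  have hsum := Submodule.finrank_add_eq_of_isCompl hcompl
  by_cases hy : ∃ v ∈ LinearMap.range (T ^ s - 1), (T ^ r) v ≠ v
  · obtain ⟨g, hg⟩ := exists_psp_of_range Q hQ hr.prime hr.ne_two hr.cast_ne hs.prime hs.ne_two hrs
      (T ^ s) (T ^ r) hcomm h1 h3 (quad_pow hTQ s) (quad_pow hTQ r) hy hdim
    exact coc_psp hr hs hd he hde g hg
  · push Not at hy
    have h5 := finrank_range_le hcompl hy
    have h6 : ∃ η, 2 ≤ η ∧ ((Odd e ∧ η = e) ∨ (Even e ∧ 2 * η = e)) := by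
      rcases he with rfl | rfl | rfl
      · exact ⟨3, by norm_num, Or.inl ⟨by decide, rfl⟩⟩
      · exact ⟨2, by norm_num, Or.inr ⟨by decide, rfl⟩⟩
      · exact ⟨3, by norm_num, Or.inr ⟨by decide, rfl⟩⟩
    obtain ⟨η, hη2, hη⟩ := h6
    have h7 := dvd_finrank Q hQ hs.prime hs.ne_two hs.cast_ne (T ^ r) h3 (quad_pow hTQ r)
      (η := η) (by rw [hs.ord]; exact hη)
    have h8 : 0 < finrank F (LinearMap.range (T ^ r - 1)) := by
      rw [Module.finrank_pos_iff]
      apply Submodule.nontrivial_iff_ne_bot.2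
      intro h
      rw [LinearMap.range_eq_bot, sub_eq_zero] at h
      exact h4 h
    have h9 := Nat.le_of_dvd h8 h7
    omega

theorem finrank_eight : finrank F (Fin 4 ⊕ Fin 4 → F) = 8 := by
  rw [Module.finrank_fintype_fun_eq_card, Fintype.card_sum, Fintype.card_fin]

/-- an element of odd order (any order in characteristic two) as a linear isometry -/
theorem exists_T [Finite F] {m : ℕ} (hm : Odd m ∨ (2 : F) = 0)
    (h : ∃ g : POmega F (quadFormPlus 4 F), orderOf g = m) :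
    ∃ T : (Fin 4 ⊕ Fin 4 → F) →ₗ[F] (Fin 4 ⊕ Fin 4 → F), (∀ v, quadPlus 4 F (T v) = quadPlus 4 F v) ∧
      ∀ j : ℕ, T ^ j = 1 ↔ m ∣ j := by
  rw [← coe_quadPlus] at h
  obtain ⟨X, hX⟩ : ∃ X : Cfsg.isometryGroup F (⇑(quadPlus 4 F)), orderOf X = m := by
    rcases hm with hm | h2
    · exact exists_isom (data_plus (by norm_num)) hm h
    · exact exists_isom_two h2 (data_plus (by norm_num)) h
  obtain ⟨T, hT, hj⟩ := exists_lin X
  exact ⟨T, hT, fun j => by rw [← hj, ← hX, orderOf_dvd_iff_pow_eq_one]⟩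

/-- `PΩ⁺₈(q)` -/
theorem coc_plus [Fintype F] {r s d e : ℕ} (hr : Pr F r d) (hs : Pr F s e) (hd : d = 3 ∨ d = 6)
    (he : e = 3 ∨ e = 4 ∨ e = 6) (hde : d ≠ e) (g : POmega F (quadFormPlus 4 F)) :
    orderOf g ≠ r * s := by
  intro hg
  obtain ⟨T, hTQ, hT⟩ := exists_T (Or.inl ((hr.prime.odd_of_ne_two hr.ne_two).mul
    (hs.prime.odd_of_ne_two hs.ne_two))) ⟨g, hg⟩
  exact coc_lin (quadPlus 4 F) (data_plus (m := 4) (by norm_num)).ND finrank_eight hr hs hd he hde hTQ hT

theorem nilp_of_char {p : ℕ} [Fact p.Prime] [CharP F p] {n : ℕ} {y : V →ₗ[F] V} (hy : y ^ (p ^ n) = 1) :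
    IsNilpotent (y - 1) := by
  by_cases hV : Nontrivial V
  · have : CharP (Module.End F V) p := charP_of_injective_algebraMap
      (FaithfulSMul.algebraMap_injective F (Module.End F V)) p
    refine ⟨p ^ n, ?_⟩
    have h1 := sub_pow_char_pow_of_commute p n (Commute.one_right y)
    rw [h1, hy, one_pow, sub_self]
  · have := not_nontrivial_iff_subsingleton.1 hV
    refine ⟨1, ?_⟩
    ext v
    exact Subsingleton.elim _ _

theorem char_plus [Fintype F] (p : ℕ) [CharP F p] {r d : ℕ} (hr : Pr F r d) (hd : d = 3 ∨ d = 6)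
    (g : POmega F (quadFormPlus 4 F)) : orderOf g ≠ r * p := by
  intro hg
  have hpp : Fact p.Prime := ⟨CharP.char_is_prime F p⟩
  by_cases h2 : (2 : F) = 0
  · have hp2 : p = 2 := by
      have h3 : ((2 : ℕ) : F) = 0 := by push_cast; exact h2
      rw [CharP.cast_eq_zero_iff F p] at h3
      exact (Nat.prime_dvd_prime_iff_eq hpp.out Nat.prime_two).1 h3
    subst hp2
    have h4 := gen_partial_even h2 (quadPlus 4 F) quadPlus_nondegenerate (n := 4) finrank_eight
      (quadPlus_sing (by norm_num)) hr.prime hr.ne_two hr.cast_ne le_rfl hr.ord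
      (by rcases hd with rfl | rfl
          · exact Or.inl ⟨by decide, rfl⟩
          · exact Or.inr ⟨by decide, rfl⟩)
    rw [coe_quadPlus] at h4
    exact h4 g (by rw [hg, mul_comm])
  · have hp2 : p ≠ 2 := by
      rintro rfl
      exact h2 (by have := CharP.cast_eq_zero F 2; push_cast at this; exact this)
    have hrp := hr.ne_char p
    obtain ⟨T, hTQ, hT⟩ := exists_T (Or.inl ((hr.prime.odd_of_ne_two hr.ne_two).mul
      (hpp.out.odd_of_ne_two hp2))) ⟨g, hg⟩
    obtain ⟨h1, h2', h3, h4⟩ := split hr.prime hpp.out hrp hT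
    set Q := quadPlus 4 F
    have hQ : ND Q := (data_plus (m := 4) (by norm_num)).ND
    have hcomm : Commute (T ^ p) (T ^ r) := (Commute.refl T).pow_pow _ _
    have hdim := finrank_range_eq Q hQ hr.prime hr.ne_two hr.cast_ne h1 h2' (quad_pow hTQ p) hr.ord
      (isEta hd) (by rw [finrank_eight]; norm_num)
    have hcompl := isCompl_fix hr.cast_ne (T ^ p) h1
    have hsum := Submodule.finrank_add_eq_of_isCompl hcompl
    rw [finrank_eight] at hsum
    have hnil : IsNilpotent (T ^ r - 1) := nilp_of_char (p := p) (n := 1) (by rw [pow_one]; exact h3)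
    have htriv : ∀ v ∈ LinearMap.range (T ^ p - 1), (T ^ r) v = v := by
      by_contra hcon
      push Not at hcon
      have := unip_range Q hQ hr.prime hr.ne_two hr.cast_ne (T ^ p) (T ^ r) hcomm h1 hnil
        (quad_pow hTQ p) (quad_pow hTQ r) hcon (m := 3) (by norm_num) hdim (η := 3)
        (by rw [hr.ord]; exact isEta hd)
      omega
    -- the action on the plane
    have hxy : ∀ v, (T ^ p) ((T ^ r) v) = (T ^ r) ((T ^ p) v) := fun v => LinearMap.congr_fun hcomm.eq v
    have hyC := (range_inv hxy).2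
    have hxM := (range_inv (x := T ^ p) (y := T ^ p) (fun v => rfl)).1
    obtain ⟨hCnd, -, -, -, -, -⟩ := dec Q hQ (hr.prime.odd_of_ne_two hr.ne_two) hr.cast_ne (T ^ p) h1
      (quad_pow hTQ p) hxM
    have hyU3 : ((T ^ r).restrict hyC) ^ p = 1 := restrict_pow_eq_one hyC h3
    have hyUQ : ∀ v, (Q.comp (LinearMap.ker (T ^ p - 1)).subtype) ((T ^ r).restrict hyC v) =
        (Q.comp (LinearMap.ker (T ^ p - 1)).subtype) v := fun v => quad_pow hTQ r v
    have h5 := uni_two h2 _ hCnd (by omega) _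
      (nilp_of_char (p := p) (n := 1) (by rw [pow_one]; exact hyU3)) hyUQ
    apply h4
    refine eq_one_of_restrict hcompl ?_ htriv
    intro v hv
    exact congrArg Subtype.val (LinearMap.congr_fun h5 ⟨v, hv⟩)

theorem pow_eight {T : V →ₗ[F] V} (h2 : (2 : F) = 0) (hV : finrank F V ≤ 8) (hT : T ^ 16 = 1) :
    T ^ 8 = 1 := by
  have : CharP F 2 := CharTwo.of_one_ne_zero_of_two_eq_zero one_ne_zero h2
  have h1 : IsNilpotent (T - 1) := nilp_of_char (p := 2) (n := 4) (by norm_num; exact hT)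
  by_cases hVn : Nontrivial V
  · have : CharP (Module.End F V) 2 := charP_of_injective_algebraMap
      (FaithfulSMul.algebraMap_injective F (Module.End F V)) 2
    have h3 : (T - 1) ^ 8 = 0 := by
      have h4 := LinearMap.aeval_self_charpoly (T - 1)
      rw [IsNilpotent.charpoly_eq_X_pow_finrank h1, map_pow, Polynomial.aeval_X] at h4
      exact pow_eq_zero_of_le hV h4
    have h5 := sub_pow_char_pow_of_commute 2 3 (Commute.one_right T)
    norm_num at h5
    rw [h3] at h5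
    exact (sub_eq_zero.1 h5.symm)
  · have := not_nontrivial_iff_subsingleton.1 hVn
    ext v
    exact Subsingleton.elim _ _

theorem sixteen_plus [Finite F] (h2 : (2 : F) = 0) (g : POmega F (quadFormPlus 4 F)) : orderOf g ≠ 16 := by
  intro hg
  obtain ⟨T, hTQ, hT⟩ := exists_T (Or.inr h2) ⟨g, hg⟩
  have h1 := pow_eight h2 finrank_eight.le ((hT 16).2 dvd_rfl)
  have := (hT 8).1 h1
  omega

theorem sixteen_psp [Finite F] (h2 : (2 : F) = 0) (g : PSp 3 F) : orderOf g ≠ 16 := by
  intro hg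
  have : CharP F 2 := CharTwo.of_one_ne_zero_of_two_eq_zero one_ne_zero h2
  have := Fintype.ofFinite F
  have hc := S0246.result (F := F) (q := Fintype.card F) rfl 3 (by norm_num)
  have h2q : Nat.gcd 2 (Fintype.card F - 1) = 1 := by
    obtain ⟨n, -, hn⟩ := FiniteField.card F 2
    have h3 : 2 ∣ Fintype.card F := by rw [hn]; exact dvd_pow_self 2 n.ne_zero
    have h4 := Fintype.one_lt_card (α := F)
    rw [Nat.coprime_two_left.2]
    exact Nat.odd_iff.2 (by omega)
  rw [h2q] at hc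
  obtain ⟨M, rfl⟩ := QuotientGroup.mk'_surjective (Subgroup.center (Matrix.symplecticGroup (Fin 3) F)) g
  have hinj : Function.Injective
      (QuotientGroup.mk' (Subgroup.center (Matrix.symplecticGroup (Fin 3) F))) := by
    rw [← MonoidHom.ker_eq_bot_iff, QuotientGroup.ker_mk', ← Subgroup.card_eq_one, hc]
  have hM : orderOf M = 16 := by rw [← hg]; exact (orderOf_injective _ hinj M).symm
  set A : Matrix (Fin 3 ⊕ Fin 3) (Fin 3 ⊕ Fin 3) F := (M : Matrix (Fin 3 ⊕ Fin 3) (Fin 3 ⊕ Fin 3) F)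
  have h16 : A ^ 16 = 1 := by
    have h1 : M ^ 16 = 1 := by rw [← hM, pow_orderOf_eq_one]
    have h2 := congrArg (fun X : Matrix.symplecticGroup (Fin 3) F =>
      (X : Matrix (Fin 3 ⊕ Fin 3) (Fin 3 ⊕ Fin 3) F)) h1
    simpa using h2
  set T := Matrix.toLinAlgEquiv' A with hT
  have hT16 : T ^ 16 = 1 := by rw [hT, ← map_pow, h16, map_one]
  have h8 := pow_eight h2 (V := Fin 3 ⊕ Fin 3 → F) (by
    rw [Module.finrank_fintype_fun_eq_card, Fintype.card_sum, Fintype.card_fin]; norm_num) hT16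
  rw [hT, ← map_pow, ← map_one (Matrix.toLinAlgEquiv' (R := F) (n := Fin 3 ⊕ Fin 3))] at h8
  have h9 : A ^ 8 = 1 := (Matrix.toLinAlgEquiv' (R := F) (n := Fin 3 ⊕ Fin 3)).injective h8
  have h10 : M ^ 8 = 1 := by
    apply Subtype.ext
    simpa using h9
  have := orderOf_dvd_of_pow_eq_one h10
  rw [hM] at this
  norm_num at this

end

end Cfsg.Agent.H424.SpecPlus
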