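import Cfsg.Agent.H376.Shult
import Cfsg.Agent.SignalizersComponents.NoFixedGen

/-!
# The Shult step with a 2-group (helper424, task of helper376)

`exists_orderOf_mul_two` : `K ⊴ G` solvable, `S ≤ G/K`; `t ∣ |K|`; `y ∈ S` of odd prime order `w ∤ |K|`, with
`(w - 1)² ∤ 2ⁿ` for all `n`, normalises and does not centralise a `2`-subgroup of `S`, `t ≠ 2, w`: then `G` has an
element of order `t w`.
-/

set_option autoImplicit false
set_option linter.unusedVariables false

namespace Cfsg.Agent.H424.ShultTwo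

open Subgroup
open Cfsg (IsPiHallOf)
open Cfsg.Agent.H381.Cover
open Cfsg.Agent.H376.Shult

universe u

/-- **The Shult step, 2-group.** -/
theorem exists_orderOf_mul_two {G : Type u} [Group G] [Finite G] (K : Subgroup G) [K.Normal]
    (hK : Group.IsSolvable ↥K) (S : Subgroup (G ⧸ K)) (hS : IsSimpleGroup ↥S) {t w : ℕ} (ht : t.Prime)
    (hw : w.Prime) (hw2 : w ≠ 2) (ht2 : t ≠ 2) (htw : t ≠ w) (hnf : ∀ n : ℕ, ¬ (w - 1) ^ 2 ∣ 2 ^ n)
    (htK : t ∣ Nat.card ↥K) (hwK : ¬ w ∣ Nat.card ↥K) (A : Subgroup ↥S) (hA : IsPGroup 2 A) (y : ↥S)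
    (hy : orderOf y = w) (hyA : y ∈ normalizer (A : Set ↥S)) {a : ↥S} (ha : a ∈ A) (hya : ¬ Commute y a) :
    ∃ g : G, orderOf g = t * w := by
  have htf : Fact t.Prime := ⟨ht⟩
  have hvf : Fact (Nat.Prime 2) := ⟨Nat.prime_two⟩
  let f : G →* G ⧸ K := QuotientGroup.mk' K
  let ι : ↥S →* G ⧸ K := S.subtype
  have hker : f.ker = K := QuotientGroup.ker_mk' K
  have hsol : Group.IsSolvable f.ker := by rw [hker]; exact hK
  have htop : Cov f ι ⊤ := fun z _ => by
    obtain ⟨g, hg⟩ := QuotientGroup.mk'_surjective K z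
    exact ⟨g, mem_top g, hg⟩
  obtain ⟨V, hV⟩ := Cfsg.Agent.OddOrderLocal.HallPi.exists_isPiHallOf hK ({t} : Set ℕ)
  have hVt : IsPGroup t V := (Cfsg.Agent.OddOrderLocal.PiCoreOf.isPi_singleton_iff ht V).mp hV.2.1
  have hM : Cov f ι (⊤ ⊓ normalizer (V : Set G)) :=
    htop.frattini hK le_top (by rw [normalizer_eq_top]) (by rw [hker]) hV
  rw [top_inf_eq] at hM
  set M := normalizer (V : Set G) with hMdef
  -- an element of order `t` of `V`
  have hVne : t ∣ Nat.card V := by
    obtain ⟨n, hn⟩ := IsPGroup.iff_card.1 hVt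
    rcases Nat.eq_zero_or_pos n with h0 | h0
    · exfalso
      rw [h0, pow_zero] at hn
      have h1 : V = ⊥ := (Subgroup.card_eq_one).1 hn
      have h2 := hV.2.2 t ht (Set.mem_singleton t)
      rw [h1, relIndex_bot_left] at h2
      exact h2 htK
    · rw [hn]
      exact dvd_pow_self t h0.ne'
  obtain ⟨x, hx⟩ := exists_prime_orderOf_dvd_card' t hVne
  have hx' : orderOf (x : G) = t := by rw [Subgroup.orderOf_coe, hx]
  have key : ∀ g : G, orderOf g = w → (∃ z ∈ V, orderOf z = t ∧ Commute g z) → ∃ g : G, orderOf g = t * w := by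
    rintro g hg ⟨z, -, hz, hc⟩
    refine ⟨z * g, ?_⟩
    rw [hc.symm.orderOf_mul_eq_mul_orderOf_of_coprime (by rw [hz, hg]; exact (Nat.coprime_primes ht hw).2 htw), hz, hg]
  have hyι : orderOf (ι y) = w := by rw [← hy]; exact orderOf_injective ι S.subtype_injective y
  obtain ⟨Y, hYM, g, hgM, hY, hYA, hgY, hgy, hgo⟩ :=
    hM.lift_pair hsol Nat.prime_two hw hA hyA (k := 1) (by rw [hy, pow_one])
  have hg : orderOf g = w := orderOf_eq_of_lift K hw hwK hyι hgy hgo
  by_cases hfix : V ⊓ centralizer (zpowers g : Set G) = ⊥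
  · -- `[Y, g]` centralises `V`
    obtain ⟨n, hn⟩ := IsPGroup.iff_card.1 hY
    obtain ⟨m, hm⟩ := IsPGroup.iff_card.1 hVt
    have hRc : Nat.card (zpowers g) = w := by rw [Nat.card_zpowers, hg]
    have hnil := hY.isNilpotent
    have hnil' := hVt.isNilpotent
    have hc := Cfsg.Agent.SignalizersComponents.NoFixedGen.commutator_le_centralizer_of_fixedFree Y (zpowers g) V
      inferInstance
      (by rw [hn, hRc]; exact hnf n) (by rw [hRc]; exact hw) (by rw [hRc]; exact hw2)
      (by rw [zpowers_le]; exact hgY) (by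
        rw [hn, hRc]; exact Nat.Coprime.pow_left n ((Nat.coprime_primes Nat.prime_two hw).2 (Ne.symm hw2))) hYM
      (by rw [zpowers_le]; exact hgM) inferInstance (by
        rw [hn, hm]; exact Nat.Coprime.pow m n ((Nat.coprime_primes ht Nat.prime_two).2 ht2)) (by
        rw [hm, hRc]; exact Nat.Coprime.pow_left m ((Nat.coprime_primes ht hw).2 htw)) hfix
    have hcov := hM.centralizer_of_commutator (P := V) le_rfl hYM hYA hgM hgy ha hya hc
    obtain ⟨g', hg'M, hg'y, hg'o⟩ := hcov.lift_elem hw (x := y) (k := 1) (by rw [hy, pow_one])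
    have hg' : orderOf g' = w := orderOf_eq_of_lift K hw hwK hyι hg'y hg'o
    exact key g' hg' ⟨x, x.2, hx', ((mem_centralizer_iff.1 (mem_inf.1 hg'M).2) x x.2).symm⟩
  · -- an element of `V` centralised by `g`
    have hW : IsPGroup t (V ⊓ centralizer (zpowers g : Set G) : Subgroup G) := hVt.to_le inf_le_left
    have hWt : t ∣ Nat.card (V ⊓ centralizer (zpowers g : Set G) : Subgroup G) := by
      obtain ⟨n, hn⟩ := IsPGroup.iff_card.1 hW
      rcases Nat.eq_zero_or_pos n with h0 | h0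
      · rw [h0, pow_zero] at hn
        exact absurd ((Subgroup.card_eq_one).1 hn) hfix
      · rw [hn]
        exact dvd_pow_self t h0.ne'
    obtain ⟨z, hz⟩ := exists_prime_orderOf_dvd_card' t hWt
    obtain ⟨hzV, hzC⟩ := mem_inf.1 z.2
    exact key g hg ⟨z, hzV, by rw [Subgroup.orderOf_coe, hz], (mem_centralizer_iff.1 hzC) g (mem_zpowers g)⟩

end Cfsg.Agent.H424.ShultTwo
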