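import Cfsg.Agent.H424.SpecPlus
import Cfsg.Agent.Lib.Zsigmondy

/-!
# Primitive prime divisors for the groups of degree 6, 7, 8 (helper424)

* `exists_pr` : primes `r` with `q` of order `e` modulo `r`, `e = 3, 4, 6`, `3 ≤ q`;
* `exists_pp` : the same with `p` of order `e * a` modulo `r`, `q = p ^ a` (for `q = 4`, `e = 3` take `r = 7`).
-/

set_option autoImplicit false

namespace Cfsg.Agent.H424.Zs

open Cfsg Cfsg.Agent.H424.SpecPlus

variable {F : Type*} [Field F] [Fintype F]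

theorem lt_of_ord {r e : ℕ} (hr : r.Prime) (h : orderOf ((Nat.card F : ℕ) : ZMod r) = e) (he : 3 ≤ e) : e < r := by
  have := Fact.mk hr
  have hne : ((Nat.card F : ℕ) : ZMod r) ≠ 0 := by
    intro h0
    rw [h0, orderOf_zero] at h
    omega
  have h1 : orderOf ((Nat.card F : ℕ) : ZMod r) ∣ r - 1 := ZMod.orderOf_dvd_card_sub_one hne
  rw [h] at h1
  have h2 := Nat.le_of_dvd (by have := hr.two_le; omega) h1
  omega

theorem five_of_ord {r e : ℕ} (hr : r.Prime) (h : orderOf ((Nat.card F : ℕ) : ZMod r) = e) (he : 3 ≤ e) : 5 ≤ r := by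
  have h1 := lt_of_ord hr h he
  by_contra h2
  have h3 : r = 4 := by omega
  rw [h3] at hr
  exact absurd hr (by norm_num)

theorem exists_pr (hq : 3 ≤ Nat.card F) {e : ℕ} (he : 3 ≤ e) : ∃ r : ℕ, Pr F r e := by
  obtain ⟨r, hr, hord⟩ := Cfsg.Agent.Lib.Zsigmondy.exists_prime_orderOf (a := Nat.card F) (n := e) (by omega)
    (by omega) (fun h => by omega) (fun h => by omega)
  exact ⟨r, hr, five_of_ord hr hord he, hord, by omega⟩

theorem orderOf_card {p a r e : ℕ} (hF : Nat.card F = p ^ a) (ha : 1 ≤ a)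
    (h : orderOf ((p : ℕ) : ZMod r) = e * a) : orderOf ((Nat.card F : ℕ) : ZMod r) = e := by
  rw [hF, Nat.cast_pow, orderOf_pow' _ (by omega : a ≠ 0), h, Nat.gcd_mul_left_left, Nat.mul_div_cancel _ (by omega)]

theorem exists_pp {p a : ℕ} (hp : p.Prime) (hF : Nat.card F = p ^ a) (ha : 1 ≤ a) (hq : 3 ≤ Nat.card F) {e : ℕ}
    (he : e = 3 ∨ e = 4 ∨ e = 6) :
    ∃ r : ℕ, Pr F r e ∧ (orderOf ((p : ℕ) : ZMod r) = e * a ∨ (p = 2 ∧ a = 2 ∧ e = 3 ∧ r = 7)) := by
  by_cases h6 : p = 2 ∧ e * a = 6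
  · obtain ⟨rfl, h6⟩ := h6
    have ha1 : a ≠ 1 := by
      rintro rfl
      rw [hF] at hq
      norm_num at hq
    have h3 : e = 3 ∧ a = 2 := by rcases he with rfl | rfl | rfl <;> omega
    obtain ⟨rfl, rfl⟩ := h3
    refine ⟨7, ⟨by norm_num, by norm_num, ?_, by norm_num⟩, Or.inr ⟨rfl, rfl, rfl, rfl⟩⟩
    rw [hF]
    refine orderOf_eq_prime (p := 3) ?_ ?_
    · decide
    · decide
  · obtain ⟨r, hr, hord⟩ := Cfsg.Agent.Lib.Zsigmondy.exists_prime_orderOf (a := p) (n := e * a) hp.two_le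
      (by rcases he with rfl | rfl | rfl <;> omega) (fun h => by rcases he with rfl | rfl | rfl <;> omega) h6
    have h1 := orderOf_card (F := F) hF ha hord
    exact ⟨r, ⟨hr, five_of_ord hr h1 (by rcases he with rfl | rfl | rfl <;> omega), h1, by
      rcases he with rfl | rfl | rfl <;> omega⟩, Or.inl hord⟩

end Cfsg.Agent.H424.Zs
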