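import Cfsg.Agent.H424.SF
import Cfsg.Agent.H424.Zs
import Cfsg.Agent.H426.LieEx
import Cfsg.Agent.H588.OutPrime

/-!
# `PSL₄(q)`, `PSU₄(q)`, `PΩ₈⁻(√q)` are no composition factors (helper424)

* `SG F p S` : `SF F p S` and `big`;
* `not_psl`, `not_psu`, `not_ominus`.
-/

set_option autoImplicit false

namespace Cfsg.Agent.H424.RestKill

open Subgroup Cfsg Cfsg.Agent.H424.SpecPlus Cfsg.Agent.H424.Zs Cfsg.Agent.H424.Red
open Cfsg.Agent.H414.LieShape Cfsg.Agent.H426.LieFam Cfsg.Agent.H588.OutPrime Cfsg.Agent.H436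

/-- `SF` and the primes prime to the order of `Out S` -/
structure SG (F : Type*) [Field F] [Fintype F] (p : ℕ) (S : Type*) [Group S] : Prop extends SF F p S where
  big : ∀ r d : ℕ, Pr F r d → d = 3 ∨ d = 6 → p ^ 5 ∣ Nat.card S →
    ¬ r ∣ (MulAut.conj : S →* MulAut S).range.index → r ∣ Nat.card S

section

variable {F : Type*} [Field F] [Fintype F] {p k : ℕ} {S : Type*} [Group S]

theorem prim_of_pr (hp : p.Prime) [CharP F p] {r d e : ℕ} (hr : Pr F r d) (h : orderOf ((p : ℕ) : ZMod r) = e) :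
    Prim p e r := by
  have h1 : ¬ r ∣ p := by
    intro hd
    have h2 := (Nat.prime_dvd_prime_iff_eq hr.prime hp).1 hd
    exact hr.ne_char p h2
  have := prim_of_prime hr.prime h1 hp.one_le
  rwa [h] at this

theorem prim_not_dvd {c f d N e r : ℕ} {l : List Fac} (hp : p.Prime) (hsh : Sh p c f d N l) (hr : Prim p e r)
    (hl : ∀ x ∈ l, ¬ e ∣ ex f x) : ¬ r ∣ c := by
  intro h
  obtain ⟨x, hx, -, hd⟩ := hsh.exists_ex hp hr h
  exact hl x hx hd

theorem pow_dvd_of {d c q N P : ℕ} (hp : p.Prime) (h : d * c = q ^ N * P) (hd : ¬ p ∣ d) (hq : p ∣ q) (hN : 5 ≤ N) :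
    p ^ 5 ∣ c := by
  have h1 : p ^ 5 ∣ d * c := by
    rw [h]
    exact ((pow_dvd_pow p hN).trans (pow_dvd_pow_of_dvd hq N)).mul_right _
  exact (Nat.Coprime.pow_left 5 ((Nat.Prime.coprime_iff_not_dvd hp).2 hd)).dvd_of_dvd_mul_left h1

theorem gcd_sub (hp : p.Prime) {q n : ℕ} (hq : p ∣ q) (hq1 : 1 ≤ q) : ¬ p ∣ Nat.gcd n (q - 1) := by
  intro h
  have h1 : p ∣ q - 1 := h.trans (Nat.gcd_dvd_right _ _)
  have h2 : p ∣ 1 := by
    have := (Nat.dvd_sub hq h1)
    rwa [show q - (q - 1) = 1 by omega] at this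
  exact hp.one_lt.ne' (Nat.dvd_one.1 h2)

theorem gcd_add (hp : p.Prime) {q n : ℕ} (hq : p ∣ q) : ¬ p ∣ Nat.gcd n (q + 1) := by
  intro h
  have h1 : p ∣ q + 1 := h.trans (Nat.gcd_dvd_right _ _)
  have h2 : p ∣ 1 := (Nat.dvd_add_right hq).1 h1
  exact hp.one_lt.ne' (Nat.dvd_one.1 h2)

/-- **`PSL₄(q)`** -/
theorem not_psl (hp : p.Prime) [CharP F p] (hF : Nat.card F = p ^ k) (hk : 1 ≤ k) (hq : 3 ≤ Nat.card F)
    [IsSimpleGroup S] (hna : ¬ IsMulCommutative S) (h : SG F p S) {K : Type} [Field K] [Fintype K]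
    (hK : Fintype.card K = p ^ k) (e : S ≃* Matrix.ProjectiveSpecialLinearGroup (Fin 4) K) : False := by
  have hpf : Fact p.Prime := ⟨hp⟩
  obtain ⟨r, hr, hpr | ⟨-, -, h3, -⟩⟩ := exists_pp (F := F) hp hF hk hq (e := 6) (by norm_num)
  swap
  · omega
  have hPrim := prim_of_pr hp hr hpr
  have hc := center_eq_bot hna e
  obtain ⟨d, N, hsh⟩ := sh_psl (F := K) hk hK (n := 4) (by norm_num) hp
  have hnd : ¬ r ∣ Nat.card S := by
    rw [Nat.card_congr e.toEquiv]
    refine prim_not_dvd hp hsh hPrim ?_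
    intro x hx hd
    simp only [Fam.facs, List.mem_map, List.mem_range] at hx
    obtain ⟨i, hi, rfl⟩ := hx
    change 6 * k ∣ k * (i + 2) at hd
    have := Nat.le_of_dvd (by positivity) hd
    have h4 : k * (i + 2) ≤ k * 4 := Nat.mul_le_mul_left k (by omega)
    omega
  apply hnd
  refine h.big r 6 hr (Or.inr rfl) ?_ ?_
  · rw [Nat.card_congr e.toEquiv]
    have h1 := Cfsg.Agent.S0243.result (F := K) rfl 4 (by norm_num)
    rw [Fin.prod_univ_eq_prod_range (fun i => Fintype.card K ^ 4 - Fintype.card K ^ i) 4, prod_gl] at h1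
    have hpK : p ∣ Fintype.card K := by rw [hK]; exact dvd_pow_self p (by omega)
    have hK1 := Fintype.one_lt_card (α := K)
    refine pow_dvd_of hp (d := Nat.gcd 4 (Fintype.card K - 1) * (Fintype.card K - 1)) (q := Fintype.card K)
      (N := 4 * (4 - 1) / 2) (by rw [mul_assoc]; exact h1) ?_ hpK (by norm_num)
    rw [hp.dvd_mul, not_or]
    refine ⟨gcd_sub hp hpK hK1.le, ?_⟩
    intro h2
    have h3 := gcd_sub (n := 0) hp hpK hK1.le
    rw [Nat.gcd_zero_left] at h3
    exact h3 h2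
  · rw [index_congr e]
    have hidx := index_eq hc (N := 2 * k * Nat.gcd 4 (Fintype.card K - 1)) (by
      rw [S0813.result p k hk hK 4 (by norm_num) (by omega), H183.OutPSL.card_pgl_eq (by norm_num), if_neg (by norm_num)]
      ring)
    rw [hidx]
    obtain ⟨h5, hkr⟩ := prim_facts (p := p) (f := k) (e := 6) (r := r) (by norm_num) (by omega)
      (by rw [mul_comm]; exact hPrim)
    exact hr.prime.not_dvd_mul (hr.prime.not_dvd_mul (not_dvd_small h5 (by norm_num) (by norm_num))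
      (not_dvd_lt hk hkr)) (not_dvd_gcd h5 (by norm_num) (by norm_num))

theorem dvd_two_of {r n : ℕ} (h1 : r ∣ n - 1) (h2 : r ∣ n + 1) (hn : 1 ≤ n) : r ∣ 2 := by
  have h3 := Nat.dvd_sub h2 h1
  rwa [show n + 1 - (n - 1) = 2 by omega] at h3

/-- **`PSU₄(q)`** -/
theorem not_psu (hp : p.Prime) [CharP F p] (hF : Nat.card F = p ^ k) (hk : 1 ≤ k) (hq : 3 ≤ Nat.card F)
    [IsSimpleGroup S] (hna : ¬ IsMulCommutative S) (h : SG F p S) {K : Type} [Field K] [Fintype K]
    (hK : Fintype.card K = (p ^ k) ^ 2) (e : S ≃* PSU 4 K (p ^ k)) : False := by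
  have hpf : Fact p.Prime := ⟨hp⟩
  obtain ⟨r, hr, hpr⟩ := exists_pp (F := F) hp hF hk hq (e := 3) (by norm_num)
  have hc := center_eq_bot hna e
  obtain ⟨d, N, hsh⟩ := sh_psu (F := K) hk hK (n := 4) (by norm_num) hp
  have hq3 : r ∣ (p ^ k) ^ 3 - 1 := by
    have h1 := hr.prime
    have h2 := hr.ord
    have h3 : ((p ^ k : ℕ) : ZMod r) ^ 3 = 1 := by
      rw [← hF, ← h2, pow_orderOf_eq_one]
    have h4 : 1 ≤ (p ^ k) ^ 3 := Nat.one_le_pow _ _ (Nat.one_le_pow _ _ hp.one_le)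
    rw [← ZMod.natCast_eq_zero_iff, Nat.cast_sub h4, Nat.cast_pow, h3, Nat.cast_one, sub_self]
  have hkr : k < r := by
    rcases hpr with hpr | ⟨-, rfl, -, rfl⟩
    · have hPrim := prim_of_pr hp hr hpr
      have := Prim_lt hPrim
      omega
    · norm_num
  have hnd : ¬ r ∣ Nat.card S := by
    rw [Nat.card_congr e.toEquiv]
    intro hd
    obtain ⟨x, hx, hxd⟩ := hsh.exists_fac hp hr.prime (hr.ne_char p) hd
    simp only [Fam.facs, List.mem_map, List.mem_range] at hx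
    obtain ⟨i, hi, rfl⟩ := hx
    rcases (show i = 0 ∨ i = 1 ∨ i = 2 by omega) with rfl | rfl | rfl
    · rw [if_neg (by decide)] at hxd
      change r ∣ (p ^ k) ^ 2 - 1 at hxd
      rcases hpr with hpr | ⟨rfl, rfl, -, rfl⟩
      · have hPrim := prim_of_pr hp hr hpr
        rw [← pow_mul] at hxd
        have h1 := Nat.le_of_dvd (by omega) ((hPrim.dvd_iff _).1 hxd)
        omega
      · norm_num at hxd
    · rw [if_pos (by decide)] at hxd
      change r ∣ (p ^ k) ^ 3 + 1 at hxd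
      have h1 := dvd_two_of hq3 hxd (Nat.one_le_pow _ _ (Nat.one_le_pow _ _ hp.one_le))
      have := Nat.le_of_dvd (by norm_num) h1
      have := hr.five
      omega
    · rw [if_neg (by decide)] at hxd
      change r ∣ (p ^ k) ^ 4 - 1 at hxd
      rcases hpr with hpr | ⟨rfl, rfl, -, rfl⟩
      · have hPrim := prim_of_pr hp hr hpr
        rw [← pow_mul] at hxd
        obtain ⟨t, ht⟩ := (hPrim.dvd_iff _).1 hxd
        have h1 : k * 4 = k * (3 * t) := by rw [ht]; ring
        have h2 := Nat.eq_of_mul_eq_mul_left hk h1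
        omega
      · norm_num at hxd
  apply hnd
  have hpq : p ∣ p ^ k := dvd_pow_self p (by omega)
  refine h.big r 3 hr (Or.inl rfl) ?_ ?_
  · rw [Nat.card_congr e.toEquiv]
    have h1 := H436.psu_eq (F := K) hK (n := 4) (by norm_num)
    change Nat.gcd 4 (p ^ k + 1) * (p ^ k + 1) * _ = (p ^ k) ^ (4 * (4 - 1) / 2) * _ at h1
    refine pow_dvd_of hp h1 ?_ hpq (by norm_num)
    rw [hp.dvd_mul, not_or]
    refine ⟨gcd_add hp hpq, ?_⟩
    intro h2
    have h3 := gcd_add (n := 0) hp hpq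
    rw [Nat.gcd_zero_left] at h3
    exact h3 h2
  · rw [index_congr e]
    have hidx := index_eq hc (S0815.result p k hk rfl hK 4 (by norm_num) (by omega))
    rw [hidx]
    exact hr.prime.not_dvd_mul (not_dvd_gcd hr.five (by norm_num) (by norm_num))
      (hr.prime.not_dvd_mul (not_dvd_small hr.five (by norm_num) (by norm_num)) (not_dvd_lt hk hkr))

/-- **`PΩ₈⁻(√q)`** -/
theorem not_ominus {f : ℕ} (hp : p.Prime) [CharP F p] (hF : Nat.card F = p ^ k) (hk : 1 ≤ k) (hq : 3 ≤ Nat.card F)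
    [IsSimpleGroup S] (hna : ¬ IsMulCommutative S) (h : SG F p S) (hfk : 2 * f = k) {K : Type} [Field K] [Fintype K]
    (hK : Fintype.card K = p ^ f) {a b : K}
    (hab : ∀ z₁ z₂ : K, z₁ ^ 2 + a * z₁ * z₂ + b * z₂ ^ 2 = 0 → z₁ = 0 ∧ z₂ = 0)
    (e : S ≃* POmega K (quadFormMinus (4 - 1) K a b)) : False := by
  have hpf : Fact p.Prime := ⟨hp⟩
  have hf : 1 ≤ f := by omega
  obtain ⟨r, hr, hpr | ⟨-, -, h3, -⟩⟩ := exists_pp (F := F) hp hF hk hq (e := 6) (by norm_num)
  swap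
  · omega
  have hPrim := prim_of_pr hp hr hpr
  have hc := center_eq_bot hna e
  obtain ⟨d, N, hsh⟩ := sh_ominus (F := K) hf hK (m := 4) (by norm_num) hab hp
  have hnd : ¬ r ∣ Nat.card S := by
    rw [Nat.card_congr e.toEquiv]
    refine prim_not_dvd hp hsh hPrim ?_
    intro x hx hd
    have hx0 : 0 < ex f x ∧ ex f x ≤ 8 * f := by
      simp only [Fam.facs, List.mem_cons, List.mem_map, List.mem_range] at hx
      rcases hx with rfl | ⟨i, hi, rfl⟩
      · change 0 < 2 * (f * 4) ∧ 2 * (f * 4) ≤ 8 * f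
        omega
      · change 0 < f * (2 * (i + 1)) ∧ f * (2 * (i + 1)) ≤ 8 * f
        have h4 : f * (2 * (i + 1)) ≤ f * 6 := Nat.mul_le_mul_left f (by omega)
        have h5 : 0 < f * (2 * (i + 1)) := by positivity
        omega
    have := Nat.le_of_dvd hx0.1 hd
    omega
  apply hnd
  refine h.big r 6 hr (Or.inr rfl) ?_ ?_
  · rw [Nat.card_congr e.toEquiv]
    have hpK : p ∣ Fintype.card K := by rw [hK]; exact dvd_pow_self p (by omega)
    have h1 := H436.ominus_eq (F := K) (m := 4) (by norm_num) hab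
    change Nat.gcd 4 (Fintype.card K ^ 4 + 1) * _ = Fintype.card K ^ (4 * (4 - 1)) * _ at h1
    exact pow_dvd_of hp h1 (gcd_add hp (dvd_pow hpK (by norm_num))) hpK (by norm_num)
  · rw [index_congr e]
    have hidx := index_eq hc (S0818.result p f hf hK 4 (by norm_num) a b hab)
    rw [hidx]
    obtain ⟨h5, hkr⟩ := prim_facts (p := p) (f := k) (e := 6) (r := r) (by norm_num) (by omega)
      (by rw [mul_comm]; exact hPrim)
    refine hr.prime.not_dvd_mul ?_ (not_dvd_lt hf (by omega))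
    split_ifs
    · exact not_dvd_small h5 (by norm_num) (by norm_num)
    · exact not_dvd_small h5 (by norm_num) (by norm_num)
    · exact not_dvd_eight hr.prime h5

end

end Cfsg.Agent.H424.RestKill
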