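import Mathlib
import Cfsg.Agent.SignalizersComponents.NoFixedGen
import Cfsg.Agent.StdSz.BorelCoord
import Cfsg.Agent.H692.NSyl
import Cfsg.Agent.H414.Adj

/-!
# Frobenius groups `2 ^ n : r` acting on the solvable radical (helper424)

* `core_aux`, `core` : `K ⊲ G` solvable, `S ⊲ G / K` simple with trivial centralizer, `y ∈ S` of order `r` acting
  nontrivially on a 2-subgroup `U`; `s ∣ |K|`: there are elements of order `r s` or `r ^ 2`.
-/

set_option autoImplicit false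

namespace Cfsg.Agent.H424.SzKill

open Subgroup

universe u v

/-- the centralizer of `V` is small -/
theorem centralizer_le {Y : Type u} {X : Type v} [Group Y] [Finite Y] [Group X] (π : Y →* X)
    (hπ : Function.Surjective π) (V : Subgroup Y) [V.Normal] {s r : ℕ} (hs : s.Prime) (hr : r.Prime) (hrs : r ≠ s)
    (hsV : s ∣ Nat.card V) (hno : ∀ y : Y, orderOf y ≠ r * s)
    (S : Subgroup X) [S.Normal] (hS : IsSimpleGroup S) (hc : centralizer (S : Set X) = ⊥) (hrS : r ∣ Nat.card S) :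
    centralizer (V : Set Y) ≤ π.ker := by
  have hrF := Fact.mk hr
  have hsF := Fact.mk hs
  have : Finite X := Finite.of_surjective π hπ
  set C := centralizer (V : Set Y) with hC
  have hCn : C.Normal := Subgroup.normal_centralizer
  have hN : (C.map π).Normal := hCn.map π hπ
  rcases Subgroup.Normal.eq_bot_or_eq_top (inferInstance : ((C.map π).subgroupOf S).Normal) with h | h
  · -- trivial intersection: the image centralizes `S`
    have h1 : C.map π ⊓ S = ⊥ := (Subgroup.subgroupOf_eq_bot.1 h).eq_bot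
    have h2 : C.map π ≤ centralizer (S : Set X) := by
      intro x hx
      rw [mem_centralizer_iff]
      intro t ht
      have h3 : t * x * t⁻¹ * x⁻¹ ∈ C.map π ⊓ S := by
        refine Subgroup.mem_inf.2 ⟨mul_mem (hN.conj_mem x hx t) (inv_mem hx), ?_⟩
        have h4 : t * (x * t⁻¹ * x⁻¹) ∈ S :=
          mul_mem (show t ∈ S from ht) ((inferInstance : S.Normal).conj_mem _ (inv_mem (show t ∈ S from ht)) x)
        have h5 : t * x * t⁻¹ * x⁻¹ = t * (x * t⁻¹ * x⁻¹) := by group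
        rw [h5]
        exact h4
      rw [h1, mem_bot] at h3
      have h6 : t * x = (t * x * t⁻¹ * x⁻¹) * (x * t) := by group
      rw [h6, h3, one_mul]
    rw [hc, le_bot_iff, Subgroup.map_eq_bot_iff] at h2
    exact h2
  · exfalso
    have h1 : S ≤ C.map π := Subgroup.subgroupOf_eq_top.1 h
    have h2 : r ∣ Nat.card C := (hrS.trans (Subgroup.card_dvd_of_le h1)).trans (Subgroup.card_map_dvd C π)
    obtain ⟨c, hco⟩ := exists_prime_orderOf_dvd_card' r h2
    obtain ⟨v, hvo⟩ := exists_prime_orderOf_dvd_card' s hsV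
    have hcv : Commute (c : Y) (v : Y) := (mem_centralizer_iff.1 c.2 v v.2).symm
    apply hno ((c : Y) * v)
    rw [hcv.orderOf_mul_eq_mul_orderOf_of_coprime, Subgroup.orderOf_coe, Subgroup.orderOf_coe, hco, hvo]
    rw [Subgroup.orderOf_coe, Subgroup.orderOf_coe, hco, hvo]
    exact (Nat.coprime_primes hr hs).2 hrs

theorem pow_mul_mem {X : Type*} [Group X] (U : Subgroup X) {y : X} (hyU : ∀ u ∈ U, y * u * y⁻¹ ∈ U) {u : X}
    (hu : u ∈ U) (k : ℕ) : ∃ v ∈ U, (u * y) ^ k = v * y ^ k := by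
  have hy : ∀ j : ℕ, ∀ v ∈ U, y ^ j * v * (y ^ j)⁻¹ ∈ U := by
    intro j
    induction j with
    | zero => intro v hv; simpa using hv
    | succ j ih =>
      intro v hv
      have h1 := hyU _ (ih v hv)
      have h2 : y ^ (j + 1) * v * (y ^ (j + 1))⁻¹ = y * (y ^ j * v * (y ^ j)⁻¹) * y⁻¹ := by
        rw [pow_succ']; group
      rw [h2]
      exact h1
  induction k with
  | zero => exact ⟨1, one_mem U, by simp⟩
  | succ k ih =>
    obtain ⟨v, hv, h⟩ := ih
    refine ⟨v * (y ^ k * u * (y ^ k)⁻¹), mul_mem hv (hy k u hu), ?_⟩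
    rw [pow_succ, h, pow_succ]
    group

theorem commute_of {X : Type*} [Group X] {U : Subgroup X} (hU : IsPGroup 2 U) {r : ℕ} (hr : r.Prime) (hr2 : r ≠ 2)
    {y : X} (hy : y ^ r = 1) {u : X} (hu : u ∈ U) (h : ∀ v ∈ U, (u * y) * v = v * (u * y)) :
    ∀ v ∈ U, y * v = v * y := by
  have h1 : ∀ v ∈ U, y * v * y⁻¹ = u⁻¹ * v * u := by
    intro v hv
    have h2 := h v hv
    calc y * v * y⁻¹ = u⁻¹ * (u * y * v) * y⁻¹ := by group
      _ = u⁻¹ * (v * (u * y)) * y⁻¹ := by rw [h2]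
      _ = u⁻¹ * v * u := by group
  have h3 : ∀ j : ℕ, ∀ v ∈ U, y ^ j * v * (y ^ j)⁻¹ = (u ^ j)⁻¹ * v * u ^ j := by
    intro j
    induction j with
    | zero => intro v _; simp
    | succ j ih =>
      intro v hv
      have h5 : (u ^ j)⁻¹ * v * u ^ j ∈ U := mul_mem (mul_mem (inv_mem (pow_mem hu j)) hv) (pow_mem hu j)
      calc y ^ (j + 1) * v * (y ^ (j + 1))⁻¹ = y * (y ^ j * v * (y ^ j)⁻¹) * y⁻¹ := by
            rw [pow_succ']; group
        _ = y * ((u ^ j)⁻¹ * v * u ^ j) * y⁻¹ := by rw [ih v hv]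
        _ = u⁻¹ * ((u ^ j)⁻¹ * v * u ^ j) * u := h1 _ h5
        _ = _ := by rw [pow_succ]; group
  have hcop : Nat.Coprime r (orderOf u) := by
    obtain ⟨k, hk⟩ := IsPGroup.iff_orderOf.1 hU ⟨u, hu⟩
    rw [Subgroup.orderOf_mk] at hk
    rw [hk]
    exact Nat.Coprime.pow_right k ((Nat.coprime_primes hr Nat.prime_two).2 hr2)
  obtain ⟨t, ht⟩ := exists_pow_eq_self_of_coprime hcop
  intro v hv
  have h4 := h3 r v hv
  rw [hy, one_mul, inv_one, mul_one] at h4
  have h5 : Commute (u ^ r) v := by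
    have : u ^ r * v = v * u ^ r := by
      calc u ^ r * v = u ^ r * ((u ^ r)⁻¹ * v * u ^ r) := by rw [← h4]
        _ = v * u ^ r := by group
    exact this
  have h6 : Commute u v := by
    rw [← ht]
    exact h5.pow_left t
  have h7 : y * v * y⁻¹ = v := by
    rw [h1 v hv, mul_assoc, ← h6.eq, ← mul_assoc, inv_mul_cancel, one_mul]
  calc y * v = y * v * y⁻¹ * y := by group
    _ = v * y := by rw [h7]

/-- Frattini argument: an element of order `r` normalizing a 2-subgroup of the preimage -/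
theorem exists_elem {Y : Type u} {X : Type v} [Group Y] [Finite Y] [Group X] (π : Y →* X)
    (hπ : Function.Surjective π) {r : ℕ} (hr : r.Prime)
    (hno2 : ∀ y : Y, orderOf y ≠ r ^ 2)
    (U : Subgroup X) (hU : IsPGroup 2 U) (y : X) (hy : y ^ r = 1) (hyU : ∀ u ∈ U, y * u * y⁻¹ ∈ U) :
    ∃ (Q : Subgroup Y) (x : Y), IsPGroup 2 Q ∧ Q.map π = U ∧ x ^ r = 1 ∧ (∀ q ∈ Q, x * q * x⁻¹ ∈ Q) ∧
      ∃ u ∈ U, π x = u * y := by
  have : Finite X := Finite.of_surjective π hπ
  set W : Subgroup Y := U.comap π with hW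
  let f : ↥W →* ↥U := (π.domRestrict W).codRestrict U fun w => w.2
  have hf : Function.Surjective f := by
    rintro ⟨u, hu⟩
    obtain ⟨w, rfl⟩ := hπ u
    exact ⟨⟨w, hu⟩, rfl⟩
  obtain ⟨P⟩ : Nonempty (Sylow 2 ↥W) := inferInstance
  set Q : Subgroup Y := (P : Subgroup ↥W).map W.subtype with hQ
  have hQW : Q ≤ W := Subgroup.map_subtype_le _
  have hQU : Q.map π = U := by
    have h1 : ((P.mapSurjective hf : Sylow 2 ↥U) : Subgroup ↥U) = ⊤ := by
      refine ((P.mapSurjective hf).is_maximal' (Q := ⊤) ?_ le_top).symm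
      exact hU.of_equiv Subgroup.topEquiv.symm
    rw [Sylow.coe_mapSurjective] at h1
    have h2 : Q.map π = ((P : Subgroup ↥W).map f).map U.subtype := by
      rw [hQ, Subgroup.map_map, Subgroup.map_map]
      rfl
    rw [h2, h1, ← MonoidHom.range_eq_map, Subgroup.range_subtype]
  obtain ⟨x0, hx0⟩ := hπ y
  set Q' : Subgroup Y := Q.map (MulAut.conj x0).toMonoidHom with hQ'
  have hQ'W : Q' ≤ W := by
    rintro _ ⟨q, hq, rfl⟩
    change π (x0 * q * x0⁻¹) ∈ U
    rw [map_mul, map_mul, map_inv, hx0]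
    exact hyU _ (hQW hq)
  have hcard : Nat.card ↥(Q'.subgroupOf W) = 2 ^ (Nat.card ↥W).factorization 2 := by
    rw [Nat.card_congr (Subgroup.subgroupOfEquivOfLe hQ'W).toEquiv, hQ',
      Subgroup.card_map_of_injective (MulAut.conj x0).injective, hQ,
      Subgroup.card_map_of_injective W.subtype_injective]
    exact P.card_eq_multiplicity
  let P' : Sylow 2 ↥W := Sylow.ofCard (Q'.subgroupOf W) hcard
  obtain ⟨w, hw⟩ := MulAction.exists_smul_eq ↥W P' P
  set x1 : Y := (w : Y) * x0 with hx1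
  have hx1Q : ∀ q ∈ Q, x1 * q * x1⁻¹ ∈ Q := by
    intro q hq
    have h1 : (⟨x0 * q * x0⁻¹, hQ'W ⟨q, hq, rfl⟩⟩ : ↥W) ∈ (P' : Subgroup ↥W) := by
      change x0 * q * x0⁻¹ ∈ Q'
      exact ⟨q, hq, rfl⟩
    have h2 : w * (⟨x0 * q * x0⁻¹, hQ'W ⟨q, hq, rfl⟩⟩ : ↥W) * w⁻¹ ∈ (P : Subgroup ↥W) := by
      rw [← hw]
      exact Subgroup.smul_mem_pointwise_smul _ (MulAut.conj w) _ h1
    refine ⟨_, h2, ?_⟩
    change (w : Y) * (x0 * q * x0⁻¹) * (w : Y)⁻¹ = x1 * q * x1⁻¹
    rw [hx1]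
    group
  have hx1Qk : ∀ k : ℕ, ∀ q ∈ Q, x1 ^ k * q * (x1 ^ k)⁻¹ ∈ Q := by
    intro k
    induction k with
    | zero => intro q hq; simpa using hq
    | succ k ih =>
      intro q hq
      have h2 : x1 ^ (k + 1) * q * (x1 ^ (k + 1))⁻¹ = x1 * (x1 ^ k * q * (x1 ^ k)⁻¹) * x1⁻¹ := by
        rw [pow_succ']; group
      rw [h2]
      exact hx1Q _ (ih q hq)
  -- the `r`-part
  set n := orderOf x1 with hn
  have hn0 : n ≠ 0 := (orderOf_pos x1).ne'
  have hcop : Nat.Coprime (n / r ^ n.factorization r) r := (Nat.coprime_ordCompl hr hn0).symm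
  obtain ⟨k, hk1, hk2⟩ := Nat.chineseRemainder hcop 0 1
  have hdk : n / r ^ n.factorization r ∣ k := (Nat.modEq_zero_iff_dvd).1 hk1
  have hnk : n ∣ k * r ^ n.factorization r := by
    obtain ⟨c, hc⟩ := hdk
    refine ⟨c, ?_⟩
    rw [hc, mul_right_comm, Nat.div_mul_cancel (Nat.ordProj_dvd n r)]
  have hxr : (x1 ^ k) ^ r ^ n.factorization r = 1 := by
    rw [← pow_mul]
    exact orderOf_dvd_iff_pow_eq_one.1 hnk
  refine ⟨Q, x1 ^ k, P.isPGroup'.map _, hQU, ?_, hx1Qk k, ?_⟩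
  · obtain ⟨j, -, hj⟩ := (Nat.dvd_prime_pow hr).1 (orderOf_dvd_of_pow_eq_one hxr)
    rcases Nat.lt_or_ge j 2 with h2 | h2
    · apply orderOf_dvd_iff_pow_eq_one.1
      rw [hj]
      calc r ^ j ∣ r ^ 1 := pow_dvd_pow r (by omega)
        _ = r := pow_one r
    · exfalso
      obtain ⟨i, rfl⟩ : ∃ i, j = i + 2 := ⟨j - 2, by omega⟩
      apply hno2 ((x1 ^ k) ^ r ^ i)
      rw [orderOf_pow' _ (pow_ne_zero i hr.ne_zero), hj, pow_add, Nat.gcd_mul_right_left,
        Nat.mul_div_cancel_left _ (pow_pos hr.pos i)]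
  · obtain ⟨v, hv, hvk⟩ := pow_mul_mem U hyU (u := π w) w.2 k
    refine ⟨v, hv, ?_⟩
    rw [map_pow, hx1, map_mul, hx0, hvk]
    congr 1
    have h1 : y ^ k = y ^ (k % r) := pow_eq_pow_mod k hy
    have h2 : k % r = 1 % r := hk2
    rw [h1, h2, ← pow_eq_pow_mod 1 hy, pow_one]

/-- **The core lemma.** -/
theorem core_aux {Y : Type u} {X : Type v} [Group Y] [Finite Y] [Group X] (π : Y →* X)
    (hπ : Function.Surjective π) (V : Subgroup Y) [V.Normal] {s r : ℕ} (hs : s.Prime)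
    (hr : r.Prime) (hr2 : r ≠ 2) (hs2 : s ≠ 2) (hrs : r ≠ s) (hV : IsPGroup s V) (hsV : s ∣ Nat.card V)
    (hno : ∀ y : Y, orderOf y ≠ r * s) (hno2 : ∀ y : Y, orderOf y ≠ r ^ 2)
    (S : Subgroup X) [S.Normal] (hS : IsSimpleGroup S) (hc : centralizer (S : Set X) = ⊥) (hrS : r ∣ Nat.card S)
    (U : Subgroup X) (hU : IsPGroup 2 U) (y : X) (hy : y ^ r = 1) (hyU : ∀ u ∈ U, y * u * y⁻¹ ∈ U)
    (hyc : ¬ ∀ u ∈ U, y * u = u * y) (hnd : ∀ n : ℕ, ¬ (r - 1) ^ 2 ∣ 2 ^ n) : False := by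
  have hsF := Fact.mk hs
  have hrF := Fact.mk hr
  obtain ⟨Q, x, hQ2, hQU, hxr, hxQ, u, hu, hxu⟩ := exists_elem π hπ hr hno2 U hU y hy hyU
  have hC := centralizer_le π hπ V hs hr hrs hsV hno S hS hc hrS
  obtain ⟨n, hn⟩ := hQ2.exists_card_eq
  obtain ⟨m, hm⟩ := hV.exists_card_eq
  -- `x ≠ 1`
  have hx1 : x ≠ 1 := by
    rintro rfl
    apply hyc
    rw [map_one] at hxu
    intro v hv
    have h1 : y = u⁻¹ := (inv_eq_of_mul_eq_one_right hxu.symm).symm
    have h2 : ∀ v ∈ U, (u * y) * v = v * (u * y) := by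
      intro v _
      rw [← hxu, one_mul, mul_one]
    exact commute_of hU hr hr2 hy hu h2 v hv
  have hox : orderOf x = r := orderOf_eq_prime hxr hx1
  have hrn2 : ¬ r ∣ 2 ^ n := by
    intro h
    exact hr2 ((Nat.prime_dvd_prime_iff_eq hr Nat.prime_two).1 (hr.dvd_of_dvd_pow h))
  have hrsm : ¬ r ∣ s ^ m := by
    intro h
    exact hrs ((Nat.prime_dvd_prime_iff_eq hr hs).1 (hr.dvd_of_dvd_pow h))
  have hQs : Group.IsSolvable Q := by
    have := Fact.mk Nat.prime_two
    have := hQ2.isNilpotent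
    infer_instance
  have hVs : Group.IsSolvable V := by
    have := hV.isNilpotent
    infer_instance
  have key := Cfsg.Agent.SignalizersComponents.NoFixedGen.group_core hr hr2 _ Y V Q x rfl hQs hVs hxr hxQ
    (by rw [hn]; exact hnd n) (by rw [hn]; exact hrn2)
    (by
      rw [hn, hm]
      exact Nat.Coprime.pow _ _ ((Nat.coprime_primes hs Nat.prime_two).2 hs2))
    (by rw [hm]; exact hrsm) (by
      intro v hv hxv
      by_contra hv1
      -- an element of order `s` centralized by `x`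
      obtain ⟨j, hj⟩ := IsPGroup.iff_orderOf.1 hV ⟨v, hv⟩
      rw [Subgroup.orderOf_mk] at hj
      obtain ⟨i, rfl⟩ : ∃ i, j = i + 1 := by
        rcases j with _ | i
        · rw [pow_zero, orderOf_eq_one_iff] at hj
          exact absurd hj hv1
        · exact ⟨i, rfl⟩
      have ho : orderOf (v ^ s ^ i) = s := by
        rw [orderOf_pow' _ (pow_ne_zero i hs.ne_zero), hj, pow_succ, Nat.gcd_mul_right_left,
          Nat.mul_div_cancel_left _ (pow_pos hs.pos i)]
      have hcomm : Commute x (v ^ s ^ i) := by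
        have h1 : Commute x v := by
          have : x * v = v * x := by
            calc x * v = x * v * x⁻¹ * x := by group
              _ = v * x := by rw [hxv]
          exact this
        exact h1.pow_right _
      apply hno (x * v ^ s ^ i)
      rw [hcomm.orderOf_mul_eq_mul_orderOf_of_coprime, hox, ho]
      rw [hox, ho]
      exact (Nat.coprime_primes hr hs).2 hrs)
  apply hyc
  apply commute_of hU hr hr2 hy hu
  intro v hv
  rw [← hQU] at hv
  obtain ⟨q, hq, rfl⟩ := hv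
  have h1 := Subgroup.commutator_mem_commutator hq (Subgroup.mem_zpowers x)
  have h2 := hC (key h1)
  rw [MonoidHom.mem_ker, commutatorElement_def, map_mul, map_mul, map_mul, map_inv, map_inv, hxu] at h2
  have h3 : π q * (u * y) = (π q * (u * y) * (π q)⁻¹ * (u * y)⁻¹) * ((u * y) * π q) := by group
  rw [h3, h2, one_mul]

/-- **The core theorem.** -/
theorem core {G : Type u} [Group G] [Finite G] (K : Subgroup G) [K.Normal] (hKs : Group.IsSolvable K)
    {s r : ℕ} (hs : s.Prime) (hr : r.Prime) (hr2 : r ≠ 2) (hs2 : s ≠ 2) (hrs : r ≠ s) (hsK : s ∣ Nat.card K)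
    (hno : ∀ y : G, orderOf y ≠ r * s) (hno2 : ∀ y : G, orderOf y ≠ r ^ 2)
    (S : Subgroup (G ⧸ K)) [S.Normal] (hS : IsSimpleGroup S) (hc : centralizer (S : Set (G ⧸ K)) = ⊥)
    (hrS : r ∣ Nat.card S) (U : Subgroup (G ⧸ K)) (hU : IsPGroup 2 U) (y : G ⧸ K) (hy : y ^ r = 1)
    (hyU : ∀ u ∈ U, y * u * y⁻¹ ∈ U) (hyc : ¬ ∀ u ∈ U, y * u = u * y) (hnd : ∀ n : ℕ, ¬ (r - 1) ^ 2 ∣ 2 ^ n) :
    False := by
  classical
  have hsF := Fact.mk hs
  -- `B`
  have hfin : (Set.Finite {B : Subgroup G | B.Normal ∧ B ≤ K ∧ s ∣ B.relIndex K}) := Set.toFinite _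
  obtain ⟨B, hB⟩ := hfin.exists_maximal ⟨⊥, (inferInstance : (⊥ : Subgroup G).Normal), bot_le, by
    rw [Subgroup.relIndex_bot_left]; exact hsK⟩
  obtain ⟨hBn, hBK, hBs⟩ := hB.prop
  set KB : Subgroup (G ⧸ B) := K.map (QuotientGroup.mk' B) with hKB
  have hKBn : KB.Normal := (inferInstance : K.Normal).map _ (QuotientGroup.mk'_surjective B)
  have hcKB : Nat.card KB = B.relIndex K := by
    have h2 := Subgroup.relIndex_ker K (QuotientGroup.mk' B)
    rw [QuotientGroup.ker_mk'] at h2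
    rw [hKB, h2]
  have hKBs : Group.IsSolvable KB :=
    Group.isSolvable_of_surjective (f := (QuotientGroup.mk' B).subgroupMap K)
      ((QuotientGroup.mk' B).subgroupMap_surjective K)
  have hKB1 : KB ≠ ⊥ := by
    intro h
    rw [h, Subgroup.card_bot] at hcKB
    rw [← hcKB] at hBs
    exact hs.one_lt.ne' (Nat.dvd_one.1 hBs)
  -- `V`
  have hfin2 : (Set.Finite {V : Subgroup (G ⧸ B) | V.Normal ∧ V ≠ ⊥ ∧ V ≤ KB}) := Set.toFinite _
  obtain ⟨V, hV⟩ := hfin2.exists_minimal ⟨KB, hKBn, hKB1, le_rfl⟩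
  obtain ⟨hVn, hV1, hVKB⟩ := hV.prop
  have hVmin : ∀ M : Subgroup (G ⧸ B), M.Normal → M ≤ V → M = ⊥ ∨ M = V := by
    intro M hM hMV
    by_cases h : M = ⊥
    · exact Or.inl h
    · right
      exact le_antisymm hMV (hV.le_of_le ⟨hM, h, hMV.trans hVKB⟩ hMV)
  have hVs : Group.IsSolvable V :=
    Group.isSolvable_of_isSolvable_injective (f := Subgroup.inclusion hVKB) (Subgroup.inclusion_injective hVKB)
  obtain ⟨-, l, hl, hlV⟩ := Cfsg.Agent.H692.NSyl.elementary_of_minimal V hVn hV1 hVmin hVs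
  have hlF := Fact.mk hl
  have hVl : IsPGroup l V := by
    intro v
    refine ⟨1, ?_⟩
    rw [pow_one]
    exact Subtype.ext (hlV v v.2)
  obtain ⟨m, hm⟩ := hVl.exists_card_eq
  by_cases hls : l = s
  · subst hls
    have hsV : l ∣ Nat.card V := by
      rw [hm]
      apply dvd_pow_self
      rintro rfl
      rw [pow_zero] at hm
      exact hV1 ((Subgroup.card_eq_one).1 hm)
    have hBK' : B ≤ K.comap (MonoidHom.id G) := hBK
    refine core_aux (QuotientGroup.map B K (MonoidHom.id G) hBK') ?_ V hs hr hr2 hs2 hrs hVl hsV ?_ ?_ S hS hc hrS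
      U hU y hy hyU hyc hnd
    · intro z
      obtain ⟨g, rfl⟩ := QuotientGroup.mk'_surjective K z
      exact ⟨QuotientGroup.mk' B g, rfl⟩
    · intro z hz
      obtain ⟨g, hg⟩ := Cfsg.Agent.H414.Adj.exists_order_quot B (Nat.mul_ne_zero hr.ne_zero hs.ne_zero) ⟨z, hz⟩
      exact hno g hg
    · intro z hz
      obtain ⟨g, hg⟩ := Cfsg.Agent.H414.Adj.exists_order_quot B (pow_ne_zero 2 hr.ne_zero) ⟨z, hz⟩
      exact hno2 g hg
  · exfalso
    set A : Subgroup G := V.comap (QuotientGroup.mk' B) with hA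
    have hAn : A.Normal := inferInstance
    have hBA : B ≤ A := by
      intro b hb
      rw [hA, Subgroup.mem_comap, show QuotientGroup.mk' B b = 1 from (QuotientGroup.eq_one_iff b).2 hb]
      exact one_mem V
    have hAK : A ≤ K := by
      intro x hx
      obtain ⟨k, hk, hkx⟩ := hVKB hx
      have h1 : k⁻¹ * x ∈ B := QuotientGroup.eq.1 hkx
      have h2 : x = k * (k⁻¹ * x) := by group
      rw [h2]
      exact mul_mem hk (hBK h1)
    have hmap : A.map (QuotientGroup.mk' B) = V :=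
      Subgroup.map_comap_eq_self_of_surjective (QuotientGroup.mk'_surjective B) V
    have hcA : B.relIndex A = Nat.card V := by
      have h2 := Subgroup.relIndex_ker A (QuotientGroup.mk' B)
      rw [QuotientGroup.ker_mk', hmap] at h2
      exact h2
    have hAs : s ∣ A.relIndex K := by
      have h1 := Subgroup.relIndex_mul_relIndex B A K hBA hAK
      rw [← h1, hcA, hm] at hBs
      refine (hs.dvd_mul.1 hBs).resolve_left fun h => ?_
      exact hls ((Nat.prime_dvd_prime_iff_eq hs hl).1 (hs.dvd_of_dvd_pow h)).symm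
    have hAB : A ≤ B := hB.le_of_ge ⟨hAn, hAK, hAs⟩ hBA
    apply hV1
    rw [← hmap, le_antisymm hAB hBA, Subgroup.map_eq_bot_iff, QuotientGroup.ker_mk']

end Cfsg.Agent.H424.SzKill
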