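import Mathlib
import Cfsg.Agent.H424.SpecPlus
import Cfsg.Agent.S0245
import Cfsg.Agent.S0292
import Cfsg.Agent.S0293
import Cfsg.Agent.S2474

/-!
# The facts used about `L = PSp₆(q), PΩ₇(q), PΩ⁺₈(q)` (helper424)
-/

set_option autoImplicit false

namespace Cfsg.Agent.H424.SpecL

open Cfsg Cfsg.Agent.H424.SpecPlus

/-- The facts used about `L`. -/
structure LF (F : Type*) [Field F] [Fintype F] (p : ℕ) (L : Type*) [Group L] : Prop where
  prime : ∀ r : ℕ, r.Prime → r ∣ Nat.card L →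
    r = p ∨ r ∣ Nat.card F ^ 4 - 1 ∨ r ∣ Nat.card F ^ 6 - 1
  dvd : ∀ r e : ℕ, Pr F r e → e = 3 ∨ e = 4 ∨ e = 6 → r ∣ Nat.card L
  coc : ∀ r s d e : ℕ, Pr F r d → Pr F s e → d = 3 ∨ d = 6 → e = 3 ∨ e = 4 ∨ e = 6 → d ≠ e →
    ∀ g : L, orderOf g ≠ r * s
  char : ∀ r d : ℕ, Pr F r d → d = 3 ∨ d = 6 → ∀ g : L, orderOf g ≠ r * p
  far : H150.Far L
  sixteen : p = 2 → ∀ g : L, orderOf g ≠ 16

variable {F : Type*} [Field F] [Fintype F] {p : ℕ}

theorem LF.congr {L M : Type*} [Group L] [Group M] (e : L ≃* M) (h : LF F p L) : LF F p M := by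
  refine ⟨fun r hr hd => h.prime r hr (by rwa [Nat.card_congr e.toEquiv]), fun r d hr hd => by
    rw [← Nat.card_congr e.toEquiv]; exact h.dvd r d hr hd,
    fun r s d e' hr hs hd he hde g hg => h.coc r s d e' hr hs hd he hde (e.symm g) ?_,
    fun r d hr hd g hg => h.char r d hr hd (e.symm g) ?_, h.far.congr e,
    fun h2 g hg => h.sixteen h2 (e.symm g) ?_⟩ <;> rw [MulEquiv.orderOf_eq, hg]

/-- the divisors of the three orders -/
theorem prime_of [hp : Fact p.Prime] [CharP F p] {c d N : ℕ} {P : ℕ}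
    (h : d * c = Nat.card F ^ N * P)
    (hP : ∀ r : ℕ, r.Prime → r ∣ P → r ∣ Nat.card F ^ 4 - 1 ∨ r ∣ Nat.card F ^ 6 - 1)
    (r : ℕ) (hr : r.Prime) (hd : r ∣ c) : r = p ∨ r ∣ Nat.card F ^ 4 - 1 ∨ r ∣ Nat.card F ^ 6 - 1 := by
  have h1 : r ∣ Nat.card F ^ N * P := by rw [← h]; exact hd.mul_left _
  rcases hr.dvd_mul.1 h1 with h2 | h2
  · left
    obtain ⟨n, -, hn⟩ := FiniteField.card F p
    have h3 := hr.dvd_of_dvd_pow h2
    rw [Nat.card_eq_fintype_card, hn] at h3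
    exact (Nat.prime_dvd_prime_iff_eq hr hp.out).1 (hr.dvd_of_dvd_pow h3)
  · exact Or.inr (hP r hr h2)

theorem dvd_pow_sub_one {r e : ℕ} (h : Pr F r e) {n : ℕ} (hn : e ∣ n) : r ∣ Nat.card F ^ n - 1 := by
  have h1 : ((Nat.card F : ℕ) : ZMod r) ^ n = 1 := by
    rw [← orderOf_dvd_iff_pow_eq_one, h.ord]
    exact hn
  have h2 : ((Nat.card F ^ n : ℕ) : ZMod r) = ((1 : ℕ) : ZMod r) := by push_cast; exact h1
  rw [ZMod.natCast_eq_natCast_iff] at h2
  exact (Nat.modEq_iff_dvd' (Nat.one_le_pow _ _ Nat.card_pos)).1 h2.symm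

theorem dvd_of {c d N : ℕ} {P : ℕ} (h : d * c = Nat.card F ^ N * P) (hd : d ∣ 4)
    (hP : Nat.card F ^ 4 - 1 ∣ P ∧ Nat.card F ^ 6 - 1 ∣ P) (r e : ℕ) (hr : Pr F r e)
    (he : e = 3 ∨ e = 4 ∨ e = 6) : r ∣ c := by
  have h1 : r ∣ d * c := by
    rw [h]
    apply Dvd.dvd.mul_left
    rcases he with rfl | rfl | rfl
    · exact (dvd_pow_sub_one hr (by norm_num)).trans hP.2
    · exact (dvd_pow_sub_one hr (by norm_num)).trans hP.1
    · exact (dvd_pow_sub_one hr (by norm_num)).trans hP.2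
  rcases hr.prime.dvd_mul.1 h1 with h2 | h2
  · have h3 := Nat.le_of_dvd (by norm_num) (h2.trans hd)
    have := hr.five
    omega
  · exact h2

theorem sub_one_dvd {q m n : ℕ} (h : m ∣ n) : q ^ m - 1 ∣ q ^ n - 1 := by
  obtain ⟨k, rfl⟩ := h
  rw [pow_mul]
  simpa using Nat.sub_dvd_pow_sub_pow (q ^ m) 1 k

theorem lf_psp (p : ℕ) [CharP F p] : LF F p (PSp 3 F) := by
  have hpp : Fact p.Prime := ⟨CharP.char_is_prime F p⟩
  have h1 := Cfsg.Agent.S0245.result (F := F) rfl 3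
  have h2 := Cfsg.Agent.S0246.result (F := F) rfl 3 (by norm_num)
  have h3 := Subgroup.card_eq_card_quotient_mul_card_subgroup
    (Subgroup.center (Matrix.symplecticGroup (Fin 3) F))
  rw [h1, h2, ← Nat.card_eq_fintype_card] at h3
  have h4 : Nat.gcd 2 (Nat.card F - 1) * Nat.card (PSp 3 F) =
      Nat.card F ^ 9 * ((Nat.card F ^ 2 - 1) * (Nat.card F ^ 4 - 1) * (Nat.card F ^ 6 - 1)) := by
    rw [mul_comm, ← show _ = _ from h3, Finset.prod_range_succ, Finset.prod_range_succ,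
      Finset.prod_range_one]
    norm_num
  refine ⟨prime_of h4 ?_, dvd_of h4 ((Nat.gcd_dvd_left _ _).trans (by norm_num)) ?_, ?_, ?_, ?_, ?_⟩
  · intro r hr hd
    rcases hr.dvd_mul.1 hd with hd | hd
    · rcases hr.dvd_mul.1 hd with hd | hd
      · exact Or.inl (hd.trans (sub_one_dvd (by norm_num)))
      · exact Or.inl hd
    · exact Or.inr hd
  · exact ⟨(Dvd.intro_left _ rfl).mul_right _, Dvd.intro_left _ rfl⟩
  · intro r s d e hr hs hd he hde g
    exact coc_psp hr hs hd he hde g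
  · intro r d hr hd g
    exact char_psp p hr hd g
  · exact H150.psp_far (by norm_num) (by norm_num)
  · rintro rfl g
    exact sixteen_psp (by have := CharP.cast_eq_zero F 2; push_cast at this; exact this) g

theorem lf_odd (p : ℕ) [CharP F p] (ho : Odd (Fintype.card F)) : LF F p (POmega F (quadFormOdd 3 F)) := by
  have hpp : Fact p.Prime := ⟨CharP.char_is_prime F p⟩
  have h1 := Cfsg.Agent.S0292.result (F := F) rfl ho 3 (by norm_num)
  have h4 : 2 * Nat.card (POmega F (quadFormOdd 3 F)) =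
      Nat.card F ^ 9 * ((Nat.card F ^ 2 - 1) * (Nat.card F ^ 4 - 1) * (Nat.card F ^ 6 - 1)) := by
    rw [h1, Finset.prod_range_succ, Finset.prod_range_succ, Finset.prod_range_one,
      Nat.card_eq_fintype_card]
    norm_num
  have key : ∀ r s : ℕ, r.Prime → s.Prime → r ≠ s → (∀ g : PSp 3 F, orderOf g ≠ r * s) →
      ∀ g : POmega F (quadFormOdd 3 F), orderOf g ≠ r * s := by
    intro r s hr hs hrs h g hg
    obtain ⟨g', hg'⟩ := (S2474.result ho 3 (by norm_num) r s hr hs hrs).1 ⟨g, hg⟩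
    exact h g' hg'
  refine ⟨prime_of h4 ?_, dvd_of h4 (by norm_num) ?_, ?_, ?_, ?_, ?_⟩
  · intro r hr hd
    rcases hr.dvd_mul.1 hd with hd | hd
    · rcases hr.dvd_mul.1 hd with hd | hd
      · exact Or.inl (hd.trans (sub_one_dvd (by norm_num)))
      · exact Or.inl hd
    · exact Or.inr hd
  · exact ⟨(Dvd.intro_left _ rfl).mul_right _, Dvd.intro_left _ rfl⟩
  · intro r s d e hr hs hd he hde
    refine key r s hr.prime hs.prime ?_ (coc_psp hr hs hd he hde)
    rintro rfl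
    exact hde (hr.ord.symm.trans hs.ord)
  · intro r d hr hd
    exact key r p hr.prime hpp.out (hr.ne_char p) (char_psp p hr hd)
  · exact H150.pomega_odd_far ho (by norm_num)
  · rintro rfl
    exfalso
    obtain ⟨n, -, hn⟩ := FiniteField.card F 2
    rw [hn] at ho
    have h3 : Even (2 ^ (n : ℕ)) := (Nat.even_pow.2 ⟨even_two, n.ne_zero⟩)
    exact (Nat.not_even_iff_odd.2 ho) h3

theorem lf_plus (p : ℕ) [CharP F p] : LF F p (POmega F (quadFormPlus 4 F)) := by
  have hpp : Fact p.Prime := ⟨CharP.char_is_prime F p⟩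
  have h1 := Cfsg.Agent.S0293.result (F := F) rfl 4 (by norm_num)
  have h4 : Nat.gcd 4 (Nat.card F ^ 4 - 1) * Nat.card (POmega F (quadFormPlus 4 F)) =
      Nat.card F ^ 12 * ((Nat.card F ^ 4 - 1) * ((Nat.card F ^ 2 - 1) * (Nat.card F ^ 4 - 1) *
        (Nat.card F ^ 6 - 1))) := by
    rw [Nat.card_eq_fintype_card (α := F), h1, Finset.prod_range_succ, Finset.prod_range_succ,
      Finset.prod_range_one]
    ring
  refine ⟨prime_of h4 ?_, dvd_of h4 (Nat.gcd_dvd_left _ _) ?_, ?_, ?_, ?_, ?_⟩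
  · intro r hr hd
    rcases hr.dvd_mul.1 hd with hd | hd
    · exact Or.inl hd
    rcases hr.dvd_mul.1 hd with hd | hd
    · rcases hr.dvd_mul.1 hd with hd | hd
      · exact Or.inl (hd.trans (sub_one_dvd (by norm_num)))
      · exact Or.inl hd
    · exact Or.inr hd
  · exact ⟨Dvd.intro _ rfl, (Dvd.intro_left _ rfl).mul_left _⟩
  · intro r s d e hr hs hd he hde g
    exact coc_plus hr hs hd he hde g
  · intro r d hr hd g
    exact char_plus p hr hd g
  · by_cases h2 : (2 : F) = 0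
    · exact H150.plus_far_even h2 (by norm_num)
    · exact H150.plus_far_odd h2 (by norm_num)
  · rintro rfl g
    exact sixteen_plus (by have := CharP.cast_eq_zero F 2; push_cast at this; exact this) g

/-- **The facts about `L`.** -/
theorem lf_of (p : ℕ) [CharP F p] {L : Type*} [Group L]
    (hL : Nonempty (L ≃* Cfsg.PSp 3 F) ∨ (Odd (Fintype.card F) ∧
      Nonempty (L ≃* Cfsg.POmega F (Cfsg.quadFormOdd 3 F))) ∨
      Nonempty (L ≃* Cfsg.POmega F (Cfsg.quadFormPlus 4 F))) : LF F p L := by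
  rcases hL with ⟨⟨e⟩⟩ | ⟨ho, ⟨e⟩⟩ | ⟨⟨e⟩⟩
  · exact (lf_psp p).congr e.symm
  · exact (lf_odd p ho).congr e.symm
  · exact (lf_plus p).congr e.symm

end Cfsg.Agent.H424.SpecL
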