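import Mathlib
import Cfsg.Agent.StdSz.BorelCoord
import Cfsg.Agent.H424.SpecL
import Cfsg.Agent.H588.OutPrime
import Cfsg.Agent.H426.LieEx
import Cfsg.Agent.S2126

/-!
# `Sz(8)`: the group `2 ^ 3 : 7`, the order, the outer automorphisms (helper424)

* `sz_pair`; `sz_not_dvd`; `seven` : `49 ∤ |L|`, `q = 4`.
-/

set_option autoImplicit false

namespace Cfsg.Agent.H424.SzPair

open Subgroup Cfsg Cfsg.Agent.H424.SpecPlus Cfsg.Agent.H424.SpecL
open Cfsg.Agent.H414.LieShape Cfsg.Agent.H426.LieFam Cfsg.Agent.H588.OutPrime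

theorem pair_aux {S : Type*} [Group S] {F : Type*} [Field F] [Fintype F] [CharP F 2] (hF : Fintype.card F = 8)
    (C : Cfsg.Agent.StdSz.BorelCoord.Data 1 F S) :
    ∃ (U : Subgroup S) (y : S), IsPGroup 2 U ∧ y ^ 7 = 1 ∧ orderOf y = 7 ∧ (∀ u ∈ U, y * u * y⁻¹ ∈ U) ∧
      ¬ ∀ u ∈ U, y * u = u * y := by
  classical
  have h7 : Fact (Nat.Prime 7) := ⟨by norm_num⟩
  obtain ⟨l, hl⟩ := IsCyclic.exists_generator (α := Fˣ)
  have hol : orderOf l = 7 := by
    rw [orderOf_eq_card_of_forall_mem_zpowers hl, Nat.card_units, Nat.card_eq_fintype_card, hF]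
  have hl7 : l ^ 7 = 1 := by rw [← hol, pow_orderOf_eq_one]
  have hadd : ∀ b : F, C.p 0 (b + b) = 1 := by
    intro b
    have : b + b = 0 := CharTwo.add_self_eq_zero b
    rw [this, C.p_zero]
  -- `U`
  let U0 : Subgroup S :=
    { carrier := {x | ∃ b : F, x = C.p 0 b}
      mul_mem' := by
        rintro _ _ ⟨b, rfl⟩ ⟨d, rfl⟩
        exact ⟨b + d, C.p_zero_mul b d⟩
      one_mem' := ⟨0, C.p_zero.symm⟩
      inv_mem' := by
        rintro _ ⟨b, rfl⟩
        refine ⟨b, ?_⟩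
        rw [inv_eq_iff_mul_eq_one, C.p_zero_mul]
        exact hadd b }
  have hsq : ∀ b : F, C.p 0 b * C.p 0 b = 1 := by
    intro b
    rw [C.p_zero_mul]
    exact hadd b
  have hy : ∀ b : F, C.h l * C.p 0 b * (C.h l)⁻¹ = C.p 0 ((l : F) ^ 5 * b) := by
    intro b
    rw [C.h_p, mul_zero]
    norm_num
  have hh7 : C.h l ^ 7 = 1 := by
    have h1 : ∀ n : ℕ, C.h l ^ n = C.h (l ^ n) := by
      intro n
      induction n with
      | zero => rw [pow_zero, pow_zero, C.h_one]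
      | succ n ih => rw [pow_succ, pow_succ, ih, C.h_mul]
    rw [h1, hl7, C.h_one]
  have hl5 : (l : F) ^ 5 ≠ 1 := by
    intro h
    have h1 : l ^ 5 = 1 := Units.ext (by rw [Units.val_pow_eq_pow_val, h, Units.val_one])
    have h2 := orderOf_dvd_of_pow_eq_one h1
    rw [hol] at h2
    norm_num at h2
  have hne : C.h l * C.p 0 1 ≠ C.p 0 1 * C.h l := by
    intro h
    have h1 := hy 1
    rw [h, mul_inv_cancel_right] at h1
    have h2 := (C.p_inj _ _ _ _ h1).2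
    rw [mul_one] at h2
    exact hl5 h2.symm
  have hy1 : C.h l ≠ 1 := by
    intro h
    rw [h, one_mul, mul_one] at hne
    exact hne rfl
  have ho : orderOf (C.h l) = 7 := orderOf_eq_prime hh7 hy1
  refine ⟨U0, C.h l, ?_, hh7, ho, ?_, ?_⟩
  · rintro ⟨_, b, rfl⟩
    refine ⟨1, ?_⟩
    apply Subtype.ext
    rw [pow_one, pow_two]
    exact hsq b
  · rintro _ ⟨b, rfl⟩
    exact ⟨(l : F) ^ 5 * b, hy b⟩
  · intro h
    exact hne (h (C.p 0 1) ⟨1, rfl⟩)

/-- the subgroup `2 ^ 3 : 7` -/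
theorem sz_pair {T : Type*} [Group T] {F : Type*} [Field F] [Fintype F] (hF : Fintype.card F = 2 ^ (2 * 1 + 1))
    (e : T ≃* ↥(Cfsg.Lie.Sz F (2 ^ (1 + 1)))) :
    ∃ (U : Subgroup T) (y : T), IsPGroup 2 U ∧ y ^ 7 = 1 ∧ orderOf y = 7 ∧ (∀ u ∈ U, y * u * y⁻¹ ∈ U) ∧
      ¬ ∀ u ∈ U, y * u = u * y := by
  have hchar : CharP F 2 := by
    obtain ⟨n, hp, hn⟩ := FiniteField.card F (ringChar F)
    have h1 : ringChar F ∣ 2 ^ (2 * 1 + 1) := by
      rw [← hF, hn]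
      exact dvd_pow_self _ n.ne_zero
    have h2 := (Nat.prime_dvd_prime_iff_eq hp Nat.prime_two).1 (hp.dvd_of_dvd_pow h1)
    rw [← h2]
    infer_instance
  obtain ⟨U, y, h1, h2, h3, h4, h5⟩ := pair_aux (by rw [hF]; norm_num)
    (Cfsg.Agent.StdSz.BorelCoord.szData (F := F) (m := 1) hF)
  refine ⟨U.map e.symm.toMonoidHom, e.symm y, h1.map _, ?_, ?_, ?_, ?_⟩
  · rw [← map_pow, h2, map_one]
  · rw [MulEquiv.orderOf_eq, h3]
  · rintro _ ⟨u, hu, rfl⟩
    refine ⟨_, h4 u hu, ?_⟩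
    simp
  · intro h
    apply h5
    intro u hu
    have h6 := h (e.symm u) ⟨u, hu, rfl⟩
    rw [← map_mul, ← map_mul] at h6
    exact e.symm.injective h6

/-- `17 ∤ |Sz(8)|` -/
theorem sz_not_dvd {T : Type*} [Group T] {F : Type*} [Field F] [Fintype F] (hF : Fintype.card F = 2 ^ (2 * 1 + 1))
    (e : T ≃* ↥(Cfsg.Lie.Sz F (2 ^ (1 + 1)))) : ¬ 17 ∣ Nat.card T := by
  rw [Nat.card_congr e.toEquiv, (Cfsg.Agent.S1163.result le_rfl hF).1]
  norm_num

/-- `17` does not divide the order of the automorphism group of `Sz(8)` -/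
theorem sz_aut {T : Type*} [Group T] {F : Type*} [Field F] [Fintype F] (hF : Fintype.card F = 2 ^ (2 * 1 + 1))
    (e : T ≃* ↥(Cfsg.Lie.Sz F (2 ^ (1 + 1)))) : ¬ 17 ∣ Nat.card (MulAut T) := by
  have h1 := Cfsg.Agent.S2126.result (F := F) (m := 1) le_rfl hF
  have h2 : Nat.card (Cfsg.Out ↥(Cfsg.Lie.Sz F (2 ^ (1 + 1)))) = 3 := h1
  have hp : Nat.Prime 17 := by norm_num
  rw [Nat.card_congr (MulAut.congr e).toEquiv,
    Subgroup.card_eq_card_quotient_mul_card_subgroup (Cfsg.Inn ↥(Cfsg.Lie.Sz F (2 ^ (1 + 1))))]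
  intro h
  rcases hp.dvd_mul.1 h with h | h
  · rw [h2] at h
    norm_num at h
  · have h3 : Nat.card ↥(Cfsg.Inn ↥(Cfsg.Lie.Sz F (2 ^ (1 + 1)))) ∣ Nat.card ↥(Cfsg.Lie.Sz F (2 ^ (1 + 1))) :=
      Subgroup.card_range_dvd _
    exact sz_not_dvd hF (MulEquiv.refl _) (h.trans h3)

/-- `q = 4`: `49 ∤ |L|` -/
theorem not_dvd_49 {F : Type*} [Field F] [Fintype F] (hF : Nat.card F = 4) {L : Type*} [Group L]
    (hL : Nonempty (L ≃* Cfsg.PSp 3 F) ∨ (Odd (Fintype.card F) ∧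
      Nonempty (L ≃* Cfsg.POmega F (Cfsg.quadFormOdd 3 F))) ∨
      Nonempty (L ≃* Cfsg.POmega F (Cfsg.quadFormPlus 4 F))) : ¬ 49 ∣ Nat.card L := by
  have hF' : Fintype.card F = 4 := by rw [← Nat.card_eq_fintype_card, hF]
  rcases hL with ⟨⟨e⟩⟩ | ⟨ho, -⟩ | ⟨⟨e⟩⟩
  · rw [Nat.card_congr e.toEquiv]
    have h1 := Cfsg.Agent.S0245.result (F := F) rfl 3
    have h2 := Cfsg.Agent.S0246.result (F := F) rfl 3 (by norm_num)
    have h3 := Subgroup.card_eq_card_quotient_mul_card_subgroup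
      (Subgroup.center (Matrix.symplecticGroup (Fin 3) F))
    rw [h1, h2, hF', Finset.prod_range_succ, Finset.prod_range_succ, Finset.prod_range_one] at h3
    have h4 : Nat.card (Cfsg.PSp 3 F) = 4 ^ 9 * (15 * 255 * 4095) := by
      have h5 : Nat.card (Cfsg.PSp 3 F) * Nat.gcd 2 (4 - 1) = 4 ^ 9 * (15 * 255 * 4095) := by
        rw [← show _ = _ from h3]
        norm_num
      norm_num at h5
      norm_num
      exact h5
    rw [h4]
    norm_num
  · rw [hF'] at ho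
    exact absurd ho (by decide)
  · rw [Nat.card_congr e.toEquiv]
    have h1 := Cfsg.Agent.S0293.result (F := F) rfl 4 (by norm_num)
    rw [hF', Finset.prod_range_succ, Finset.prod_range_succ, Finset.prod_range_one] at h1
    norm_num at h1
    rw [h1]
    norm_num

end Cfsg.Agent.H424.SzPair
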