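import Cfsg.Agent.H424.Red2
import Cfsg.Agent.H424.SzKill
import Cfsg.Agent.H424.SzPair
import Cfsg.Agent.H424.RestKill

/-!
# Reduction for groups isospectral to PSp₆(q), PΩ₇(q), PΩ₈⁺(q), third part (helper424)

* `not_sz` : `Sz(8)` is no composition factor for `q = 4`;
* `sg_of` : all the facts `SG`.
-/

set_option autoImplicit false

namespace Cfsg.Agent.H424.Red3

open Subgroup Cfsg Cfsg.Agent.H424.SpecPlus Cfsg.Agent.H424.SpecL Cfsg.Agent.H424.Zs Cfsg.Agent.H424.Red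
open Cfsg.Agent.H424.Red2 Cfsg.Agent.H424.RestKill Cfsg.Agent.H424.SzPair
open Cfsg.Agent.H414.Adj Cfsg.Agent.H414.Vasiliev Cfsg.Agent.H414.Comp Cfsg.Agent.H414.Spec Cfsg.Agent.H390.Chief

section

variable {F : Type*} [Field F] [Fintype F] {G L : Type*} [Group G] [Finite G] [Group L] [Finite L]

theorem not_sz [CharP F 2] (hF : Nat.card F = 4) (hL : LF F 2 L) (h49 : ¬ 49 ∣ Nat.card L)
    (h : Set.range (orderOf : G → ℕ) = Set.range (orderOf : L → ℕ))
    (H : Subgroup G) (hH : H.IsSubnormal) (N : Subgroup ↥H) [N.Normal]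
    (hs : IsSimpleGroup (↥H ⧸ N)) (hna : ¬ IsMulCommutative (↥H ⧸ N)) {E : Type*} [Field E] [Fintype E]
    (hE : Fintype.card E = 2 ^ (2 * 1 + 1)) (e : (↥H ⧸ N) ≃* ↥(Cfsg.Lie.Sz E (2 ^ (1 + 1)))) : False := by
  classical
  have hG : ¬ Group.IsSolvable G := by
    intro hG
    apply hna
    apply H414.CompFactor.comm_of_solvable
    infer_instance
  have hr : Pr F 7 3 := ⟨by norm_num, by norm_num, by
    rw [hF]
    exact orderOf_eq_prime (p := 3) (by decide) (by decide), by norm_num⟩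
  have hs17 : Pr F 17 4 := ⟨by norm_num, by norm_num, by
    rw [hF]
    have h1 : orderOf (((4 : ℕ)) : ZMod 17) = 2 ^ (1 + 1) :=
      orderOf_eq_prime_pow (p := 2) (n := 1) (by decide) (by decide)
    rw [h1]
    norm_num, by norm_num⟩
  obtain ⟨p₀, hp₀, hp₀2, hp₀L, hp₀x⟩ := hL.far
  obtain ⟨K, hKn, hKs, hKmax⟩ := exists_radical G
  obtain ⟨S, hSc, hSn, hScent, -⟩ := exists_socle hG hp₀ hp₀2 ((dvd_card_iff h hp₀).2 hp₀L)
    (fun hx => by
      obtain ⟨y, hy⟩ := (exists_iff h _).1 hx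
      exact hp₀x y hy) K hKs hKmax
  have hSs := hSc.simple
  obtain ⟨e'⟩ := H414.CompFactor.equiv_of_factor K hKs S (solvable_quot S hSc hScent) H hH N hna
  have eS : ↥S ≃* ↥(Cfsg.Lie.Sz E (2 ^ (1 + 1))) := e'.symm.trans e
  -- `17 ∣ |K|`
  have h17G : 17 ∣ Nat.card G := (dvd_card_iff h hs17.prime).2 (hL.dvd _ _ hs17 (by norm_num))
  have hX : ¬ 17 ∣ Nat.card (G ⧸ K) := by
    intro h1
    have hinj : Function.Injective (MulAut.conjNormal (H := S)) := by
      rw [injective_iff_map_eq_one]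
      intro x hx
      have h2 : x ∈ centralizer (S : Set (G ⧸ K)) := by
        rw [mem_centralizer_iff]
        intro t ht
        have h3 := congrArg (fun f : MulAut ↥S => ((f ⟨t, ht⟩ : ↥S) : G ⧸ K)) hx
        have h4 : x * t * x⁻¹ = t := h3
        calc t * x = (x * t * x⁻¹) * x := by rw [h4]
          _ = x * t := by group
      rw [hScent, mem_bot] at h2
      exact h2
    exact sz_aut hE eS (h1.trans (Subgroup.card_dvd_of_injective (MulAut.conjNormal (H := S)) hinj))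
  have h17K : 17 ∣ Nat.card K := by
    rw [Subgroup.card_eq_card_quotient_mul_card_subgroup K] at h17G
    exact (hs17.prime.dvd_mul.1 h17G).resolve_left hX
  obtain ⟨U, y, hU, hy7, hoy, hyU, hyc⟩ := sz_pair hE eS
  refine SzKill.core K hKs (s := 17) (r := 7) hs17.prime hr.prime (by norm_num) (by norm_num) (by norm_num) h17K
    ?_ ?_ S hSs hScent ?_ (U.map S.subtype) (hU.map _) (y : G ⧸ K) ?_ ?_ ?_ ?_
  · intro g hg
    obtain ⟨x, hx⟩ := (exists_iff h _).1 ⟨g, hg⟩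
    exact hL.coc 7 17 3 4 hr hs17 (by norm_num) (by norm_num) (by norm_num) x hx
  · intro g hg
    obtain ⟨x, hx⟩ := (exists_iff h _).1 ⟨g, hg⟩
    apply h49
    have := orderOf_dvd_natCard x
    rw [hx] at this
    exact this
  · rw [← hoy]
    exact orderOf_dvd_natCard y
  · rw [← Subgroup.coe_pow, hy7, Subgroup.coe_one]
  · rintro _ ⟨u, hu, rfl⟩
    exact ⟨_, hyU u hu, rfl⟩
  · intro hc
    apply hyc
    intro u hu
    apply Subtype.ext
    exact hc _ ⟨u, hu, rfl⟩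
  · intro n hn
    have h3 : 3 ∣ 2 ^ n := (show 3 ∣ (7 - 1) ^ 2 by norm_num).trans hn
    have := (Nat.prime_dvd_prime_iff_eq Nat.prime_three Nat.prime_two).1 (Nat.prime_three.dvd_of_dvd_pow h3)
    omega

/-- **All the facts about the composition factor.** -/
theorem sg_of {p : ℕ} (hp : p.Prime) [CharP F p] (hq : 3 ≤ Nat.card F)
    (hL : Nonempty (L ≃* Cfsg.PSp 3 F) ∨ (Odd (Fintype.card F) ∧
      Nonempty (L ≃* Cfsg.POmega F (Cfsg.quadFormOdd 3 F))) ∨
      Nonempty (L ≃* Cfsg.POmega F (Cfsg.quadFormPlus 4 F)))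
    (h : Set.range (orderOf : G → ℕ) = Set.range (orderOf : L → ℕ))
    (H : Subgroup G) (hH : H.IsSubnormal) (N : Subgroup ↥H) [N.Normal]
    (hs : IsSimpleGroup (↥H ⧸ N)) (hna : ¬ IsMulCommutative (↥H ⧸ N)) : SG F p (↥H ⧸ N) :=
  ⟨sf_of hp hq (lf_of p hL) h H hH N hs hna, fun _ _ hr hd h5 hout =>
    big hp (lf_of p hL) (fun hp2 => Cfsg.Agent.H424.Cube.cube_of hp2 hL)
      (fun H' N' _ hH' hs' hna' => sf_of hp hq (lf_of p hL) h H' hH' N' hs' hna') h H hH N hs hna hr hd h5 hout⟩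

end

end Cfsg.Agent.H424.Red3
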