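import Cfsg.Agent.H424.SpecPlus
import Cfsg.Agent.H390.Chief

/-!
# Facts about the composition factor of a group isospectral to PSp₆(q), PΩ₇(q), PΩ₈⁺(q) (helper424)

* `SF F p S` : the facts (proved in `H424/Red.lean`).
-/

set_option autoImplicit false

namespace Cfsg.Agent.H424.Red

open Subgroup Cfsg Cfsg.Agent.H424.SpecPlus Cfsg.Agent.H390.Chief

/-- Facts about the nonabelian composition factor of a group isospectral to `L`. -/
structure SF (F : Type*) [Field F] [Fintype F] (p : ℕ) (S : Type*) [Group S] : Prop where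
  prime : ∀ r : ℕ, r.Prime → r ∣ Nat.card S →
    r = p ∨ r ∣ Nat.card F ^ 4 - 1 ∨ r ∣ Nat.card F ^ 6 - 1
  two : ∀ r s d e : ℕ, Pr F r d → Pr F s e → d = 3 ∨ d = 4 ∨ d = 6 → e = 3 ∨ e = 4 ∨ e = 6 → d ≠ e →
    r ∣ Nat.card S ∨ s ∣ Nat.card S
  coc : ∀ r s d e : ℕ, Pr F r d → Pr F s e → d = 3 ∨ d = 6 → e = 3 ∨ e = 4 ∨ e = 6 → d ≠ e →
    ∀ g : S, orderOf g ≠ r * s
  char : ∀ r d : ℕ, Pr F r d → d = 3 ∨ d = 6 → ∀ g : S, orderOf g ≠ r * p
  sixteen : p = 2 → ∀ g : S, orderOf g ≠ 16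
  full : ∀ r d : ℕ, Pr F r d → d = 3 ∨ d = 6 → (∃ E : Subgroup S, IsPGroup p E ∧ ¬ Cy p E) →
    ¬ r ∣ (MulAut.conj : S →* MulAut S).range.index → r ∣ Nat.card S

/-- transport along isomorphisms -/
theorem SF.congr {F : Type*} [Field F] [Fintype F] {p : ℕ} {S T : Type*} [Group S] [Group T] (e : S ≃* T)
    (h : SF F p S) : SF F p T := by
  have hc : Nat.card T = Nat.card S := (Nat.card_congr e.toEquiv).symm
  refine ⟨fun r hr hd => h.prime r hr (hc ▸ hd), fun r s d e' hr hs hd he hde => by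
    rw [hc]; exact h.two r s d e' hr hs hd he hde,
    fun r s d e' hr hs hd he hde g hg => h.coc r s d e' hr hs hd he hde (e.symm g) ?_,
    fun r d hr hd g hg => h.char r d hr hd (e.symm g) ?_,
    fun h2 g hg => h.sixteen h2 (e.symm g) ?_, ?_⟩
  · rw [MulEquiv.orderOf_eq, hg]
  · rw [MulEquiv.orderOf_eq, hg]
  · rw [MulEquiv.orderOf_eq, hg]
  · rintro r d hr hd ⟨E, hE, hEC⟩ hOut
    rw [hc]
    refine h.full r d hr hd ⟨E.map e.symm.toMonoidHom, hE.map _, fun hcy => hEC ?_⟩ ?_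
    · exact hcy.map ((E.equivMapOfInjective e.symm.toMonoidHom e.symm.injective).symm.toMonoidHom)
        (E.equivMapOfInjective e.symm.toMonoidHom e.symm.injective).symm.surjective
    · intro h1
      apply hOut
      have h2 : (MulAut.conj : T →* MulAut T).range =
          (MulAut.conj : S →* MulAut S).range.map (MulAut.congr e).toMonoidHom := by
        ext f
        constructor
        · rintro ⟨y, rfl⟩
          refine ⟨MulAut.conj (e.symm y), ⟨_, rfl⟩, ?_⟩
          ext z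
          show e (e.symm y * e.symm z * (e.symm y)⁻¹) = y * z * y⁻¹
          simp
        · rintro ⟨_, ⟨x, rfl⟩, rfl⟩
          refine ⟨e x, ?_⟩
          ext z
          show e x * z * (e x)⁻¹ = e (x * e.symm z * x⁻¹)
          simp
      rw [h2]
      rwa [Subgroup.index_map_of_bijective (f := (MulAut.congr e).toMonoidHom) (MulAut.congr e).bijective _]

end Cfsg.Agent.H424.Red
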