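import Mathlib
import Cfsg.Agent.H424.SpecPlus

/-!
# `PSp₆(q)`, `PΩ₇(q)`, `PΩ₈⁺(q)`, `q` a power of the odd prime `p`, have no elements of order `p ^ 3` (helper424)

* `cube_of` : the three groups.
-/

set_option autoImplicit false

namespace Cfsg.Agent.H424.Cube

open Module Cfsg Cfsg.Agent.H150 Cfsg.Agent.H390 Cfsg.Agent.H390.Lift Cfsg.Agent.H424.SpecPlus
open Cfsg.Agent.LieClassical.OrthCount Cfsg.Agent.LieClassical.OmegaReindex Cfsg.Agent.LieClassical

section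

variable {F : Type*} [Field F]

theorem two_ne {p : ℕ} (hp : p.Prime) (hp2 : p ≠ 2) [CharP F p] : (2 : F) ≠ 0 := by
  intro h
  have h3 : ((2 : ℕ) : F) = 0 := by push_cast; exact h
  rw [CharP.cast_eq_zero_iff F p] at h3
  exact hp2 ((Nat.prime_dvd_prime_iff_eq hp Nat.prime_two).1 h3)

theorem pow_sq {p : ℕ} (hp : p.Prime) (hp2 : p ≠ 2) [CharP F p] {V : Type*} [AddCommGroup V] [Module F V]
    [FiniteDimensional F V] {T : V →ₗ[F] V} (hV : finrank F V ≤ 8) (hT : T ^ p ^ 3 = 1) : T ^ p ^ 2 = 1 := by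
  have := Fact.mk hp
  have h1 : IsNilpotent (T - 1) := nilp_of_char (p := p) (n := 3) hT
  have h3 : 8 ≤ p ^ 2 := by
    have h4 : 3 ≤ p := by
      have := hp.two_le
      omega
    nlinarith
  by_cases hVn : Nontrivial V
  · have : CharP (Module.End F V) p := charP_of_injective_algebraMap
      (FaithfulSMul.algebraMap_injective F (Module.End F V)) p
    have h3 : (T - 1) ^ p ^ 2 = 0 := by
      have h4 := LinearMap.aeval_self_charpoly (T - 1)
      rw [IsNilpotent.charpoly_eq_X_pow_finrank h1, map_pow, Polynomial.aeval_X] at h4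
      exact pow_eq_zero_of_le (hV.trans h3) h4
    have h5 := sub_pow_char_pow_of_commute p 2 (Commute.one_right T)
    rw [h3, one_pow] at h5
    exact (sub_eq_zero.1 h5.symm)
  · have := not_nontrivial_iff_subsingleton.1 hVn
    ext v
    exact Subsingleton.elim _ _

theorem false_of {p : ℕ} (hp : p.Prime) (hp2 : p ≠ 2) [CharP F p] {V : Type*} [AddCommGroup V] [Module F V]
    [FiniteDimensional F V] {T : V →ₗ[F] V} (hV : finrank F V ≤ 8) (hT : ∀ j : ℕ, T ^ j = 1 ↔ p ^ 3 ∣ j) : False := by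
  have h1 := (hT _).1 (pow_sq hp hp2 hV ((hT _).2 dvd_rfl))
  have h2 := (Nat.pow_dvd_pow_iff_le_right hp.one_lt).1 h1
  omega

theorem cube_plus [Finite F] {p : ℕ} (hp2 : p ≠ 2) [CharP F p] (g : POmega F (quadFormPlus 4 F)) :
    orderOf g ≠ p ^ 3 := by
  intro hg
  have := Fintype.ofFinite F
  have hp : p.Prime := CharP.char_is_prime F p
  obtain ⟨T, -, hT⟩ := exists_T (Or.inl (hp.odd_of_ne_two hp2).pow) ⟨g, hg⟩
  exact false_of hp hp2 finrank_eight.le hT

theorem data_odd [Finite F] (h2 : (2 : F) ≠ 0) {m : ℕ} (hm : 1 ≤ m) : Data (quadOdd m F) := by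
  have hc : Fintype.card (Unit ⊕ (Fin m ⊕ Fin m)) = 2 * m + 1 := by
    rw [Fintype.card_sum, Fintype.card_sum, Fintype.card_fin, Fintype.card_unit]; ring
  refine ⟨quadOdd_nondegenerate h2, by rw [hc]; omega, quadOdd_isotropic hm, ?_⟩
  right
  exact Cfsg.Agent.ClassicalGeometry.OmegaIndex.index_Omega h2 (by rw [hc]; omega) (quadOdd m F)
      (quadOdd_nondegenerate h2)

theorem cube_odd [Finite F] {p : ℕ} (hp2 : p ≠ 2) [CharP F p] (g : POmega F (quadFormOdd 3 F)) :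
    orderOf g ≠ p ^ 3 := by
  intro hg
  have := Fintype.ofFinite F
  have hp : p.Prime := CharP.char_is_prime F p
  have h : ∃ g : POmega F (quadFormOdd 3 F), orderOf g = p ^ 3 := ⟨g, hg⟩
  rw [← coe_quadOdd] at h
  obtain ⟨X, hX⟩ := exists_isom (data_odd (two_ne hp hp2) (by norm_num)) (hp.odd_of_ne_two hp2).pow h
  obtain ⟨T, -, hj⟩ := exists_lin X
  refine false_of hp hp2 (T := T) ?_ fun j => by rw [← hj, ← hX, orderOf_dvd_iff_pow_eq_one]
  rw [Module.finrank_fintype_fun_eq_card, Fintype.card_sum, Fintype.card_sum, Fintype.card_fin, Fintype.card_unit]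
  norm_num

theorem cube_psp [Finite F] {p : ℕ} (hp2 : p ≠ 2) [CharP F p] (g : PSp 3 F) : orderOf g ≠ p ^ 3 := by
  intro hg
  have := Fintype.ofFinite F
  have hp : p.Prime := CharP.char_is_prime F p
  have hc := S0246.result (F := F) (q := Fintype.card F) rfl 3 (by norm_num)
  have hZ : ∀ z ∈ Subgroup.center (Matrix.symplecticGroup (Fin 3) F), z ^ 2 = 1 := by
    intro z hz
    have h1 := orderOf_dvd_natCard (⟨z, hz⟩ : Subgroup.center (Matrix.symplecticGroup (Fin 3) F))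
    rw [hc, Subgroup.orderOf_mk] at h1
    exact orderOf_dvd_iff_pow_eq_one.1 (h1.trans (Nat.gcd_dvd_left _ _))
  obtain ⟨M, hM⟩ := lift_odd _ hZ (hp.odd_of_ne_two hp2).pow ⟨g, hg⟩
  set A : Matrix (Fin 3 ⊕ Fin 3) (Fin 3 ⊕ Fin 3) F := (M : Matrix (Fin 3 ⊕ Fin 3) (Fin 3 ⊕ Fin 3) F) with hA
  refine false_of hp hp2 (T := Matrix.toLinAlgEquiv' A) ?_ fun j => ?_
  · rw [Module.finrank_fintype_fun_eq_card, Fintype.card_sum, Fintype.card_fin]; norm_num
  · rw [← map_pow, ← hM, orderOf_dvd_iff_pow_eq_one]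
    have h1 : A ^ j = ((M ^ j : Matrix.symplecticGroup (Fin 3) F) : Matrix (Fin 3 ⊕ Fin 3) (Fin 3 ⊕ Fin 3) F) := by
      rw [hA]; rfl
    constructor
    · intro h
      rw [← map_one (Matrix.toLinAlgEquiv' (R := F) (n := Fin 3 ⊕ Fin 3))] at h
      have h9 := (Matrix.toLinAlgEquiv' (R := F) (n := Fin 3 ⊕ Fin 3)).injective h
      rw [h1] at h9
      exact Subtype.ext h9
    · intro h
      rw [h1, h]
      exact map_one _

/-- **No elements of order `p ^ 3`.** -/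
theorem cube_of [Fintype F] {p : ℕ} (hp2 : p ≠ 2) [CharP F p] {L : Type*} [Group L]
    (hL : Nonempty (L ≃* Cfsg.PSp 3 F) ∨ (Odd (Fintype.card F) ∧
      Nonempty (L ≃* Cfsg.POmega F (Cfsg.quadFormOdd 3 F))) ∨
      Nonempty (L ≃* Cfsg.POmega F (Cfsg.quadFormPlus 4 F))) (g : L) : orderOf g ≠ p ^ 3 := by
  rcases hL with ⟨⟨e⟩⟩ | ⟨-, ⟨e⟩⟩ | ⟨⟨e⟩⟩
  · rw [← MulEquiv.orderOf_eq e g]
    exact cube_psp hp2 _
  · rw [← MulEquiv.orderOf_eq e g]
    exact cube_odd hp2 _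
  · rw [← MulEquiv.orderOf_eq e g]
    exact cube_plus hp2 _

end

end Cfsg.Agent.H424.Cube
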