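import Cfsg.Agent.H369.PglSit
import Cfsg.Agent.H424.OrthElt
import Cfsg.Agent.S2265
import Cfsg.Agent.S0293
import Cfsg.Agent.S0294
import Cfsg.Agent.S0817
import Cfsg.Agent.S0818

/-!
# Rows `PΩ^±_{2n}(u)`, `n ≥ 4`, of the recognition of `PGL_2(q)` by spectrum (S3447) (helper424)
-/

set_option autoImplicit false
set_option linter.unusedSectionVars false

open Subgroup QuadraticMap Cfsg

namespace Cfsg.Agent.H424.PglOrth

open Cfsg.Agent.LieClassical.OrthCore Cfsg.Agent.LieClassical.OrthForms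
open Cfsg.Agent.H403.Classify Cfsg.Agent.H377 Cfsg.Agent.H369.Pgl Cfsg.Agent.H72.AdjOrth
open Cfsg.Agent.H424.OrthElt

/-- `u ^ k - ε` -/
def ts (u k : ℕ) (ε : ℤ) : ℕ := if ε = 1 then u ^ k - 1 else u ^ k + 1

theorem ts_one (u k : ℕ) : ts u k 1 = u ^ k - 1 := if_pos rfl

theorem ts_neg (u k : ℕ) : ts u k (-1) = u ^ k + 1 := if_neg (by decide)

section arith

variable {u : ℕ}

theorem pow_two_mul_sub (u k : ℕ) : u ^ (2 * k) - 1 = (u ^ k - 1) * (u ^ k + 1) := by
  have h := Nat.sq_sub_sq (u ^ k) 1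
  rw [one_pow, ← pow_mul, mul_comm k 2] at h
  rw [h, mul_comm]

theorem ts_mul (u k : ℕ) {ε : ℤ} (hε : ε = 1 ∨ ε = -1) : ts u k ε * ts u k (-ε) = u ^ (2 * k) - 1 := by
  rw [pow_two_mul_sub]
  rcases hε with rfl | rfl
  · rw [ts_one, ts_neg]
  · rw [neg_neg, ts_one, ts_neg, mul_comm]

theorem tn_eq (u : ℕ) (k : ℕ) : tn u k = ts u (eta k) (sg k) := by
  rw [tn, eta, sg]
  split_ifs with h
  · exact (ts_neg u (k / 2)).symm
  · exact (ts_one u k).symm

/-- the weight of a divisor of `u ^ (2 j) - 1` is at most `j` -/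
theorem eta_le (hu : 1 ≤ u) {s j : ℕ} (hj : 1 ≤ j) (h : s ∣ u ^ (2 * j) - 1) : eta (ee u s) ≤ j := by
  have h1 := ee_dvd hu h
  rw [eta]
  split_ifs with he
  · obtain ⟨c, hc⟩ := he
    rw [hc] at h1 ⊢
    have h2 : 2 * c ∣ 2 * j := by rwa [two_mul c]
    have h3 := Nat.le_of_dvd (by omega) h2
    omega
  · rw [Nat.not_even_iff_odd] at he
    have h2 : (ee u s).Coprime 2 := Nat.coprime_two_right.2 he
    exact Nat.le_of_dvd (by omega) (h2.dvd_of_dvd_mul_left h1)

theorem ts_dvd {k : ℕ} {ε : ℤ} (hε : ε = 1 ∨ ε = -1) : ts u k ε ∣ u ^ (2 * k) - 1 := by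
  rw [← ts_mul u k hε]
  exact dvd_mul_right _ _

theorem wO_eq {s : ℕ} (hs2 : s ≠ 2) (hsu : ¬ s ∣ u) : wO u s = eta (ee u s) :=
  if_neg (by rw [not_or]; exact ⟨hs2, hsu⟩)

/-- divisors of `u ^ (2 j) - 1` and of `u` -/
theorem wO_le (hu : 1 ≤ u) {s j : ℕ} (hs2 : s ≠ 2) (hj : 2 ≤ j) (h : s ∣ u ∨ ∃ i, 1 ≤ i ∧ i ≤ j ∧ s ∣ u ^ (2 * i) - 1) :
    wO u s ≤ j := by
  by_cases hsu : s ∣ u
  · rw [wO, if_pos (Or.inr hsu)]
    exact hj
  · rw [wO_eq hs2 hsu]
    rcases h with h | ⟨i, h1, h2, h3⟩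
    · exact absurd h hsu
    · exact (eta_le hu h1 h3).trans h2

/-- `u ^ n - ε`, `n` even, `ε = 1` -/
theorem even_dvd {s k : ℕ} (hk : Even k) (hk0 : 1 ≤ k) (h : s ∣ u ^ k - 1) : ∃ i, 1 ≤ i ∧ 2 * i ≤ k ∧ s ∣ u ^ (2 * i) - 1 := by
  obtain ⟨c, rfl⟩ := hk
  refine ⟨c, by omega, by omega, ?_⟩
  rwa [two_mul]

end arith

section num

theorem le_two_mul {N p : ℕ} (hp : 0 < p) (h : N ∣ 4 * p) (h4 : N % 4 = 2) : N ≤ 2 * p := by
  obtain ⟨N1, rfl⟩ : ∃ N1, N = 2 * N1 := ⟨N / 2, by omega⟩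
  have h1 : N1 ∣ 2 * p := by
    have h2 : 2 * N1 ∣ 2 * (2 * p) := by rwa [← mul_assoc]
    exact (Nat.mul_dvd_mul_iff_left (by norm_num)).1 h2
  have hodd : N1.Coprime 2 := Nat.coprime_two_right.2 (Nat.odd_iff.2 (by omega))
  have h2 := Nat.le_of_dvd hp (hodd.dvd_of_dvd_mul_left h1)
  omega

theorem le_of_odd {N p : ℕ} (hp : 0 < p) (h : N ∣ 4 * p) (hN : Odd N) : N ≤ p := by
  have h4 : N.Coprime 4 := by
    have : N.Coprime (2 ^ 2) := Nat.Coprime.pow_right 2 (Nat.coprime_two_right.2 hN)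
    exact this
  exact Nat.le_of_dvd hp (h4.dvd_of_dvd_mul_left h)

theorem num_b {u z p f c : ℕ} (hf : 1 ≤ f) (hz : 1 ≤ z) (h : u * z + 1 ≤ c * p)
    (hk : p ^ 2 - 1 ≤ 2 * (f * (z ^ 2 - 1))) (hcf : 2 * c ^ 2 * f ≤ u ^ 2) : False := by
  obtain ⟨w, hw⟩ : ∃ w, z ^ 2 = w + 1 := ⟨z ^ 2 - 1, by have := Nat.one_le_pow 2 z hz; omega⟩
  rw [hw, Nat.add_sub_cancel] at hk
  have h1 : p ^ 2 ≤ 2 * (f * w) + 1 := by omega
  have h2 : (u * z + 1) ^ 2 ≤ (c * p) ^ 2 := Nat.pow_le_pow_left h 2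
  have h3 : (c * p) ^ 2 ≤ c ^ 2 * (2 * (f * w) + 1) := by
    rw [mul_pow]
    exact Nat.mul_le_mul_left _ h1
  have h4 : c ^ 2 * (2 * (f * w) + 1) = (2 * c ^ 2 * f) * w + c ^ 2 := by ring
  have h5 : (2 * c ^ 2 * f) * w ≤ u ^ 2 * w := Nat.mul_le_mul_right w hcf
  have h6 : c ^ 2 ≤ u ^ 2 := by
    calc c ^ 2 ≤ c ^ 2 * (2 * f) := Nat.le_mul_of_pos_right _ (by omega)
      _ = 2 * c ^ 2 * f := by ring
      _ ≤ u ^ 2 := hcf
  have h7 : (u * z + 1) ^ 2 = u ^ 2 * z ^ 2 + 2 * (u * z) + 1 := by ring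
  rw [hw] at h7
  have h8 : u ^ 2 * (w + 1) = u ^ 2 * w + u ^ 2 := by ring
  omega

theorem num_a {u y p f : ℕ} (hu : 2 ≤ u) (hfu : f + 1 ≤ u) (hy : 16 ≤ y) (h : u * y ≤ 4 * p + 1)
    (hk : p ^ 2 - 1 ≤ 2 * (f * (y + 1))) : False := by
  obtain ⟨v, rfl⟩ : ∃ v, u = v + 2 := ⟨u - 2, by omega⟩
  obtain ⟨w, rfl⟩ : ∃ w, y = w + 16 := ⟨y - 16, by omega⟩
  have h1 : f * (w + 16 + 1) ≤ (v + 1) * (w + 17) := Nat.mul_le_mul (by omega) (by omega)
  have h2 : p ^ 2 ≤ 2 * ((v + 1) * (w + 17)) + 1 := by omega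
  have h3 : (v + 2) * (w + 16) = v * w + 16 * v + 2 * w + 32 := by ring
  rw [h3] at h
  have h4 : v * w + 16 * v + 2 * w + 31 ≤ 4 * p := by omega
  have h5 : (v * w + 16 * v + 2 * w + 31) ^ 2 ≤ (4 * p) ^ 2 := Nat.pow_le_pow_left h4 2
  have h6 : (4 * p) ^ 2 = 16 * p ^ 2 := by ring
  have h7 : 16 * p ^ 2 ≤ 16 * (2 * ((v + 1) * (w + 17)) + 1) := Nat.mul_le_mul_left _ h2
  have h8 : (v * w + 16 * v + 2 * w + 31) ^ 2 = 16 * (2 * ((v + 1) * (w + 17)) + 1) +
      (v ^ 2 * w ^ 2 + 32 * v ^ 2 * w + 256 * v ^ 2 + 4 * v * w ^ 2 + 94 * (v * w) + 448 * v + 4 * w ^ 2 + 92 * w + 401) := by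
    ring
  omega

theorem pow_bound_odd {r f : ℕ} (hr : 3 ≤ r) (hf : 1 ≤ f) : 2 * 2 ^ 2 * f ≤ (r ^ f) ^ 2 := by
  have h1 : 8 * f ≤ 9 ^ f := by
    induction f, hf using Nat.le_induction with
    | base => norm_num
    | succ k hk ih =>
      rw [pow_succ]
      omega
  calc 2 * 2 ^ 2 * f = 8 * f := by ring
    _ ≤ 9 ^ f := h1
    _ = (3 ^ f) ^ 2 := by rw [← pow_mul, mul_comm f 2, pow_mul]; norm_num
    _ ≤ (r ^ f) ^ 2 := Nat.pow_le_pow_left (Nat.pow_le_pow_left hr f) 2

theorem pow_bound_two {f : ℕ} (hf : 1 ≤ f) : 2 * 1 ^ 2 * f ≤ (2 ^ f) ^ 2 := by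
  have h1 : 2 * f ≤ 4 ^ f := by
    induction f, hf using Nat.le_induction with
    | base => norm_num
    | succ k hk ih =>
      rw [pow_succ]
      omega
  calc 2 * 1 ^ 2 * f = 2 * f := by ring
    _ ≤ 4 ^ f := h1
    _ = (2 ^ f) ^ 2 := by rw [← pow_mul, mul_comm f 2, pow_mul]; norm_num

end num

section elts

variable {F : Type*} [Field F] [Finite F]

theorem elt_ts {k N : ℕ} (hk : 1 ≤ k) {ε : ℤ} (hε : ε = 1 ∨ ε = -1) (h : N ∣ ts (Nat.card F) k ε) : Elt F k ε N := by
  rcases hε with rfl | rfl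
  · rw [ts_one] at h
    exact elt_tor_plus hk h
  · rw [ts_neg] at h
    exact elt_tor_minus hk h

/-- block diagonal elements of odd orders -/
theorem elt2_prod {n k : ℕ} (hn : 1 ≤ n) (hk : k ≤ n) {ε δ : ℤ} (hδ : δ = 1 ∨ δ = -1) {N M : ℕ} (h : Elt F k δ N)
    (h' : Elt F (n - k) (δ * ε) M) (hN : Odd N) (hM : Odd M) : Elt2 F n ε (Nat.lcm N M) := by
  have h1 := h.prod h'
  rw [← mul_assoc, sq_pm hδ, one_mul, Nat.add_sub_cancel' hk] at h1
  refine Elt.two hn ?_ h1
  have h2 : Odd (N * M) := hN.mul hM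
  exact Odd.of_dvd_nat h2 (Nat.lcm_dvd_mul N M)

end elts

/-- what we use of `PΩ^ε_{2n}(u)` -/
structure OS (S : Type*) [Group S] (F : Type*) [Field F] [Finite F] (n : ℕ) (ε : ℤ) : Prop where
  pm : ε = 1 ∨ ε = -1
  elt : ∀ N, Elt2 F n ε N → ∃ g : S, orderOf g = N
  noncyc : ∃ P : Sylow 3 S, ¬ IsCyclic P
  card : Nat.card S ∣ Nat.card F ^ (n * (n - 1)) * ts (Nat.card F) n ε *
    ∏ i ∈ Finset.range (n - 1), (Nat.card F ^ (2 * (i + 1)) - 1)
  aut : ∀ r f, r.Prime → 1 ≤ f → Nat.card F = r ^ f → ∃ c, c ∣ 24 ∧ Nat.card (MulAut S) = c * f * Nat.card S ∧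
    (ε = -1 → r = 3 → f = 1 → Even n → c = 4)
  meo : ∀ g : S, (Nat.card F - 1) * orderOf g ≤ Nat.card F ^ (n + 1)

section main

variable {S : Type*} [Group S] [Finite S] {F : Type*} [Field F] [Finite F] {n : ℕ} {ε : ℤ}

theorem OS.h12 (O : OS S F n ε) (hn : 4 ≤ n) : ∃ g : S, 12 ∣ orderOf g := by
  obtain ⟨g, hg⟩ := O.elt 12 (elt2_twelve hn O.pm)
  exact ⟨g, by rw [hg]⟩

/-- **adjacency to `3`** -/
theorem OS.adj3 (O : OS S F n ε) (hn : 4 ≤ n) {s : ℕ} (hs : s.Prime) (hs2 : s ≠ 2) (hs3 : s ≠ 3)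
    (h : wO (Nat.card F) s ≤ n - 2) : ∃ g : S, s * 3 ∣ orderOf g := by
  obtain ⟨δ, hδ, h1⟩ := exists_elt_wO (F := F) hs hs2
  have h2 : Elt F (n - wO (Nat.card F) s) (δ * ε) 3 := elt_three (by omega) (mul_pm hδ O.pm)
  obtain ⟨g, hg⟩ := O.elt _ (elt2_prod (by omega) (by omega) hδ h1 h2 (hs.odd_of_ne_two hs2) (by decide))
  refine ⟨g, ?_⟩
  rw [hg, Nat.Coprime.lcm_eq_mul ((Nat.coprime_primes hs Nat.prime_three).2 hs3)]

theorem OS.adj2 (O : OS S F n ε) (hn : 4 ≤ n) {s : ℕ} (hs : s.Prime) (hs2 : s ≠ 2)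
    (h : wO (Nat.card F) s ≤ n - 2) : ∃ g : S, orderOf g = 2 * s := by
  obtain ⟨δ, hδ, h1⟩ := exists_elt_wO (F := F) hs hs2
  exact O.elt _ (elt2_two (hs.odd_of_ne_two hs2) h1 (wO_pos hs) hδ O.pm (by omega))

/-- **the divisors of `A₀`** -/
theorem OS.adj_A (O : OS S F n ε) (hn : 4 ≤ n) {s : ℕ} (hs : s.Prime)
    (h : s ∣ 24 * Nat.card F ^ (n * (n - 1)) * ∏ i ∈ Finset.range (n - 2), (Nat.card F ^ (2 * (i + 1)) - 1)) :
    s = 2 ∨ s = 3 ∨ ∃ g : S, s * 3 ∣ orderOf g := by
  by_cases hs2 : s = 2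
  · exact Or.inl hs2
  by_cases hs3 : s = 3
  · exact Or.inr (Or.inl hs3)
  right; right
  have hu : 1 ≤ Nat.card F := Nat.card_pos
  refine O.adj3 hn hs hs2 hs3 (wO_le hu hs2 (by omega) ?_)
  rcases hs.dvd_mul.1 h with h | h
  · rcases hs.dvd_mul.1 h with h | h
    · exfalso
      have h1 : s ∣ 2 ^ 3 * 3 := h
      rcases hs.dvd_mul.1 h1 with h1 | h1
      · exact hs2 ((Nat.prime_dvd_prime_iff_eq hs Nat.prime_two).1 (hs.dvd_of_dvd_pow h1))
      · exact hs3 ((Nat.prime_dvd_prime_iff_eq hs Nat.prime_three).1 h1)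
    · exact Or.inl (hs.dvd_of_dvd_pow h)
  · right
    obtain ⟨i, hi, h1⟩ := (Prime.dvd_finsetProd_iff hs.prime _).1 h
    exact ⟨i + 1, by omega, by have := Finset.mem_range.1 hi; omega, h1⟩

/-- primes with small weight -/
theorem OS.adj_even (O : OS S F n ε) (hn : 4 ≤ n) {s : ℕ} (hs : s.Prime) {i : ℕ} (hi : 1 ≤ i) (hi2 : i ≤ n - 2)
    (h : s ∣ Nat.card F ^ (2 * i) - 1) : s = 2 ∨ s = 3 ∨ ∃ g : S, s * 3 ∣ orderOf g := by
  by_cases hs2 : s = 2
  · exact Or.inl hs2
  by_cases hs3 : s = 3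
  · exact Or.inr (Or.inl hs3)
  exact Or.inr (Or.inr (O.adj3 hn hs hs2 hs3 (wO_le Nat.card_pos hs2 (by omega) (Or.inr ⟨i, hi, hi2, h⟩))))

variable [IsSimpleGroup S] (hna : ¬ IsMulCommutative S) {p m : ℕ} {X : Subgroup (MulAut S)} (H : Sit S p m X)
include hna H

/-- the weight of `p` is at least `n - 1` -/
theorem OS.wp (O : OS S F n ε) (hn : 4 ≤ n) : ¬ wO (Nat.card F) p ≤ n - 2 := by
  intro h
  obtain ⟨g, hg⟩ := O.adj2 hn H.hp H.hp2 h
  exact H.not_adj hna (r := 2) le_rfl (g := g) (by rw [hg, mul_comm])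

theorem OS.hpu (O : OS S F n ε) (hn : 4 ≤ n) : ¬ p ∣ Nat.card F := by
  intro h
  exact O.wp hna H hn (wO_le Nat.card_pos H.hp2 (by omega) (Or.inl h))

theorem OS.hp2i (O : OS S F n ε) (hn : 4 ≤ n) {i : ℕ} (hi : 1 ≤ i) (hi2 : i ≤ n - 2) :
    ¬ p ∣ Nat.card F ^ (2 * i) - 1 := fun h =>
  O.wp hna H hn (wO_le Nat.card_pos H.hp2 (by omega) (Or.inr ⟨i, hi, hi2, h⟩))

/-- an isometry of order `N`, `p ∣ N`: `N ∣ 4 p` -/
theorem OS.four (O : OS S F n ε) {N : ℕ} (hN : Elt F n ε N) (hp : p ∣ N) : N ∣ 4 * p := by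
  obtain ⟨o, ho0, ho, hNo⟩ := exists_four hN
  obtain ⟨g, hg⟩ := O.elt o ho
  have h1 : p ∣ 4 * o := hp.trans hNo
  have h2 : p ∣ o := by
    rcases H.hp.dvd_mul.1 h1 with h | h
    · exfalso
      have h3 : p ∣ 2 ^ 2 := h
      exact H.hp2 ((Nat.prime_dvd_prime_iff_eq H.hp Nat.prime_two).1 (H.hp.dvd_of_dvd_pow h3))
    · exact h
  have h3 := H.iso hna (g := g) (by rw [hg]; exact h2)
  rwa [← h3, hg]

/-- the order version of the row criterion -/
theorem OS.use_card (O : OS S F n ε) (hn : 4 ≤ n) {r f : ℕ} (hr : r.Prime) (hf : 1 ≤ f) (hF : Nat.card F = r ^ f)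
    {A B : ℕ} (hB : 0 < B) (hAB : ts (Nat.card F) n ε * (Nat.card F ^ (2 * (n - 1)) - 1) * f ∣ A * B)
    (hA : ∀ s : ℕ, s.Prime → s ∣ A → s = 2 ∨ s = 3 ∨ s = p ∨ ∃ g : S, s * 3 ∣ orderOf g) :
    nn (p ^ m) ∣ B ∧ p ^ m - 1 ≤ 2 * B ∧ p ^ 2 - 1 ≤ 2 * B := by
  refine H.three_card hna (O.h12 hn) O.noncyc (A := (24 * Nat.card F ^ (n * (n - 1)) *
    ∏ i ∈ Finset.range (n - 2), (Nat.card F ^ (2 * (i + 1)) - 1)) * A) (B := B) ?_ hB ?_
  · obtain ⟨c, hc, hcard, -⟩ := O.aut r f hr hf hF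
    rw [hcard]
    have h1 : ∏ i ∈ Finset.range (n - 1), (Nat.card F ^ (2 * (i + 1)) - 1) =
        (∏ i ∈ Finset.range (n - 2), (Nat.card F ^ (2 * (i + 1)) - 1)) * (Nat.card F ^ (2 * (n - 1)) - 1) := by
      rw [show n - 1 = (n - 2) + 1 by omega, Finset.prod_range_succ]
    have h2 := O.card
    rw [h1] at h2
    calc c * f * Nat.card S ∣ 24 * f * (Nat.card F ^ (n * (n - 1)) * ts (Nat.card F) n ε *
          ((∏ i ∈ Finset.range (n - 2), (Nat.card F ^ (2 * (i + 1)) - 1)) * (Nat.card F ^ (2 * (n - 1)) - 1))) :=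
        Nat.mul_dvd_mul (Nat.mul_dvd_mul_right hc f) h2
      _ = (24 * Nat.card F ^ (n * (n - 1)) * ∏ i ∈ Finset.range (n - 2), (Nat.card F ^ (2 * (i + 1)) - 1)) *
          (ts (Nat.card F) n ε * (Nat.card F ^ (2 * (n - 1)) - 1) * f) := by ring
      _ ∣ (24 * Nat.card F ^ (n * (n - 1)) * ∏ i ∈ Finset.range (n - 2), (Nat.card F ^ (2 * (i + 1)) - 1)) * (A * B) :=
        Nat.mul_dvd_mul_left _ hAB
      _ = _ := by ring
  · intro s hs h
    rcases hs.dvd_mul.1 h with h | h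
    · rcases O.adj_A hn hs h with h | h | ⟨g, h⟩
      · exact Or.inl h
      · exact Or.inr (Or.inl h)
      · exact Or.inr (Or.inr (Or.inr ⟨g, Or.inl h⟩))
    · rcases hA s hs h with h | h | h | ⟨g, h⟩
      · exact Or.inl h
      · exact Or.inr (Or.inl h)
      · exact Or.inr (Or.inr (Or.inl h))
      · exact Or.inr (Or.inr (Or.inr ⟨g, Or.inl h⟩))

omit [Finite S] [IsSimpleGroup S] hna in
theorem prime_four {s : ℕ} (hs : s.Prime) (h : s ∣ 4 * p) : s = 2 ∨ s = p := by
  rcases hs.dvd_mul.1 h with h | h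
  · left
    have h3 : s ∣ 2 ^ 2 := h
    exact (Nat.prime_dvd_prime_iff_eq hs Nat.prime_two).1 (hs.dvd_of_dvd_pow h3)
  · exact Or.inr ((Nat.prime_dvd_prime_iff_eq hs H.hp).1 h)

/-- **Case I**: `p` divides `u ^ n - ε` -/
theorem OS.case_one (O : OS S F n ε) (hn : 4 ≤ n) (hp : p ∣ ts (Nat.card F) n ε) : False := by
  obtain ⟨r, hrc⟩ := CharP.exists F
  have hr : r.Prime := CharP.char_is_prime F r
  have : Fact r.Prime := ⟨hr⟩
  have hfin := Fintype.ofFinite F
  obtain ⟨f, -, hf⟩ := FiniteField.card F r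
  have hF : Nat.card F = r ^ (f : ℕ) := by rw [Nat.card_eq_fintype_card, hf]
  have hf1 : 1 ≤ (f : ℕ) := f.pos
  generalize (f : ℕ) = f at hF hf1
  have hr2 := hr.two_le
  have hu2 : 2 ≤ Nat.card F := Finite.one_lt_card
  have hN := O.four hna H (elt_ts (F := F) (by omega) O.pm dvd_rfl) hp
  have hfu : f + 1 ≤ Nat.card F := by
    rw [hF]
    have h1 : f < 2 ^ f := Nat.lt_two_pow_self
    have h2 : 2 ^ f ≤ r ^ f := Nat.pow_le_pow_left hr2 f
    omega
  rcases Nat.even_or_odd n with hne | hno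
  · -- `n` even
    rcases O.pm with rfl | rfl
    · rw [ts_one] at hp
      obtain ⟨i, h1, h2, h3⟩ := even_dvd hne (by omega) hp
      exact O.hp2i hna H hn h1 (by omega) h3
    · rw [ts_neg] at hN hp
      have hz : 1 ≤ Nat.card F ^ (n - 1) := Nat.one_le_pow _ _ (by omega)
      have hz2 : 1 < Nat.card F ^ (2 * (n - 1)) := Nat.one_lt_pow (by omega) (by omega)
      have hB : 0 < f * (Nat.card F ^ (2 * (n - 1)) - 1) := Nat.mul_pos (by omega) (by omega)
      have h := O.use_card hna H hn hr hf1 hF (A := 4 * p) (B := f * (Nat.card F ^ (2 * (n - 1)) - 1)) hB (by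
        rw [ts_neg]
        calc (Nat.card F ^ n + 1) * (Nat.card F ^ (2 * (n - 1)) - 1) * f
            = (Nat.card F ^ n + 1) * (f * (Nat.card F ^ (2 * (n - 1)) - 1)) := by ring
          _ ∣ 4 * p * (f * (Nat.card F ^ (2 * (n - 1)) - 1)) := Nat.mul_dvd_mul_right hN _) (by
        intro s hs h
        rcases prime_four H hs h with h | h
        · exact Or.inl h
        · exact Or.inr (Or.inr (Or.inl h)))
      have h3 := h.2.2
      have e1 : Nat.card F ^ (2 * (n - 1)) = (Nat.card F ^ (n - 1)) ^ 2 := by rw [← pow_mul, mul_comm]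
      have e2 : Nat.card F ^ n = Nat.card F * Nat.card F ^ (n - 1) := by
        rw [← pow_succ']
        congr 1
        omega
      rw [e1] at h3
      by_cases hr2' : r = 2
      · subst hr2'
        have hodd : Odd (Nat.card F ^ n + 1) := by
          have : Even (Nat.card F ^ n) := by
            rw [hF, ← pow_mul]
            exact (Nat.even_pow.2 ⟨even_two, by positivity⟩)
          exact this.add_one
        have h4 := le_of_odd H.hp.pos hN hodd
        rw [e2] at h4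
        exact num_b (u := Nat.card F) (c := 1) hf1 hz (by rwa [one_mul]) h3 (by rw [hF]; exact pow_bound_two hf1)
      · have hodd : Odd (Nat.card F) := by
          rw [hF]
          exact (hr.odd_of_ne_two hr2').pow
        have h4 : (Nat.card F ^ n + 1) % 4 = 2 := by
          obtain ⟨c, rfl⟩ := hne
          rw [← two_mul, mul_comm 2 c, pow_mul]
          obtain ⟨k, hk⟩ := hodd.pow (n := c)
          rw [hk]
          have : (2 * k + 1) ^ 2 + 1 = 4 * (k * k + k) + 2 := by ring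
          rw [this]
          omega
        have h5 := le_two_mul H.hp.pos hN h4
        rw [e2] at h5
        exact num_b (c := 2) hf1 hz h5 h3 (by rw [hF]; exact pow_bound_odd (by omega) hf1)
  · -- `n` odd
    have hn5 : 5 ≤ n := by
      obtain ⟨c, rfl⟩ := hno
      omega
    have hy : 16 ≤ Nat.card F ^ (n - 1) := by
      calc 16 = 2 ^ 4 := rfl
        _ ≤ Nat.card F ^ 4 := Nat.pow_le_pow_left hu2 4
        _ ≤ Nat.card F ^ (n - 1) := Nat.pow_le_pow_right (by omega) (by omega)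
    have h := O.use_card hna H hn hr hf1 hF (A := 4 * p * (Nat.card F ^ (n - 1) - 1)) (B := f * (Nat.card F ^ (n - 1) + 1))
      (Nat.mul_pos (by omega) (by omega)) (by
      rw [pow_two_mul_sub]
      calc ts (Nat.card F) n ε * ((Nat.card F ^ (n - 1) - 1) * (Nat.card F ^ (n - 1) + 1)) * f
          = ts (Nat.card F) n ε * ((Nat.card F ^ (n - 1) - 1) * (f * (Nat.card F ^ (n - 1) + 1))) := by ring
        _ ∣ 4 * p * ((Nat.card F ^ (n - 1) - 1) * (f * (Nat.card F ^ (n - 1) + 1))) := Nat.mul_dvd_mul_right hN _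
        _ = _ := by ring) (by
      intro s hs h
      rcases hs.dvd_mul.1 h with h | h
      · rcases prime_four H hs h with h | h
        · exact Or.inl h
        · exact Or.inr (Or.inr (Or.inl h))
      · obtain ⟨i, h1, h2, h3⟩ := even_dvd (k := n - 1) (by
          obtain ⟨c, rfl⟩ := hno
          exact ⟨c, by omega⟩) (by omega) h
        rcases O.adj_even hn hs h1 (by omega) h3 with h | h | h
        · exact Or.inl h
        · exact Or.inr (Or.inl h)
        · exact Or.inr (Or.inr (Or.inr h)))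
    have e2 : Nat.card F ^ n = Nat.card F * Nat.card F ^ (n - 1) := by
      rw [← pow_succ']
      congr 1
      omega
    have h4 : Nat.card F * Nat.card F ^ (n - 1) ≤ 4 * p + 1 := by
      have h5 := Nat.le_of_dvd (by have := H.hp.pos; omega) hN
      rw [← e2]
      rcases O.pm with rfl | rfl
      · rw [ts_one] at h5; omega
      · rw [ts_neg] at h5; omega
    exact num_a hu2 hfu hy h4 h.2.2

/-- the block of the plane: `u - ε δ ∈ {1, 2}` -/
theorem OS.plane (O : OS S F n ε) (hn : 4 ≤ n) {δ : ℤ} (hδ : δ = 1 ∨ δ = -1) (hp : p ∣ ts (Nat.card F) (n - 1) δ) :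
    δ = ε ∧ (Nat.card F = 2 ∨ Nat.card F = 3) := by
  have hu2 : 2 ≤ Nat.card F := Finite.one_lt_card
  set M := ts (Nat.card F) 1 (δ * ε) with hM
  have hδε := mul_pm hδ O.pm
  have hpM : ¬ p ∣ M := by
    intro h
    exact O.hp2i hna H hn (i := 1) le_rfl (by omega) (h.trans (ts_dvd hδε))
  have hE1 : Elt F (n - 1) δ p := elt_ts (by omega) hδ hp
  have hE2 : Elt F 1 (δ * ε) M := elt_ts le_rfl hδε dvd_rfl
  have hpodd : Odd p := H.hp.odd_of_ne_two H.hp2
  have hM12 : M = 1 ∨ M = 2 := by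
    rcases Nat.even_or_odd M with he | ho
    · right
      obtain ⟨M', hM'⟩ := he
      have h1 := Elt.prod_two (by omega) hpodd hE1 hE2 (by rw [hM']; exact ⟨M', rfl⟩)
      rw [← mul_assoc, sq_pm hδ, one_mul, show n - 1 + 1 = n by omega, show M / 2 = M' by omega] at h1
      obtain ⟨g, hg⟩ := O.elt _ h1
      have h2 := H.iso hna (g := g) (by rw [hg]; exact Nat.dvd_lcm_left _ _)
      rw [hg] at h2
      have h3 : M' ∣ p := by rw [← h2]; exact Nat.dvd_lcm_right _ _
      rcases (Nat.dvd_prime H.hp).1 h3 with h4 | h4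
      · omega
      · exfalso
        apply hpM
        rw [hM', h4]
        exact ⟨2, by ring⟩
    · left
      have h1 : Elt2 F n ε (Nat.lcm p M) := by
        refine elt2_prod (by omega) (show n - 1 ≤ n by omega) hδ hE1 ?_ hpodd ho
        rwa [show n - (n - 1) = 1 by omega]
      obtain ⟨g, hg⟩ := O.elt _ h1
      have h2 := H.iso hna (g := g) (by rw [hg]; exact Nat.dvd_lcm_left _ _)
      rw [hg] at h2
      have h3 : M ∣ p := by rw [← h2]; exact Nat.dvd_lcm_right _ _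
      rcases (Nat.dvd_prime H.hp).1 h3 with h4 | h4
      · exact h4
      · exact absurd (dvd_of_eq h4.symm) hpM
  rcases hδε with h | h
  · rw [h, ts_one, pow_one] at hM
    refine ⟨?_, by omega⟩
    rcases hδ with rfl | rfl
    · rw [one_mul] at h; exact h.symm
    · rw [neg_one_mul] at h; linarith
  · rw [h, ts_neg, pow_one] at hM
    omega

theorem OS.case_two (O : OS S F n ε) (hn : 4 ≤ n) (hp1 : ¬ p ∣ ts (Nat.card F) n ε)
    (hp : p ∣ ts (Nat.card F) (n - 1) ε) (hu : Nat.card F = 2 ∨ Nat.card F = 3) : False := by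
  have hN : ts (Nat.card F) (n - 1) ε ∣ 4 * p := by
    refine O.four hna H ?_ hp
    have h1 := (elt_ts (F := F) (k := n - 1) (by omega) O.pm dvd_rfl).prod (elt_one (F := F) 1)
    rwa [mul_one, Nat.lcm_one_right, show n - 1 + 1 = n by omega] at h1
  have hpn : ∀ i, 1 ≤ i → 2 * i ≤ n - 1 → ¬ p ∣ Nat.card F ^ (2 * i) - 1 := fun i h1 h2 => O.hp2i hna H hn h1 (by omega)
  have hx : ts (Nat.card F) (n - 1) ε * ts (Nat.card F) (n - 1) (-ε) = Nat.card F ^ (2 * (n - 1)) - 1 := ts_mul _ _ O.pm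
  have hpos := H.hp.pos
  rcases hu with hu | hu
  · -- `u = 2`
    have hF : Nat.card F = 2 ^ 1 := by rw [hu, pow_one]
    have h := O.use_card hna H hn Nat.prime_two le_rfl hF
      (A := 4 * p * ts (Nat.card F) (n - 1) (-ε)) (B := ts (Nat.card F) n ε) (by
      rw [hu]
      have := Nat.one_lt_pow (n := n) (by omega) (show 1 < 2 by norm_num)
      rcases O.pm with rfl | rfl
      · rw [ts_one]; omega
      · rw [ts_neg]; omega) (by
      rw [mul_one, ← hx]
      calc ts (Nat.card F) n ε * (ts (Nat.card F) (n - 1) ε * ts (Nat.card F) (n - 1) (-ε))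
          = ts (Nat.card F) (n - 1) ε * (ts (Nat.card F) (n - 1) (-ε) * ts (Nat.card F) n ε) := by ring
        _ ∣ 4 * p * (ts (Nat.card F) (n - 1) (-ε) * ts (Nat.card F) n ε) := Nat.mul_dvd_mul_right hN _
        _ = _ := by ring) (by
      intro s hs h
      rcases hs.dvd_mul.1 h with h | h
      · rcases prime_four H hs h with h | h
        · exact Or.inl h
        · exact Or.inr (Or.inr (Or.inl h))
      · by_cases hs2 : s = 2
        · exact Or.inl hs2
        by_cases hs3 : s = 3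
        · exact Or.inr (Or.inl hs3)
        right; right; right
        have hnε : -ε = 1 ∨ -ε = -1 := by
          rcases O.pm with rfl | rfl
          · right; rfl
          · left; rfl
        have h1 : Elt F (n - 1) (-ε) s := elt_ts (by omega) hnε h
        have h2 : Elt F (n - (n - 1)) (-ε * ε) 3 := by
          rw [show n - (n - 1) = 1 by omega, neg_mul, sq_pm O.pm]
          exact elt_ell (by rw [hu])
        obtain ⟨g, hg⟩ := O.elt _ (elt2_prod (by omega) (by omega) hnε h1 h2 (hs.odd_of_ne_two hs2) (by decide))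
        refine ⟨g, ?_⟩
        rw [hg, Nat.Coprime.lcm_eq_mul ((Nat.coprime_primes hs Nat.prime_three).2 hs3)])
    have h3 := h.2.2
    have e2 : 2 ^ n = 2 * 2 ^ (n - 1) := by
      rw [← pow_succ']
      congr 1
      omega
    have hy : 8 ≤ 2 ^ (n - 1) := by
      calc 8 = 2 ^ 3 := rfl
        _ ≤ 2 ^ (n - 1) := Nat.pow_le_pow_right (by norm_num) (by omega)
    have heven : Even (2 ^ (n - 1)) := Nat.even_pow.2 ⟨even_two, by omega⟩
    have hpx : 2 ^ (n - 1) ≤ p + 1 := by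
      rw [hu] at hN
      rcases O.pm with rfl | rfl
      · rw [ts_one] at hN
        have := le_of_odd hpos hN (Nat.Even.sub_odd (by omega) heven odd_one)
        omega
      · rw [ts_neg] at hN
        have := le_of_odd hpos hN heven.add_one
        omega
    have hts : ts (Nat.card F) n ε ≤ 2 * 2 ^ (n - 1) + 1 := by
      rw [hu]
      rcases O.pm with rfl | rfl
      · rw [ts_one, e2]; omega
      · rw [ts_neg, e2]
    generalize 2 ^ (n - 1) = x at *
    have h5 : p ^ 2 ≤ 4 * x + 3 := by omega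
    obtain ⟨y, rfl⟩ : ∃ y, x = y + 8 := ⟨x - 8, by omega⟩
    have h6 : (y + 7) ^ 2 ≤ p ^ 2 := Nat.pow_le_pow_left (by omega) 2
    have h7 : (y + 7) ^ 2 = y ^ 2 + 14 * y + 49 := by ring
    omega
  · -- `u = 3`
    have hF : Nat.card F = 3 ^ 1 := by rw [hu, pow_one]
    have e2 : 3 ^ n = 3 * 3 ^ (n - 1) := by
      rw [← pow_succ']
      congr 1
      omega
    have hy : 27 ≤ 3 ^ (n - 1) := by
      calc 27 = 3 ^ 3 := rfl
        _ ≤ 3 ^ (n - 1) := Nat.pow_le_pow_right (by norm_num) (by omega)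
    rcases O.pm with rfl | rfl
    · -- `ε = 1`, `n` even
      rw [ts_one] at hp hN
      rcases Nat.even_or_odd n with hne | hno
      swap
      · obtain ⟨i, h1, h2, h3⟩ := even_dvd (k := n - 1) (by
          obtain ⟨c, rfl⟩ := hno
          exact ⟨c, by omega⟩) (by omega) hp
        exact hpn i h1 (by omega) h3
      have h := O.use_card hna H hn Nat.prime_three le_rfl hF
        (A := 4 * p * (Nat.card F ^ n - 1)) (B := Nat.card F ^ (n - 1) + 1) (by omega) (by
        rw [mul_one, pow_two_mul_sub, ts_one]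
        calc (Nat.card F ^ n - 1) * ((Nat.card F ^ (n - 1) - 1) * (Nat.card F ^ (n - 1) + 1))
            = (Nat.card F ^ (n - 1) - 1) * ((Nat.card F ^ n - 1) * (Nat.card F ^ (n - 1) + 1)) := by ring
          _ ∣ 4 * p * ((Nat.card F ^ n - 1) * (Nat.card F ^ (n - 1) + 1)) := Nat.mul_dvd_mul_right hN _
          _ = _ := by ring) (by
        intro s hs h
        rcases hs.dvd_mul.1 h with h | h
        · rcases prime_four H hs h with h | h
          · exact Or.inl h
          · exact Or.inr (Or.inr (Or.inl h))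
        · obtain ⟨i, h1, h2, h3⟩ := even_dvd hne (by omega) h
          rcases O.adj_even hn hs h1 (by omega) h3 with h | h | h
          · exact Or.inl h
          · exact Or.inr (Or.inl h)
          · exact Or.inr (Or.inr (Or.inr h)))
      have h3 := h.2.2
      rw [hu] at h3 hN
      have hmod : (3 ^ (n - 1) - 1) % 4 = 2 := by
        obtain ⟨c, hc⟩ := hne
        rw [show n - 1 = 2 * (c - 1) + 1 by omega, pow_succ, pow_mul]
        have : 3 ^ 2 = 8 * 1 + 1 := rfl
        have h9 : (3 ^ 2) ^ (c - 1) % 8 = 1 := by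
          rw [Nat.pow_mod]; norm_num
        omega
      have h5 := le_two_mul hpos hN hmod
      generalize 3 ^ (n - 1) = x at *
      have h5' : p ^ 2 ≤ 2 * (x + 1) + 1 := by omega
      obtain ⟨y, rfl⟩ : ∃ y, x = y + 27 := ⟨x - 27, by omega⟩
      have h6 : (y + 26) ^ 2 ≤ (2 * p) ^ 2 := Nat.pow_le_pow_left (by omega) 2
      have h7 : (y + 26) ^ 2 = y ^ 2 + 52 * y + 676 := by ring
      have h8 : (2 * p) ^ 2 = 4 * p ^ 2 := by ring
      omega
    · rw [ts_neg] at hp hN
      rcases Nat.even_or_odd n with hne | hno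
      · -- `n` even
        obtain ⟨x, hxX, hxo, hle, hs⟩ := H.three hna (O.h12 hn) O.noncyc
        obtain ⟨c, -, hcard, hc4⟩ := O.aut 3 1 Nat.prime_three le_rfl hF
        rw [hc4 rfl rfl rfl hne] at hcard
        -- the index of the inner automorphisms
        have hinj := Sit.conj_inj (S := S) hna
        have hcr : Nat.card (MulAut.conj : S →* MulAut S).range = Nat.card S :=
          (Nat.card_congr (Equiv.ofInjective _ hinj)).symm
        have hidx : (MulAut.conj : S →* MulAut S).range.index = 4 := by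
          have h1 := (MulAut.conj : S →* MulAut S).range.card_mul_index
          rw [hcr, hcard] at h1
          have h2 : 0 < Nat.card S := Nat.card_pos
          exact Nat.eq_of_mul_eq_mul_left h2 (by rw [h1]; ring)
        have hnorm : (MulAut.conj : S →* MulAut S).range.Normal := by
          constructor
          rintro _ ⟨g, rfl⟩ a
          refine ⟨a g, ?_⟩
          apply MulEquiv.ext
          intro w
          change a g * w * (a g)⁻¹ = a (MulAut.conj g (a⁻¹ w))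
          rw [MulAut.conj_apply, map_mul, map_mul, map_inv]
          have : a (a⁻¹ w) = w := by
            rw [← MulAut.mul_apply, mul_inv_cancel, MulAut.one_apply]
          rw [this]
        have hx4 : x ^ 4 ∈ (MulAut.conj : S →* MulAut S).range := by
          rw [← hidx]
          exact Subgroup.pow_index_mem _ x
        obtain ⟨g, hg⟩ := hx4
        have hodd := nn_odd H.odd
        have hgo : orderOf g = nn (p ^ m) := by
          rw [← Sit.orderOf_conj hna g, hg, ← hxo]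
          apply Nat.Coprime.orderOf_pow
          rw [hxo]
          have : (nn (p ^ m)).Coprime (2 ^ 2) := Nat.Coprime.pow_right 2 (Nat.coprime_two_right.2 (Nat.odd_iff.2 hodd))
          exact this
        have hmeo := O.meo g
        rw [hgo, hu] at hmeo
        have hq : p ^ m ≤ 3 ^ (n + 1) + 1 := by
          have : (3 - 1) * nn (p ^ m) = 2 * nn (p ^ m) := rfl
          omega
        have e3 : 3 ^ (n + 1) = 9 * 3 ^ (n - 1) := by
          rw [pow_succ, e2]
          ring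
        rw [e3] at hq
        rw [hu] at hN
        have h5 : 3 ^ (n - 1) + 1 ≤ 4 * p := Nat.le_of_dvd (by omega) hN
        have hsq := H.sq_le
        by_cases hn4 : n = 4
        · subst hn4
          have h7 : 7 ∣ 4 * p := (by norm_num : 7 ∣ 3 ^ (4 - 1) + 1).trans hN
          have h7p : 7 ∣ p := (Nat.Coprime.dvd_of_dvd_mul_left (by norm_num) h7)
          have hp7 : p = 7 := ((Nat.prime_dvd_prime_iff_eq (by norm_num) H.hp).1 h7p).symm
          subst hp7
          have hm2 : m = 2 := by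
            by_contra hcon
            have h1 : 3 ≤ m := by have := H.hm; omega
            have h2 : 7 ^ 3 ≤ 7 ^ m := Nat.pow_le_pow_right (by norm_num) h1
            omega
          subst hm2
          have h5n : 5 ∣ nn (7 ^ 2) := by decide
          obtain ⟨-, -, -, h6⟩ := hs 5 (by norm_num) h5n
          obtain ⟨g', hg'⟩ := O.adj3 (by norm_num) (s := 5) (by norm_num) (by norm_num) (by norm_num)
            (wO_le (by omega) (by norm_num) (by norm_num) (Or.inr ⟨2, by norm_num, le_rfl, by rw [hu]; norm_num⟩))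
          exact (h6 g').1 hg'
        · have hy' : 243 ≤ 3 ^ (n - 1) := by
            have hn6 : 6 ≤ n := by
              obtain ⟨c, hc⟩ := hne
              omega
            calc 243 = 3 ^ 5 := rfl
              _ ≤ 3 ^ (n - 1) := Nat.pow_le_pow_right (by norm_num) (by omega)
          generalize 3 ^ (n - 1) = x at *
          obtain ⟨y, rfl⟩ : ∃ y, x = y + 243 := ⟨x - 243, by omega⟩
          have h6 : (y + 244) ^ 2 ≤ (4 * p) ^ 2 := Nat.pow_le_pow_left (by omega) 2
          have h7 : (y + 244) ^ 2 = y ^ 2 + 488 * y + 59536 := by ring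
          have h8 : (4 * p) ^ 2 = 16 * p ^ 2 := by ring
          omega
      · -- `n` odd
        have h := O.use_card hna H hn Nat.prime_three le_rfl hF
          (A := 4 * p * (Nat.card F ^ (n - 1) - 1)) (B := Nat.card F ^ n + 1) (by omega) (by
          rw [mul_one, pow_two_mul_sub, ts_neg]
          calc (Nat.card F ^ n + 1) * ((Nat.card F ^ (n - 1) - 1) * (Nat.card F ^ (n - 1) + 1))
              = (Nat.card F ^ (n - 1) + 1) * ((Nat.card F ^ (n - 1) - 1) * (Nat.card F ^ n + 1)) := by ring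
            _ ∣ 4 * p * ((Nat.card F ^ (n - 1) - 1) * (Nat.card F ^ n + 1)) := Nat.mul_dvd_mul_right hN _
            _ = _ := by ring) (by
          intro s hs h
          rcases hs.dvd_mul.1 h with h | h
          · rcases prime_four H hs h with h | h
            · exact Or.inl h
            · exact Or.inr (Or.inr (Or.inl h))
          · obtain ⟨i, h1, h2, h3⟩ := even_dvd (k := n - 1) (by
              obtain ⟨c, rfl⟩ := hno
              exact ⟨c, by omega⟩) (by omega) h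
            rcases O.adj_even hn hs h1 (by omega) h3 with h | h | h
            · exact Or.inl h
            · exact Or.inr (Or.inl h)
            · exact Or.inr (Or.inr (Or.inr h)))
        have h3 := h.2.2
        rw [hu] at h3 hN
        rw [e2] at h3
        have hmod : (3 ^ (n - 1) + 1) % 4 = 2 := by
          obtain ⟨c, hc⟩ := hno
          rw [show n - 1 = 2 * c by omega, pow_mul]
          have h9 : (3 ^ 2) ^ c % 8 = 1 := by
            rw [Nat.pow_mod]; norm_num
          omega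
        have h5 := le_two_mul hpos hN hmod
        have hy' : 81 ≤ 3 ^ (n - 1) := by
          have hn5 : 5 ≤ n := by
            obtain ⟨c, hc⟩ := hno
            omega
          calc 81 = 3 ^ 4 := rfl
            _ ≤ 3 ^ (n - 1) := Nat.pow_le_pow_right (by norm_num) (by omega)
        generalize 3 ^ (n - 1) = x at *
        have h5' : p ^ 2 ≤ 2 * (3 * x + 1) + 1 := by omega
        obtain ⟨y, rfl⟩ : ∃ y, x = y + 81 := ⟨x - 81, by omega⟩
        have h6 : (y + 82) ^ 2 ≤ (2 * p) ^ 2 := Nat.pow_le_pow_left (by omega) 2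
        have h7 : (y + 82) ^ 2 = y ^ 2 + 164 * y + 6724 := by ring
        have h8 : (2 * p) ^ 2 = 4 * p ^ 2 := by ring
        omega

/-- **the row** -/
theorem OS.kill (O : OS S F n ε) (hn : 4 ≤ n) : False := by
  by_cases hp1 : p ∣ ts (Nat.card F) n ε
  · exact O.case_one hna H hn hp1
  have hpu := O.hpu hna H hn
  have hu : 1 ≤ Nat.card F := Nat.card_pos
  have h := H.dvd.trans O.card
  rcases H.hp.dvd_mul.1 h with h | h
  · rcases H.hp.dvd_mul.1 h with h | h
    · exact hpu (H.hp.dvd_of_dvd_pow h)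
    · exact hp1 h
  · obtain ⟨i, hi, h1⟩ := (Prime.dvd_finsetProd_iff H.hp.prime _).1 h
    have hi' := Finset.mem_range.1 hi
    have hi2 : i + 1 = n - 1 := by
      by_contra hcon
      exact O.hp2i hna H hn (i := i + 1) (by omega) (by omega) h1
    rw [hi2, ← ts_mul (Nat.card F) (n - 1) (Or.inl rfl : (1 : ℤ) = 1 ∨ (1 : ℤ) = -1)] at h1
    rcases H.hp.dvd_mul.1 h1 with h2 | h2
    · obtain ⟨h3, h4⟩ := O.plane hna H hn (Or.inl rfl) h2
      rw [h3] at h2
      exact O.case_two hna H hn hp1 h2 h4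
    · obtain ⟨h3, h4⟩ := O.plane hna H hn (δ := -1) (Or.inr rfl) h2
      rw [h3] at h2
      exact O.case_two hna H hn hp1 h2 h4

end main

section inst

variable {F : Type} [Field F] [Fintype F] {n : ℕ}

theorem data_plus (hn : 4 ≤ n) : Cfsg.Agent.H390.Lift.Data (plusForm n F) := by
  have hc : Fintype.card (Fin n ⊕ Fin n) = 2 * n := by
    rw [Fintype.card_sum, Fintype.card_fin]; ring
  refine Cfsg.Agent.H390.data_of _ (nondegenerate_of_nondeg (nondeg_plusForm n F)) (by omega)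
    ⟨Pi.single (Sum.inl ⟨0, by omega⟩) 1, ?_, ?_⟩ (Or.inr (by omega))
  · intro h
    have := congrFun h (Sum.inl ⟨0, by omega⟩)
    simp at this
  · rw [coe_plusForm, quadFormPlus_apply]
    simp

theorem data_minus (hn : 4 ≤ n) {a b : F} (hab : ∀ z₁ z₂ : F, z₁ ^ 2 + a * z₁ * z₂ + b * z₂ ^ 2 = 0 → z₁ = 0 ∧ z₂ = 0) :
    Cfsg.Agent.H390.Lift.Data (minusForm (n - 1) F a b) := by
  have hc : Fintype.card ((Fin (n - 1) ⊕ Fin (n - 1)) ⊕ Fin 2) = 2 * n := by
    rw [Fintype.card_sum, Fintype.card_sum, Fintype.card_fin, Fintype.card_fin]; omega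
  refine Cfsg.Agent.H390.data_of _ (nondegenerate_of_nondeg (nondeg_minusForm (n - 1) F a b hab)) (by omega)
    ⟨Pi.single (Sum.inl (Sum.inl ⟨0, by omega⟩)) 1, ?_, ?_⟩ (Or.inr (by omega))
  · intro h
    have := congrFun h (Sum.inl (Sum.inl ⟨0, by omega⟩))
    simp at this
  · rw [coe_minusForm, quadFormMinus_apply]
    simp

theorem os_plus (hn : 4 ≤ n) : OS (POmega F (quadFormPlus n F)) F n 1 where
  pm := Or.inl rfl
  elt := fun N h => h.plus hn
  noncyc := by
    have h2 : Elt F 2 1 3 := elt_three le_rfl (Or.inl rfl)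
    have h3 : Elt F (n - 2) 1 3 := elt_three (by omega) (Or.inl rfl)
    rw [← coe_plusForm]
    refine noncyclic_of_elt (data_plus hn) h2 h3 fun R hR hs => ?_
    have hfr : Module.finrank F ((Fin (2 * 2) → F) × (Fin (2 * (n - 2)) → F)) = 2 * n := by
      rw [Module.finrank_prod, Module.finrank_fin_fun, Module.finrank_fin_fun]
      omega
    rw [one_mul, show 2 + (n - 2) = n by omega] at hs
    rw [coe_plusForm]
    exact exists_plus (by omega) hfr R hR hs
  card := by
    have h := Cfsg.Agent.S0293.result (F := F) (q := Nat.card F) Nat.card_eq_fintype_card.symm n hn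
    rw [ts_one]
    exact Dvd.intro_left _ h
  aut := by
    intro r f hr hf hF
    have := Fact.mk hr
    have h := Cfsg.Agent.S0817.result (F := F) r f hf (by rw [← Nat.card_eq_fintype_card, hF]) n hn
    refine ⟨_, ?_, h, fun h1 => absurd h1 (by decide)⟩
    split_ifs <;> decide
  meo := by
    intro g
    rw [Nat.card_eq_fintype_card]
    exact (Cfsg.Agent.S2265.result (F := F) n).2.1 hn g

theorem os_minus (hn : 4 ≤ n) {a b : F} (hab : ∀ z₁ z₂ : F, z₁ ^ 2 + a * z₁ * z₂ + b * z₂ ^ 2 = 0 → z₁ = 0 ∧ z₂ = 0) :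
    OS (POmega F (quadFormMinus (n - 1) F a b)) F n (-1) where
  pm := Or.inr rfl
  elt := fun N h => h.minus hn hab
  noncyc := by
    have h2 : Elt F 2 (-1) 3 := elt_three le_rfl (Or.inr rfl)
    have h3 : Elt F (n - 2) 1 3 := elt_three (by omega) (Or.inl rfl)
    rw [← coe_minusForm]
    refine noncyclic_of_elt (data_minus hn hab) h2 h3 fun R hR hs => ?_
    have hfr : Module.finrank F ((Fin (2 * 2) → F) × (Fin (2 * (n - 2)) → F)) = 2 * n := by
      rw [Module.finrank_prod, Module.finrank_fin_fun, Module.finrank_fin_fun]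
      omega
    rw [mul_one, show 2 + (n - 2) = n by omega] at hs
    rw [coe_minusForm]
    exact exists_minus (by omega) hfr R hR hs hab
  card := by
    have h := Cfsg.Agent.S0294.result (F := F) (q := Nat.card F) Nat.card_eq_fintype_card.symm n hn a b hab
    rw [ts_neg]
    exact Dvd.intro_left _ h
  aut := by
    intro r f hr hf hF
    have := Fact.mk hr
    have h := Cfsg.Agent.S0818.result (F := F) r f hf (by rw [← Nat.card_eq_fintype_card, hF]) n hn a b hab
    refine ⟨_, ?_, h, ?_⟩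
    · split_ifs <;> decide
    · rintro - rfl rfl hne
      rw [if_neg (by norm_num), if_pos]
      have : n * (3 ^ 1 - 1) / 2 = n := by omega
      rw [this]
      exact hne
  meo := by
    intro g
    rw [Nat.card_eq_fintype_card]
    exact (Cfsg.Agent.S2265.result (F := F) n).2.2 hn a b hab g

end inst

/-- **Row `PΩ⁺_{2n}(u)`, `n ≥ 4`** -/
theorem row_oplus {S : Type*} [Group S] [Finite S] [IsSimpleGroup S] (hna : ¬ IsMulCommutative S) {p m : ℕ}
    {X : Subgroup (MulAut S)} (H : Sit S p m X) {F : Type} [Field F] [Fintype F] {n : ℕ} (hn : 4 ≤ n)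
    (e : S ≃* POmega F (quadFormPlus n F)) : False := by
  have hT : IsSimpleGroup (POmega F (quadFormPlus n F)) := by
    have := e.symm.toEquiv.nontrivial
    exact IsSimpleGroup.isSimpleGroup_of_surjective e.toMonoidHom e.surjective
  have hnT : ¬ IsMulCommutative (POmega F (quadFormPlus n F)) := fun h =>
    hna ⟨⟨fun a b => e.injective (by rw [map_mul, map_mul]; exact h.is_comm.comm _ _)⟩⟩
  exact (os_plus hn).kill hnT (H.congr e) hn

/-- **Row `PΩ⁻_{2n}(u)`, `n ≥ 4`** -/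
theorem row_ominus {S : Type*} [Group S] [Finite S] [IsSimpleGroup S] (hna : ¬ IsMulCommutative S) {p m : ℕ}
    {X : Subgroup (MulAut S)} (H : Sit S p m X) {F : Type} [Field F] [Fintype F] {n : ℕ} (hn : 4 ≤ n) {a b : F}
    (hab : ∀ z₁ z₂ : F, z₁ ^ 2 + a * z₁ * z₂ + b * z₂ ^ 2 = 0 → z₁ = 0 ∧ z₂ = 0)
    (e : S ≃* POmega F (quadFormMinus (n - 1) F a b)) : False := by
  have hT : IsSimpleGroup (POmega F (quadFormMinus (n - 1) F a b)) := by
    have := e.symm.toEquiv.nontrivial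
    exact IsSimpleGroup.isSimpleGroup_of_surjective e.toMonoidHom e.surjective
  have hnT : ¬ IsMulCommutative (POmega F (quadFormMinus (n - 1) F a b)) := fun h =>
    hna ⟨⟨fun a b => e.injective (by rw [map_mul, map_mul]; exact h.is_comm.comm _ _)⟩⟩
  exact (os_minus hn hab).kill hnT (H.congr e) hn

end Cfsg.Agent.H424.PglOrth
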