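import Cfsg.Agent.H614.AMod.NineB
import Cfsg.Agent.H614.AMod.Ten
import Cfsg.Agent.H964.AltMod.Mat
import Cfsg.Agent.H825.SpinForm
import Cfsg.Agent.H6.M11.Lin
import Cfsg.Agent.H911.Eig
import Mathlib.GroupTheory.SpecificGroups.Alternating.Centralizer
import Mathlib.GroupTheory.Perm.Cycle.Concrete

/-!
# `A₉`, `A₁₀`, `A₁₁` in dimension eight, characteristic two (helper424)

* `real_or` : `x ∈ A₉` is conjugate to its inverse, or conjugate in `S₉` to `x₀ = (0 1 2)(3 4 5 6 7)`;
* `key` : if `3`-cycles are fixed point free, characteristic two, dimension eight, then `tr x₀⁻¹ = tr x₀`;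
* `alt_two_sd` : `SD P`.
-/

set_option autoImplicit false
set_option linter.unusedSectionVars false
set_option maxRecDepth 10000

namespace Cfsg.Agent.H424.AltTwo

open Equiv Equiv.Perm Matrix Module

universe u

/-! ### conjugacy -/

theorem type_cases {g : Perm (Fin 9)} (hz : Subgroup.centralizer {g} ≤ alternatingGroup (Fin 9)) :
    g.cycleType = {9} ∨ g.cycleType = {5, 3} := by
  obtain ⟨h1, h2, h3⟩ := centralizer_le_alternating_iff.1 hz
  rw [Fintype.card_fin] at h2
  have hle := g.sum_cycleType_le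
  rw [Fintype.card_fin] at hle
  have h2le : ∀ a ∈ g.cycleType, 2 ≤ a := fun a ha => two_le_of_mem_cycleType ha
  rw [← Multiset.nodup_iff_count_le_one] at h3
  generalize g.cycleType = m at *
  obtain ⟨a, ha⟩ : ∃ a, a ∈ m := by
    by_contra hcon
    push Not at hcon
    rw [Multiset.eq_zero_of_forall_notMem hcon, Multiset.sum_zero] at h2
    omega
  obtain ⟨m', rfl⟩ := Multiset.exists_cons_of_mem ha
  have hao := h1 a ha
  have ha2 := h2le a ha
  rw [Multiset.sum_cons] at h2 hle
  rw [Multiset.nodup_cons] at h3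
  rcases Nat.eq_zero_or_pos (Multiset.card m') with hc | hc
  · rw [Multiset.card_eq_zero] at hc
    subst hc
    rw [Multiset.sum_zero] at h2 hle
    obtain ⟨k, hk⟩ := hao
    left
    have : a = 9 := by omega
    rw [this]
    rfl
  · obtain ⟨b, hb⟩ := Multiset.card_pos_iff_exists_mem.1 hc
    obtain ⟨m'', rfl⟩ := Multiset.exists_cons_of_mem hb
    have hbo := h1 b (Multiset.mem_cons_of_mem hb)
    have hb2 := h2le b (Multiset.mem_cons_of_mem hb)
    have hne : a ≠ b := by
      rintro rfl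
      exact h3.1 hb
    rw [Multiset.sum_cons] at h2 hle
    obtain ⟨k, hk⟩ := hao
    obtain ⟨l, hl⟩ := hbo
    have hm'' : m'' = 0 := by
      by_contra hcon
      obtain ⟨c, hc⟩ := Multiset.exists_mem_of_ne_zero hcon
      have hco := h1 c (Multiset.mem_cons_of_mem (Multiset.mem_cons_of_mem hc))
      have hc2 := h2le c (Multiset.mem_cons_of_mem (Multiset.mem_cons_of_mem hc))
      have hcs : c ≤ m''.sum := Multiset.le_sum_of_mem hc
      obtain ⟨j, hj⟩ := hco
      omega
    subst hm''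
    rw [Multiset.sum_zero] at h2 hle
    right
    have h5 : (a = 5 ∧ b = 3) ∨ (a = 3 ∧ b = 5) := by omega
    rcases h5 with ⟨rfl, rfl⟩ | ⟨rfl, rfl⟩
    · rfl
    · exact Multiset.cons_swap 3 5 0

/-- `(0 1 2)` -/
def c0 : alternatingGroup (Fin 9) := ⟨swap 0 1 * swap 1 2, by rw [mem_alternatingGroup]; decide⟩

/-- `(3 4 5 6 7)` -/
def h0 : alternatingGroup (Fin 9) := ⟨swap 3 4 * swap 4 5 * swap 5 6 * swap 6 7, by rw [mem_alternatingGroup]; decide⟩

/-- `(3 4 5)` -/
def c1 : alternatingGroup (Fin 9) := ⟨swap 3 4 * swap 4 5, by rw [mem_alternatingGroup]; decide⟩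

def u0 : alternatingGroup (Fin 9) := ⟨swap 4 7 * swap 5 6, by rw [mem_alternatingGroup]; decide⟩

def y0 : alternatingGroup (Fin 9) :=
  ⟨swap 4 5 * swap 5 7 * swap 7 6 * swap 0 1, by rw [mem_alternatingGroup]; decide⟩

theorem c0_pow : c0 ^ 3 = 1 := by decide +kernel

theorem c1_pow : c1 ^ 3 = 1 := by decide +kernel

theorem h0_pow : h0 ^ 5 = 1 := by decide +kernel

theorem trick : c1 ^ 2 = h0 ^ 2 * c1 * h0 ^ 2 := by decide +kernel

theorem y0_conj : y0 * h0 * y0⁻¹ = h0 ^ 2 := by decide +kernel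

theorem u0_conj : u0 * (c0 * h0) * u0⁻¹ = h0⁻¹ * c0 := by decide +kernel

theorem u0_conj' : u0 * h0 * u0⁻¹ = h0⁻¹ := by decide +kernel

/-- `(0 1 2)(3 4 5 6 7)` -/
theorem type_x0 : ((c0 * h0 : alternatingGroup (Fin 9)) : Perm (Fin 9)).cycleType = {5, 3} := by
  have h1 : ((c0 * h0 : alternatingGroup (Fin 9)) : Perm (Fin 9)) =
      List.formPerm [0, 1, 2] * List.formPerm [3, 4, 5, 6, 7] := by decide +kernel
  have hd : Disjoint (List.formPerm [(0 : Fin 9), 1, 2]) (List.formPerm [3, 4, 5, 6, 7]) := by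
    rw [List.formPerm_disjoint_iff (by decide) (by decide) (by decide) (by decide)]
    show ∀ a : Fin 9, a ∈ [(0 : Fin 9), 1, 2] → a ∈ [(3 : Fin 9), 4, 5, 6, 7] → False
    decide
  rw [h1, hd.cycleType_mul, (List.isCycle_formPerm (by decide) (by decide)).cycleType,
    (List.isCycle_formPerm (by decide) (by decide)).cycleType,
    List.support_formPerm_of_nodup _ (by decide) (by decide), List.support_formPerm_of_nodup _ (by decide) (by decide)]
  decide

theorem nine_cycle : ∃ g c : Perm (Fin 9), g.cycleType = {9} ∧ c ∈ alternatingGroup (Fin 9) ∧ c * g * c⁻¹ = g⁻¹ := by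
  refine ⟨List.formPerm [0, 1, 2, 3, 4, 5, 6, 7, 8], swap 1 8 * swap 2 7 * swap 3 6 * swap 4 5, ?_, ?_, ?_⟩
  · rw [(List.isCycle_formPerm (by decide) (by decide)).cycleType,
      List.support_formPerm_of_nodup _ (by decide) (by decide)]
    rfl
  · rw [mem_alternatingGroup]
    decide
  · decide +kernel

theorem real_or (g : alternatingGroup (Fin 9)) : IsConj g g⁻¹ ∨
    ∃ σ : Perm (Fin 9), (g : Perm (Fin 9)) = σ * ((c0 * h0 : alternatingGroup (Fin 9)) : Perm (Fin 9)) * σ⁻¹ := by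
  have hfin : ∀ c : Perm (Fin 9), c ∈ alternatingGroup (Fin 9) → c * (g : Perm (Fin 9)) * c⁻¹ =
      ((g : Perm (Fin 9)))⁻¹ → IsConj g g⁻¹ := by
    intro c hc hcg
    exact isConj_iff.2 ⟨⟨c, hc⟩, Subtype.ext hcg⟩
  obtain ⟨c, hc⟩ := isConj_iff.1 (isConj_of_cycleType_eq (cycleType_inv (g : Perm (Fin 9))).symm)
  by_cases hce : c ∈ alternatingGroup (Fin 9)
  · exact Or.inl (hfin c hce hc)
  by_cases hz : Subgroup.centralizer {(g : Perm (Fin 9))} ≤ alternatingGroup (Fin 9)
  · rcases type_cases hz with h9 | h53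
    · obtain ⟨g₀, c₀, ht, hc₀, hcg⟩ := nine_cycle
      obtain ⟨d, hd⟩ := isConj_iff.1 (isConj_of_cycleType_eq (ht.trans h9.symm))
      refine Or.inl (hfin (d * c₀ * d⁻¹) ?_ ?_)
      · exact (inferInstance : (alternatingGroup (Fin 9)).Normal).conj_mem c₀ hc₀ d
      · rw [← hd]
        calc d * c₀ * d⁻¹ * (d * g₀ * d⁻¹) * (d * c₀ * d⁻¹)⁻¹ = d * (c₀ * g₀ * c₀⁻¹) * d⁻¹ := by group
          _ = d * g₀⁻¹ * d⁻¹ := by rw [hcg]
          _ = (d * g₀ * d⁻¹)⁻¹ := by group
    · obtain ⟨d, hd⟩ := isConj_iff.1 (isConj_of_cycleType_eq (type_x0.trans h53.symm))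
      exact Or.inr ⟨d, hd.symm⟩
  · obtain ⟨z, hz1, hz2⟩ := SetLike.not_le_iff_exists.1 hz
    rw [Subgroup.mem_centralizer_singleton_iff] at hz1
    refine Or.inl (hfin (c * z) ?_ ?_)
    · rw [mem_alternatingGroup] at hce hz2 ⊢
      rw [map_mul]
      rcases Int.units_eq_one_or (sign c) with h1 | h1
      · exact absurd h1 hce
      · rcases Int.units_eq_one_or (sign z) with h2 | h2
        · exact absurd h2 hz2
        · rw [h1, h2]; decide
    · calc c * z * (g : Perm (Fin 9)) * (c * z)⁻¹ = c * (z * (g : Perm (Fin 9)) * z⁻¹) * c⁻¹ := by group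
        _ = c * (g : Perm (Fin 9)) * c⁻¹ := by rw [hz1, mul_inv_cancel_right]
        _ = _ := hc

/-! ### an element of order five -/

section five

variable {K : Type*} [Field K] {V : Type*} [AddCommGroup V] [Module K V]

theorem trace_five [IsAlgClosed K] [FiniteDimensional K V] (h2 : (2 : K) = 0) (hV : finrank K V = 8)
    {X B B' : Module.End K V} (hX : X ^ 5 = 1) (hfix : ∀ v, X v = v → v = 0) (hB : B' * B = 1)
    (hk : B * X * B' = X ^ 2) : LinearMap.trace K V X = 0 := by
  have h5 : ((5 : ℕ) : K) ≠ 0 := by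
    intro h
    push_cast at h
    have : (1 : K) = 0 := by linear_combination h - 2 * h2
    exact one_ne_zero this
  obtain ⟨ζ, hζ⟩ := H911.Eig.exists_root (K := K) (r := 5) (by norm_num) h5
  have h1 := H6.M11.trace_eq_sum hζ (by norm_num) hX 1
  have h3 := H6.M11.finrank_top_eq_sum hζ (by norm_num) hX
  rw [pow_one] at h1
  rw [h1]
  rw [hV] at h3
  have hd : ∀ b : Fin 5, finrank K (End.eigenspace X (ζ ^ (b : ℕ))) =
      H911.Eig.d X ζ (r := 5) (b : ZMod 5) := fun b => rfl
  have hle := H911.Eig.d_le (K := K) (A := X) (r := 5) (by norm_num) hζ hB (k := 2) hk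
  have h12 := hle 1
  have h24 := hle 2
  have h43 := hle 4
  have h31 := hle 3
  rw [show ((2 : ℕ) : ZMod 5) * 1 = 2 from by decide] at h12
  rw [show ((2 : ℕ) : ZMod 5) * 2 = 4 from by decide] at h24
  rw [show ((2 : ℕ) : ZMod 5) * 4 = 3 from by decide] at h43
  rw [show ((2 : ℕ) : ZMod 5) * 3 = 1 from by decide] at h31
  have h0 : finrank K (End.eigenspace X (ζ ^ ((0 : Fin 5) : ℕ))) = 0 := by
    rw [Submodule.finrank_eq_zero, Submodule.eq_bot_iff]
    intro v hv
    rw [Module.End.mem_eigenspace_iff] at hv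
    apply hfix
    rw [hv, Fin.val_zero, pow_zero, one_smul]
  rw [Fin.sum_univ_five] at h3 ⊢
  rw [h0] at h3 ⊢
  have e1 := hd 1
  have e2 := hd 2
  have e3 := hd 3
  have e4 := hd 4
  have q1 : finrank K (End.eigenspace X (ζ ^ ((1 : Fin 5) : ℕ))) = 2 := by
    change _ = H911.Eig.d X ζ (r := 5) (1 : ZMod 5) at e1
    change _ = H911.Eig.d X ζ (r := 5) (2 : ZMod 5) at e2
    change _ = H911.Eig.d X ζ (r := 5) (3 : ZMod 5) at e3
    change _ = H911.Eig.d X ζ (r := 5) (4 : ZMod 5) at e4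
    omega
  have q2 : finrank K (End.eigenspace X (ζ ^ ((2 : Fin 5) : ℕ))) = 2 := by
    change _ = H911.Eig.d X ζ (r := 5) (1 : ZMod 5) at e1
    change _ = H911.Eig.d X ζ (r := 5) (2 : ZMod 5) at e2
    change _ = H911.Eig.d X ζ (r := 5) (3 : ZMod 5) at e3
    change _ = H911.Eig.d X ζ (r := 5) (4 : ZMod 5) at e4
    omega
  have q3 : finrank K (End.eigenspace X (ζ ^ ((3 : Fin 5) : ℕ))) = 2 := by
    change _ = H911.Eig.d X ζ (r := 5) (1 : ZMod 5) at e1
    change _ = H911.Eig.d X ζ (r := 5) (2 : ZMod 5) at e2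
    change _ = H911.Eig.d X ζ (r := 5) (3 : ZMod 5) at e3
    change _ = H911.Eig.d X ζ (r := 5) (4 : ZMod 5) at e4
    omega
  have q4 : finrank K (End.eigenspace X (ζ ^ ((4 : Fin 5) : ℕ))) = 2 := by
    change _ = H911.Eig.d X ζ (r := 5) (1 : ZMod 5) at e1
    change _ = H911.Eig.d X ζ (r := 5) (2 : ZMod 5) at e2
    change _ = H911.Eig.d X ζ (r := 5) (3 : ZMod 5) at e3
    change _ = H911.Eig.d X ζ (r := 5) (4 : ZMod 5) at e4
    omega
  rw [q1, q2, q3, q4]
  push_cast
  rw [h2]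
  ring

end five

section matrix

variable {F : Type u} [Field F] {ι : Type} [Fintype ι] [DecidableEq ι]

theorem matrix_five (h2 : (2 : F) = 0) (h8 : Fintype.card ι = 8) {M N N' : Matrix ι ι F}
    (hM : 1 + M + M ^ 2 + M ^ 3 + M ^ 4 = 0) (hN : N' * N = 1) (hk : N * M * N' = M ^ 2) : M.trace = 0 := by
  let K := AlgebraicClosure F
  let f : Matrix ι ι F →+* Module.End K (ι → K) :=
    (Matrix.toLinAlgEquiv' (R := K) (n := ι)).toRingEquiv.toRingHom.comp (algebraMap F K).mapMatrix
  have hf : ∀ A : Matrix ι ι F, f A = Matrix.toLin' (A.map (algebraMap F K)) := fun A => rfl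
  have h2K : (2 : K) = 0 := by
    have := congrArg (algebraMap F K) h2
    rwa [map_ofNat, map_zero] at this
  have hX0 : 1 + f M + f M ^ 2 + f M ^ 3 + f M ^ 4 = 0 := by
    have := congrArg f hM
    rw [map_zero] at this
    rw [← this]
    simp only [map_add, map_pow, map_one]
  have h5 : f M ^ 5 = 1 := by
    have h3 := mul_geom_sum (f M) 5
    simp only [Finset.sum_range_succ, Finset.sum_range_zero, zero_add, pow_zero, pow_one] at h3
    rw [hX0, mul_zero] at h3
    exact (sub_eq_zero.1 h3.symm)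
  have hfix : ∀ v, f M v = v → v = 0 := by
    intro v hv
    have hp : ∀ i : ℕ, (f M ^ i) v = v := by
      intro i
      induction i with
      | zero => rfl
      | succ i ih => rw [pow_succ, Module.End.mul_apply, hv, ih]
    have h3 := congrArg (fun T : Module.End K (ι → K) => T v) hX0
    simp only [LinearMap.add_apply, hp, hv, LinearMap.zero_apply, Module.End.one_apply] at h3
    funext k
    have h4 := congrFun h3 k
    simp only [Pi.add_apply, Pi.zero_apply] at h4 ⊢
    linear_combination h4 - 2 * v k * h2K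
  have h6 := trace_five (K := K) (V := ι → K) h2K (by rw [Module.finrank_fintype_fun_eq_card, h8]) h5 hfix
    (B := f N) (B' := f N') (by rw [← map_mul, hN, map_one]) (by rw [← map_mul, ← map_mul, hk, map_pow])
  have h7 : LinearMap.trace K (ι → K) (f M) = algebraMap F K M.trace := by
    rw [hf, LinearMap.trace_eq_matrix_trace K (Pi.basisFun K ι), LinearMap.toMatrix_eq_toMatrix',
      LinearMap.toMatrix'_toLin', AddMonoidHom.map_trace]
  rw [h7] at h6
  exact (map_eq_zero _).1 h6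

/-- **Traces of elements of type `(3, 5)`.** -/
theorem key (h2 : (2 : F) = 0) (h8 : Fintype.card ι = 8) (f : alternatingGroup (Fin 9) →* Matrix ι ι F)
    (hc0 : ∀ v, f c0 *ᵥ v = v → v = 0) (hc1 : ∀ v, f c1 *ᵥ v = v → v = 0) :
    (f (c0 * h0)⁻¹).trace = (f (c0 * h0)).trace := by
  -- quadratic relations
  have quad : ∀ c : alternatingGroup (Fin 9), c ^ 3 = 1 → (∀ v, f c *ᵥ v = v → v = 0) → 1 + f c + f c ^ 2 = 0 := by
    intro c hc hcv
    have h3 : f c ^ 3 = 1 := by rw [← map_pow, hc, map_one]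
    apply Matrix.toLin'.injective
    apply LinearMap.ext
    intro v
    rw [Matrix.toLin'_apply, Matrix.toLin'_apply, Matrix.zero_mulVec]
    apply hcv
    rw [Matrix.mulVec_mulVec]
    congr 1
    calc f c * (1 + f c + f c ^ 2) = f c + f c ^ 2 + f c ^ 3 := by noncomm_ring
      _ = 1 + f c + f c ^ 2 := by rw [h3]; abel
  have q0 := quad c0 c0_pow hc0
  have q1 := quad c1 c1_pow hc1
  have hh5 : f h0 ^ 5 = 1 := by rw [← map_pow, h0_pow, map_one]
  -- the 5-cycle
  have hfix : ∀ v, f h0 *ᵥ v = v → v = 0 := by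
    intro v hv
    have hv2 : f h0 ^ 2 *ᵥ v = v := by rw [pow_two, ← Matrix.mulVec_mulVec, hv, hv]
    obtain ⟨w, hw⟩ : ∃ w, f c1 *ᵥ v = w := ⟨_, rfl⟩
    have e : v + w + f h0 ^ 2 *ᵥ w = 0 := by
      have h3 := congrArg (fun A : Matrix ι ι F => A *ᵥ v) q1
      simp only [Matrix.add_mulVec, Matrix.one_mulVec, Matrix.zero_mulVec, hw] at h3
      have h4 : f c1 ^ 2 = f h0 ^ 2 * f c1 * f h0 ^ 2 := by
        rw [← map_pow, trick, map_mul, map_mul, map_pow]
      rw [h4, ← Matrix.mulVec_mulVec, hv2, ← Matrix.mulVec_mulVec, hw] at h3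
      exact h3
    have key2 : ∀ i : ℕ, v + f h0 ^ i *ᵥ w + f h0 ^ (i + 2) *ᵥ w = 0 := by
      intro i
      have hvi : f h0 ^ i *ᵥ v = v := by
        induction i with
        | zero => rw [pow_zero, Matrix.one_mulVec]
        | succ i ih => rw [pow_succ, ← Matrix.mulVec_mulVec, hv, ih]
      have h3 := congrArg (fun x => f h0 ^ i *ᵥ x) e
      simp only [Matrix.mulVec_add, Matrix.mulVec_zero, hvi, Matrix.mulVec_mulVec, ← pow_add] at h3
      exact h3
    have k0 := key2 0
    have k1 := key2 1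
    have k2 := key2 2
    have k3 := key2 3
    have k4 := key2 4
    rw [show f h0 ^ (3 + 2) = 1 from hh5, Matrix.one_mulVec] at k3
    rw [show f h0 ^ (4 + 2) = f h0 from by rw [show 4 + 2 = 5 + 1 from rfl, pow_succ, hh5, one_mul]] at k4
    rw [pow_zero, Matrix.one_mulVec] at k0
    rw [pow_one] at k1
    funext k
    have j0 := congrFun k0 k
    have j1 := congrFun k1 k
    have j2 := congrFun k2 k
    have j3 := congrFun k3 k
    have j4 := congrFun k4 k
    simp only [Pi.add_apply, Pi.zero_apply, Nat.zero_add, Nat.reduceAdd] at j0 j1 j2 j3 j4 ⊢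
    linear_combination j0 + j1 + j2 + j3 + j4 - (2 * v k + w k + (f h0 *ᵥ w) k + (f h0 ^ 2 *ᵥ w) k +
      (f h0 ^ 3 *ᵥ w) k + (f h0 ^ 4 *ᵥ w) k) * h2
  have hsum : 1 + f h0 + f h0 ^ 2 + f h0 ^ 3 + f h0 ^ 4 = 0 := by
    apply Matrix.toLin'.injective
    apply LinearMap.ext
    intro v
    rw [Matrix.toLin'_apply, Matrix.toLin'_apply, Matrix.zero_mulVec]
    apply hfix
    rw [Matrix.mulVec_mulVec]
    congr 1
    calc f h0 * (1 + f h0 + f h0 ^ 2 + f h0 ^ 3 + f h0 ^ 4) = f h0 + f h0 ^ 2 + f h0 ^ 3 + f h0 ^ 4 + f h0 ^ 5 := by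
          noncomm_ring
      _ = 1 + f h0 + f h0 ^ 2 + f h0 ^ 3 + f h0 ^ 4 := by rw [hh5]; abel
  have ht : (f h0).trace = 0 := matrix_five h2 h8 hsum (N := f y0) (N' := f y0⁻¹)
    (by rw [← map_mul, inv_mul_cancel, map_one]) (by rw [← map_mul, ← map_mul, y0_conj, map_pow])
  have hconj : ∀ a b : alternatingGroup (Fin 9), (f (a * b * a⁻¹)).trace = (f b).trace := by
    intro a b
    rw [map_mul, Matrix.trace_mul_comm, ← map_mul, ← mul_assoc, inv_mul_cancel, one_mul]
  have ht' : (f h0⁻¹).trace = 0 := by rw [← u0_conj', hconj, ht]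
  have hinv : f c0⁻¹ = f c0 ^ 2 := by
    rw [← map_pow]
    congr 1
    rw [inv_eq_iff_mul_eq_one, ← pow_succ', c0_pow]
  have hneg : f c0 ^ 2 = 1 + f c0 := by
    have h3 : ∀ A : Matrix ι ι F, A + A = 0 := by
      intro A
      rw [← two_smul F, h2, zero_smul]
    calc f c0 ^ 2 = (1 + f c0 + f c0 ^ 2) + (1 + f c0) - ((1 + f c0) + (1 + f c0)) := by abel
      _ = 1 + f c0 := by rw [q0, h3, zero_add, sub_zero]
  rw [_root_.mul_inv_rev, map_mul, hinv, hneg, mul_add, mul_one, Matrix.trace_add, ht', zero_add, ← map_mul, ← u0_conj,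
    hconj]

end matrix

section main

open Cfsg Cfsg.Geo Cfsg.Agent.H915.LD Cfsg.Agent.H614.AMod Cfsg.Agent.H964.AltMod

variable {F : Type u} [Field F] {ι : Type} [Fintype ι] [DecidableEq ι] {P : Subgroup (GL ι F)}

/-- the matrices of `φ.symm (σ a σ⁻¹)` -/
noncomputable def mt (φ : P ≃* alternatingGroup (Fin 9)) (σ : Perm (Fin 9)) :
    alternatingGroup (Fin 9) →* Matrix ι ι F :=
  (Units.coeHom (Matrix ι ι F)).comp
    (P.subtype.comp (φ.symm.toMonoidHom.comp (MulAut.conjNormal (H := alternatingGroup (Fin 9)) σ).toMonoidHom))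

theorem mt_apply (φ : P ≃* alternatingGroup (Fin 9)) (σ : Perm (Fin 9)) (a : alternatingGroup (Fin 9)) :
    mt φ σ a = ((φ.symm (MulAut.conjNormal (H := alternatingGroup (Fin 9)) σ a) : P) : GL ι F).1 := rfl

theorem nine_sd [Finite F] (hC : Core P) (h2 : (2 : F) = 0) (h8 : Fintype.card ι = 8)
    (φ : P ≃* alternatingGroup (Fin 9)) : SD P := by
  have hchar : CharP F 2 := CharTwo.of_one_ne_zero_of_two_eq_zero one_ne_zero h2
  have hp2 : Fact (Nat.Prime 2) := ⟨Nat.prime_two⟩
  have h3 : ((3 : ℕ) : F) ≠ 0 := by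
    intro h
    push_cast at h
    have : (1 : F) = 0 := by linear_combination h - h2
    exact one_ne_zero this
  obtain ⟨g₀, v₀, hne⟩ := exists_move_rep φ hC
  rcases nine (α := Fin 9) (ρ := rep φ) (by rw [Fintype.card_fin]) h3
    (by rw [Module.finrank_fintype_fun_eq_card, h8]; norm_num) (irr_rep φ hC) hne with h | ⟨-, h⟩
  · obtain ⟨w, N⟩ := exists_natM φ hC (by rw [Fintype.card_fin]; norm_num) h
    exact sd hC (by rw [Fintype.card_fin]; norm_num) N
  · intro g hg
    rcases real_or (φ ⟨g, hg⟩) with h4 | ⟨σ, hσ⟩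
    · rw [← map_inv] at h4
      have h5 := φ.symm.toMonoidHom.map_isConj h4
      have h6 : IsConj (⟨g, hg⟩ : P) (⟨g, hg⟩ : P)⁻¹ := by simpa using h5
      exact (tr_of_isConj h6).symm
    · have hx : MulAut.conjNormal (H := alternatingGroup (Fin 9)) σ (c0 * h0) = φ ⟨g, hg⟩ := by
        apply Subtype.ext
        rw [MulAut.conjNormal_apply, hσ]
      have hfp : ∀ (i j k : Fin 9) (hij : i ≠ j) (hjk : j ≠ k) (hik : i ≠ k) (c : alternatingGroup (Fin 9)),
          (c : Perm (Fin 9)) = swap i j * swap j k → ∀ v, mt φ σ c *ᵥ v = v → v = 0 := by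
        intro i j k hij hjk hik c hc v hv
        apply h (emb3 (σ i) (σ j) (σ k) (fun h => hij (σ.injective h)) (fun h => hjk (σ.injective h))
          (fun h => hik (σ.injective h))) v
        rw [rep_apply]
        have h5 : ex (emb3 (σ i) (σ j) (σ k) (fun h => hij (σ.injective h)) (fun h => hjk (σ.injective h))
          (fun h => hik (σ.injective h))) c3 = MulAut.conjNormal (H := alternatingGroup (Fin 9)) σ c := by
          apply Subtype.ext
          rw [coe_c3, MulAut.conjNormal_apply, hc]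
          show swap (σ i) (σ j) * swap (σ j) (σ k) = _
          rw [swap_apply_apply, swap_apply_apply]
          group
        rw [h5]
        exact hv
      have h6 := key h2 h8 (mt φ σ) (hfp 0 1 2 (by decide) (by decide) (by decide) c0 rfl)
        (hfp 3 4 5 (by decide) (by decide) (by decide) c1 rfl)
      rw [mt_apply, mt_apply, map_inv, hx, map_inv, MulEquiv.symm_apply_apply] at h6
      exact h6

/-- **`A_m`, `m ≥ 8`, in dimension eight.** -/
theorem alt_sd [Finite F] (hC : Core P) (h8 : Fintype.card ι = 8) (p : ℕ) [hp : Fact p.Prime] [CharP F p] {m : ℕ}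
    (hm : 8 ≤ m) (hmp : p = 2 → 9 ≤ m) (e : Soc P ≃* alternatingGroup (Fin m)) : SD P := by
  rcases H825.Spin.alt_red hC p e hm (by omega) with ⟨φ, -⟩ | h
  · have h8' : 8 ≤ Fintype.card (Fin m) := by rwa [Fintype.card_fin]
    by_cases hp2 : p = 2
    · subst hp2
      have h2 : (2 : F) = 0 := by exact_mod_cast CharP.cast_eq_zero F 2
      rcases (show m = 9 ∨ 10 ≤ m by have := hmp rfl; omega) with rfl | h10
      · exact nine_sd hC h2 h8 φ
      · have h5 : (5 : F) ≠ 0 := by
          intro h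
          have : (1 : F) = 0 := by linear_combination h - 2 * h2
          exact one_ne_zero this
        obtain ⟨w, N⟩ := exists_natM φ hC h8' (indep_ten (by rwa [Fintype.card_fin]) h5
          (by rw [Module.finrank_fintype_fun_eq_card, h8]; norm_num))
        exact sd hC h8' N
    · have h2 : (2 : F) ≠ 0 := by
        intro h0
        have h1 : ((2 : ℕ) : F) = 0 := by exact_mod_cast h0
        rw [CharP.cast_eq_zero_iff F p] at h1
        exact hp2 ((Nat.prime_dvd_prime_iff_eq hp.out Nat.prime_two).1 h1)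
      obtain ⟨w, N⟩ := exists_natM_odd φ hC h8' h2 (by omega)
      exact sd hC h8' N
  · exact h.2.2.2.1

end main

end Cfsg.Agent.H424.AltTwo
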