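import Cfsg.Agent.H936.List12b
import Cfsg.Agent.H937.T2Rep
import Cfsg.Agent.H637.A7Main
import Cfsg.Agent.H464.L2StageOne
import Cfsg.Agent.H659.Sp4Stage
import Cfsg.Agent.H659.U3Stage
import Cfsg.Agent.H936.U33Two
import Cfsg.Agent.H36.U52.Main
import Cfsg.Agent.H916.SpEightC
import Cfsg.Agent.H814.SzEightCore
import Cfsg.Agent.H6.M11.Main11
import Cfsg.Agent.H4.LDM.Stage24
import Cfsg.Agent.H1.TJ1
import Cfsg.Agent.H1.TJ2
import Cfsg.Agent.H424.AltTwo

/-!
# Dimension eight: the simple groups that are not of Lie type in the characteristic (helper424)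

* `Rest8` : the inputs on the groups that are still open;
* `cross_eight` : `SD P`, or `Soc P = L₃(4)` and `p ≠ 2`.
-/

set_option autoImplicit false
set_option linter.unusedSectionVars false

universe u

namespace Cfsg.Agent.H424.Eight

open Cfsg Cfsg.Geo Matrix Cfsg.Agent.H915.LD Cfsg.Agent.H912.Bd Cfsg.Agent.H936.List12

/-- The open inputs. -/
structure Rest8 {F : Type u} [Field F] (p : ℕ) (P : Subgroup (GL (Fin 8) F)) : Prop where
  l33 : p ≠ 3 → IsL 3 3 (Soc P) → SD P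
  o82 : p ≠ 2 → IsOP 4 2 (Soc P) → SD P
  g24 : p ≠ 2 → H912.Bd.IsG2 4 (Soc P) → SD P
  m12 : Spor.IsoM12 (Soc P) → SD P
  m22 : Spor.IsoM22 (Soc P) → SD P
  j3 : Spor.IsoJ3 (Soc P) → SD P
  suz : Spor.IsoSuz (Soc P) → SD P
  pend : SporP p (Soc P) → SD P

variable {F : Type u} [Field F] [Finite F] {P : Subgroup (GL (Fin 8) F)}

theorem two_ne {p : ℕ} [hp : Fact p.Prime] [CharP F p] (h : p ≠ 2) : (2 : F) ≠ 0 := by
  intro h0
  have h1 : ((2 : ℕ) : F) = 0 := by exact_mod_cast h0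
  rw [CharP.cast_eq_zero_iff F p] at h1
  exact h ((Nat.prime_dvd_prime_iff_eq hp.out Nat.prime_two).1 h1)

theorem zero_or_one {K : Type*} [Field K] [Fintype K] (hK : Fintype.card K = 2) (x : K) : x = 0 ∨ x = 1 := by
  by_cases hx : x = 0
  · exact Or.inl hx
  · right
    have h3 := FiniteField.pow_card_sub_one_eq_one x hx
    rwa [hK, pow_one] at h3

theorem cross_eight (p : ℕ) [hp : Fact p.Prime] [hFp : CharP F p] (hC : Core P) (hk : IsKnownSimple' (Soc P))
    (hL : ¬ IsLieTypeChar p (Soc P)) (R : Rest8 p P) : SD P ∨ (p ≠ 2 ∧ IsL 3 4 (Soc P)) := by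
  have h8 : Fintype.card (Fin 8) = 8 := by simp
  have hl2 : ∀ q, 5 ≤ q → q ≠ 9 → ¬ p ∣ q → IsL 2 q (Soc P) → SD P := by
    rintro q h5 h9 hpq ⟨K, i1, i2, hK, ⟨e⟩⟩
    rcases H464.Sl2.l2_stage1_le p hC (by rw [hK]; exact h5) (by rw [hK]; exact h9) (by rw [hK]; exact hpq) e
      (by rw [h8]; norm_num) with h | ⟨h, -⟩
    · exact h
    · rw [h8] at h
      omega
  have hu42 : p ≠ 2 → p ≠ 3 → IsU 4 2 (Soc P) → SD P := by
    rintro h2 h3 ⟨K, i1, i2, hK, ⟨e⟩⟩
    rcases H659.Sp4.u42_stage' hC p h2 h3 (by rw [h8]; norm_num) (by rw [hK]; norm_num) e with h | ⟨h, -⟩ | ⟨h, -⟩ <;>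
      rw [h8] at h <;> omega
  have hs62 : p ≠ 2 → IsS 3 2 (Soc P) → SD P := by
    rintro h2 ⟨K, i1, i2, hK, ⟨e⟩⟩
    exact (H916.SpEight.spSix_eight (zero_or_one hK) hC p e (two_ne h2) h8).1
  rcases list₁ (p := p) (n := 8) (by norm_num) hC hk hL with (h | h | h | h | h) | h
  · obtain ⟨m, h5, -, -, -, -, ⟨e⟩⟩ := h
    rcases (show m = 5 ∨ m = 6 ∨ m = 7 ∨ 8 ≤ m by omega) with rfl | rfl | rfl | hm
    · exact Or.inl (H937.T2.a5_sd hC e)
    · exact Or.inl (H937.T2.a6_sd_of_not_dvd hC e (by rw [h8]; norm_num))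
    · rcases H637.A7Main.coprime_three p hC e (by rw [h8]; norm_num) with h | ⟨h, -⟩
      · exact Or.inl h
      · rw [h8] at h
        omega
    · refine Or.inl (AltTwo.alt_sd hC h8 p hm (fun hp2 => ?_) e)
      by_contra hcon
      obtain rfl : m = 8 := by omega
      subst hp2
      obtain ⟨e'⟩ := S0256.result (F := ZMod 2) (by simp)
      exact hL (Or.inl ⟨ZMod 2, inferInstance, inferInstance, inferInstance, 4, by norm_num, fun h => by omega,
        ⟨e.trans e'.symm⟩⟩)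
  · rcases h with ⟨q, hq, hpq, -, h⟩ | ⟨h1, -, h⟩ | ⟨h1, -, h⟩ | ⟨-, h1, -⟩ | ⟨h1, h2, -, h⟩ | ⟨h1, -, h⟩ |
      ⟨-, h1, -⟩ | ⟨h1, -, h⟩ | ⟨h1, -, h⟩
    · simp only [Finset.mem_insert, Finset.mem_singleton] at hq
      exact Or.inl (hl2 q (by omega) (by omega) hpq h)
    · exact Or.inl (R.l33 h1 h)
    · obtain ⟨K, i1, i2, hK, ⟨e⟩⟩ := h
      by_cases hp2 : p = 2
      · subst hp2
        have h2 := (H936.U33Two.u33_two hC (by rw [hK]; norm_num) ⟨e⟩ (by rw [h8]; norm_num)).1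
        rw [h8] at h2
        omega
      · have h2 := (H659.U3.u33_stage hC p hp2 h1 (by rw [h8]; norm_num) (by rw [hK]; norm_num) e).2
        rw [h8] at h2
        omega
    · omega
    · exact Or.inl (hu42 h1 h2 h)
    · obtain ⟨K, i1, i2, hK, ⟨e⟩⟩ := h
      rcases H36.U52.t6 hC p h1 (by norm_num) (by rw [hK]; norm_num) e with ⟨h, -⟩ | ⟨h, -⟩ <;> omega
    · omega
    · exact Or.inl (hs62 h1 h)
    · exact Or.inl (R.o82 h1 h)
  · rcases h with ⟨hp2, -, h⟩ | ⟨-, h3, -⟩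
    · rcases h with h | h | ⟨h3, h⟩ | h | h | h
      · refine Or.inl (hl2 7 (by norm_num) (by norm_num) (fun hd => ?_) h)
        have h7 : p = 7 := (Nat.prime_dvd_prime_iff_eq hp.out (by norm_num)).1 hd
        exact hL (lie_of_isL hp.out hd (by norm_num) (fun _ => by norm_num) h)
      · exact Or.inr ⟨hp2, h⟩
      · exact Or.inl (hu42 hp2 h3 h)
      · exact Or.inl (hs62 hp2 h)
      · exact Or.inl (R.o82 hp2 h)
      · exact Or.inl (R.g24 hp2 h)
    · omega
  · obtain ⟨hp2, -, h⟩ := h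
    exact Or.inl (H814.Sz8.core_sz8 hC (two_ne hp2) (by rw [h8]; norm_num) h).2.1
  · rcases h with h | h | h | h | h | h | h | h | h
    · rcases H6.M11.m11 hC p h (by rw [h8]; norm_num) with h | ⟨h, -⟩ | ⟨h, -⟩
      · exact Or.inl h
      · rw [h8] at h
        omega
      · rw [h8] at h
        omega
    · exact Or.inl (R.m12 h)
    · exact Or.inl (R.m22 h)
    · obtain ⟨e⟩ := h
      have : Fintype F := Fintype.ofFinite F
      have h1 := (H4.LDM.Stage.m23_low hC e p (by rw [h8]; norm_num)).2.1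
      rw [h8] at h1
      omega
    · obtain ⟨e⟩ := h
      have : Fintype F := Fintype.ofFinite F
      have h1 := (H4.LDM.Stage.m24_low hC e p (by rw [h8]; norm_num)).2.1
      rw [h8] at h1
      omega
    · exact Or.inl (H1.TJ1.sd_iso hC h)
    · exact Or.inl (H1.TJ2.sd_iso hC h (by rw [h8]; norm_num))
    · exact Or.inl (R.j3 h)
    · exact Or.inl (R.suz h)
  · exact Or.inl (R.pend h)

end Cfsg.Agent.H424.Eight
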