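import Cfsg.Agent.H424.EightOwn
import Cfsg.Agent.H424.EightCross
import Cfsg.Agent.H924.L34Wrap

/-!
# Dimension eight: the linear and the unitary row (helper424)

`eight_lin`, `eight_uni` : `S5818`, `S5821` from `Rest8` and the classification.
-/

set_option autoImplicit false
set_option linter.unusedSectionVars false

universe u

namespace Cfsg.Agent.H424.Eight

open Cfsg Cfsg.Geo Matrix Cfsg.Agent.H915.LD Cfsg.Agent.H912.Bd Cfsg.Agent.H936.List12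

theorem main_eight {F : Type u} [Field F] [Finite F] {P : Subgroup (GL (Fin 8) F)} (p : ℕ) [hp : Fact p.Prime]
    [hFp : CharP F p] (hC : Core P) (hk : IsKnownSimple' (Soc P)) (R : Rest8 p P) (hsd : ¬ SD P) :
    (p ≠ 2 ∧ ∃ (K : Type) (_ : Field K) (_ : Fintype K), Fintype.card K = 4 ∧
      Nonempty (Soc P ≃* ProjectiveSpecialLinearGroup (Fin 3) K)) ∨ P = specialLinear (Fin 8) F ∨ UC p P := by
  by_cases hL : IsLieTypeChar p (Soc P)
  · rcases own_eight p hC hL with h | h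
    · exact absurd h hsd
    · exact Or.inr h
  · rcases cross_eight p hC hk hL R with h | ⟨h2, K, i1, i2, hK, e⟩
    · exact absurd h hsd
    · exact Or.inl ⟨h2, K, i1, i2, hK, e⟩

/-- **The linear row**, `S5818`. -/
theorem eight_lin {F : Type u} [Field F] [Fintype F]
    (hk : ∀ P : Subgroup (GL (Fin 8) F), Core P → IsKnownSimple' (Soc P))
    (R : ∀ (p : ℕ) (P : Subgroup (GL (Fin 8) F)), p.Prime → CharP F p → Core P → Rest8 p P)
    (H : Subgroup (Matrix.GeneralLinearGroup (Fin 8) F))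
    (hH : Cfsg.Geo.IsMaximalIn (Cfsg.Geo.specialLinear (Fin 8) F) H) (hS : Cfsg.Geo.InLinearResidualClass H) :
    ∃ (P : Subgroup (Matrix.GeneralLinearGroup (Fin 8) F)) (p : ℕ), Cfsg.Geo.IsResidualCore H P ∧ p.Prime ∧
    CharP F p ∧ (∃ (K : Type) (_ : Field K) (_ : Fintype K), Fintype.card K = 4 ∧
      Nonempty ((P ⧸ (Cfsg.Geo.scalars (Fin 8) F).subgroupOf P) ≃* Matrix.ProjectiveSpecialLinearGroup (Fin 3) K)) ∧
    ((Fintype.card F = p ∧ (p = 5 ∨ p % 80 = 9 ∨ p % 80 = 21 ∨ p % 80 = 29 ∨ p % 80 = 41 ∨ p % 80 = 61 ∨ p % 80 = 69 ∨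
        p % 80 = 1 ∨ p % 80 = 49)) ∨
     (Fintype.card F = p ^ 2 ∧ (p % 80 = 3 ∨ p % 80 = 77 ∨ p % 80 = 13 ∨ p % 80 = 67 ∨ p % 80 = 27 ∨ p % 80 = 53 ∨
        p % 80 = 37 ∨ p % 80 = 43 ∨ p % 80 = 7 ∨ p % 80 = 73 ∨ p % 80 = 17 ∨ p % 80 = 63 ∨ p % 80 = 23 ∨ p % 80 = 57 ∨
        p % 80 = 33 ∨ p % 80 = 47))) := by
  obtain ⟨p, hpF⟩ := CharP.exists F
  have hp : Fact p.Prime := ⟨CharP.char_is_prime F p⟩
  obtain ⟨P, hP, hC, hsd, hcj⟩ := linear_core hS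
  rcases main_eight p hC (hk P hC) (R p P hp.out hpF hC) hsd with ⟨h2, K, i1, i2, hK, ⟨e⟩⟩ | h | h
  · have h5 := H924.L34.linear e hK hC p h2 (by
      have := hcj p hp hpF 1
      rwa [pow_one] at this)
    refine ⟨P, p, hP, hp.out, hpF, ⟨K, i1, i2, hK, ⟨e⟩⟩, ?_⟩
    rcases h5 with ⟨h5, h6⟩ | ⟨h5, h6⟩
    · exact Or.inl ⟨h5, by omega⟩
    · exact Or.inr ⟨h5, by omega⟩
  · exact (hH.1.not_ge (by rw [← h]; exact hP.le)).elim
  · exfalso
    obtain ⟨b, h5⟩ := h.cj p hC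
    exact hcj p hp hpF b h5

/-- **The unitary row**, `S5821`. -/
theorem eight_uni {F : Type u} [Field F] [Fintype F]
    (hk : ∀ P : Subgroup (GL (Fin 8) F), Core P → IsKnownSimple' (Soc P))
    (R : ∀ (p : ℕ) (P : Subgroup (GL (Fin 8) F)), p.Prime → CharP F p → Core P → Rest8 p P)
    (RU : ∀ (p : ℕ) (P : Subgroup (GL (Fin 8) F)), p.Prime → CharP F p → Core P →
      ∀ (K : Type) (_ : Field K) (_ : Fintype K) (_ : CharP K p) (N q : ℕ), Fintype.card K = q ^ 2 → 4 ≤ N → N ≤ 7 →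
        (Soc P ≃* PSU N K q) → SD P)
    (q : ℕ) (hF : Fintype.card F = q ^ 2) (H : Subgroup (Matrix.GeneralLinearGroup (Fin 8) F))
    (hH : Cfsg.Geo.IsMaximalIn (Cfsg.GU 8 F q ⊓ Cfsg.Geo.specialLinear (Fin 8) F) H)
    (hS : Cfsg.Geo.InUnitaryResidualClass H) :
    ∃ P : Subgroup (Matrix.GeneralLinearGroup (Fin 8) F), Cfsg.Geo.IsResidualCore H P ∧ q.Prime ∧
    (q % 80 = 11 ∨ q % 80 = 19 ∨ q % 80 = 39 ∨ q % 80 = 51 ∨ q % 80 = 59 ∨ q % 80 = 71 ∨ q % 80 = 31 ∨ q % 80 = 79) ∧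
    (∃ (K : Type) (_ : Field K) (_ : Fintype K), Fintype.card K = 4 ∧
      Nonempty ((P ⧸ (Cfsg.Geo.scalars (Fin 8) F).subgroupOf P) ≃* Matrix.ProjectiveSpecialLinearGroup (Fin 3) K)) := by
  obtain ⟨p, hpF⟩ := CharP.exists F
  have hp : Fact p.Prime := ⟨CharP.char_is_prime F p⟩
  obtain ⟨P, hP, hC, hsd⟩ := unitary_core hS
  have hPG : P ≤ GU 8 F q := (hP.le.trans hH.1.le).trans inf_le_left
  rcases main_eight p hC (hk P hC) (R p P hp.out hpF hC) hsd with ⟨h2, K, i1, i2, hK, ⟨e⟩⟩ | h | h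
  · obtain ⟨rfl, h6⟩ := H924.L34.unitary e hK hC p hF hPG h2
    exact ⟨P, hP, hp.out, by omega, ⟨K, i1, i2, hK, ⟨e⟩⟩⟩
  · refine (hH.1.not_ge ?_).elim
    refine inf_le_right.trans ?_
    rw [← h]
    exact hP.le
  · exfalso
    rcases h.gu p hC hF hPG with h | ⟨K, i1, i2, i3, N, q₀, hK, hN, hN7, ⟨e⟩⟩
    · refine hH.1.not_ge ?_
      rw [← h]
      exact hP.le
    · exact hsd (RU p P hp.out hpF hC K i1 i2 i3 N q₀ hK hN hN7 e)

end Cfsg.Agent.H424.Eight
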