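import Cfsg.Agent.H218.SdDC
import Cfsg.Agent.H48.NatSUEq
import Cfsg.Agent.H929.UThreeMain
import Cfsg.Agent.H887.DS.Low
import Cfsg.Agent.H905.MdP
import Cfsg.Agent.H927.LDTwF4

/-!
# Dimension eight: defining characteristic (helper424)

* `own_eight` : `Core P`, `P ≤ GL_8(F)`, `Soc P` of Lie type in characteristic `p = char F`: `SD P`, or
  `P = SL_8(F)`, or `Soc P = PSU_N(K)`, `4 ≤ N`.
* `own_cj`, `own_GU` : the last case in the linear and unitary rows.
-/

set_option autoImplicit false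
set_option linter.unusedSectionVars false
set_option linter.style.haveILetI false

universe u

namespace Cfsg.Agent.H424.Eight

open Cfsg Cfsg.Geo Matrix Cfsg.Agent.H915.LD

/-- `PSU_N(q)`, `N ≥ 4`, in the defining characteristic -/
def UC {F : Type u} [Field F] (p : ℕ) (P : Subgroup (GL (Fin 8) F)) : Prop :=
  ∃ (K : Type) (_ : Field K) (_ : Fintype K) (_ : CharP K p) (N q : ℕ), Fintype.card K = q ^ 2 ∧ 4 ≤ N ∧
    Nonempty (Soc P ≃* PSU N K q)

theorem own_eight {F : Type u} [Field F] [Finite F] {P : Subgroup (GL (Fin 8) F)} (p : ℕ) [hp : Fact p.Prime]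
    [hFp : CharP F p] (hC : Core P) (h : IsLieTypeChar p (Soc P)) :
    SD P ∨ P = specialLinear (Fin 8) F ∨ UC p P := by
  have h8 : Fintype.card (Fin 8) = 8 := by simp
  haveI : Nonempty (Fin 8) := ⟨0⟩
  rcases H218.SdDC.sd_dc p hC (by rw [h8]; norm_num) h with h1 | ⟨K, i1, i2, i3, l, hl, h4, ⟨e⟩⟩ |
    ⟨K, i1, i2, i3, N, q, hK, hN, hN8, h32, ⟨e⟩⟩ | ⟨-, hp2, h1⟩
  · exact Or.inl h1
  · rcases (show l = 1 ∨ 2 ≤ l by omega) with rfl | hl2
    · exact Or.inl fun g hg => H905.Md.psl_two p hC.absIrred hC.perfect (h4 rfl) e hg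
    · have h5 := H905.Md.psl_rank p hC.absIrred hC.perfect hl h4 e
      rw [h8] at h5
      rcases (show l + 1 = 8 ∨ l + 1 < 8 by omega) with h6 | h6
      · exact Or.inr (Or.inl (H905.Md.psl_eq p hC.absIrred hC.perfect hl h4 e hC.no_subfield h6.symm).2)
      · exact Or.inl (H887.DS.sd_of_psl p hC (m := l + 1) (by omega) (by rw [h8]; exact h6) (Or.inr (Or.inl h8)) e).1
  · rcases (show N = 3 ∨ 4 ≤ N by omega) with rfl | h4
    · have hq3 : 3 ≤ q := by
        have h2 : 2 ≤ q := by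
          by_contra hcon
          have hq : q = 0 ∨ q = 1 := by omega
          rcases hq with rfl | rfl
          · have := Fintype.card_pos (α := K)
            rw [hK] at this
            norm_num at this
          · have := Fintype.one_lt_card (α := K)
            rw [hK] at this
            norm_num at this
        have : q ≠ 2 := fun h => h32 ⟨rfl, h⟩
        omega
      rcases H929.U3.core_psu3 p hC hq3 hK e (by rw [h8]; norm_num) with h1 | ⟨-, h1⟩
      · exact Or.inl h1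
      · rw [h8] at h1
        omega
    · exact Or.inr (Or.inr ⟨K, i1, i2, i3, N, q, hK, h4, ⟨e⟩⟩)
  · exfalso
    subst hp2
    have h2 := H927.LDTwF4.card_le_iso (p := 2) rfl hC.perfect h1
    rw [h8] at h2
    omega

/-- the linear row: `PSU_N` is excluded -/
theorem UC.cj {F : Type u} [Field F] [Finite F] {P : Subgroup (GL (Fin 8) F)} (p : ℕ) [hp : Fact p.Prime]
    [hFp : CharP F p] (hC : Core P) (h : UC p P) : ∃ b : ℕ, Cj P (p ^ b) := by
  obtain ⟨K, i1, i2, i3, N, q, hK, hN, ⟨e⟩⟩ := h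
  have h5 := H48.NatSU.psu_cj hC p hK (by omega) (by omega) e
  obtain ⟨p', b, hp', hch, hqb, hb⟩ := LieClassical.HermBasic.exists_prime_pow hK
  obtain rfl : p' = p := CharP.eq K hch ‹_›
  rw [hqb] at h5
  exact ⟨b, h5⟩

/-- the unitary row: `PSU_N`, `4 ≤ N ≤ 7`, or `P = SU_8(q)` -/
theorem UC.gu {F : Type u} [Field F] [Fintype F] {P : Subgroup (GL (Fin 8) F)} (p : ℕ) [hp : Fact p.Prime]
    [hFp : CharP F p] (hC : Core P) {q : ℕ} (hF : Fintype.card F = q ^ 2) (hPG : P ≤ GU 8 F q) (h : UC p P) :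
    P = GU 8 F q ⊓ specialLinear (Fin 8) F ∨
      ∃ (K : Type) (_ : Field K) (_ : Fintype K) (_ : CharP K p) (N q : ℕ), Fintype.card K = q ^ 2 ∧ 4 ≤ N ∧ N ≤ 7 ∧
        Nonempty (Soc P ≃* PSU N K q) := by
  obtain ⟨K, i1, i2, i3, N, q₀, hK, hN, ⟨e⟩⟩ := h
  rcases (show N ≤ 7 ∨ 8 ≤ N by omega) with h7 | h8
  · exact Or.inr ⟨K, i1, i2, i3, N, q₀, hK, hN, h7, ⟨e⟩⟩
  · left
    have h5 := (H48.NatSU.psu_le hC p hF hPG hK (by omega) (by omega) e).2
    obtain rfl : N = 8 := by omega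
    exact (H48.NatSU.psu_eq hC p hF hPG hK (by omega) (by omega) e rfl).2

end Cfsg.Agent.H424.Eight
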