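import Mathlib
import Cfsg.Agent.H424.SimpleFacts

/-!
# Degrees of the simple groups of orders 360 and 2520

* `nine_360`, `ten_360`, `five_360`, `not_six_dvd_360`;
* `block_2520` : 5 and 7 divide degrees of a simple group of order 2520.
-/

set_option autoImplicit false

namespace Cfsg.Agent.H424.SimpleFactsAlt

open Cfsg Cfsg.Agent.Characters.Core Cfsg.Agent.H424.DegTools
open Cfsg.Agent.H424.BlockTools Cfsg.Agent.H424.BlockTools2 Cfsg.Agent.H424.GroupTools
open Cfsg.Agent.H424.CentBound Cfsg.Agent.H424.SimpleFacts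
open Cfsg.Agent.SmallSimple.LocalData Cfsg.Agent.SmallSimple.DegreeData
open Cfsg.Agent.SmallSimple.OrdersA
open Subgroup

universe u

/-- an element of order 4 of `A₆` -/
def y6 : Equiv.Perm (Fin 6) := c[0, 1, 2, 3] * c[4, 5]

/-- an element of order 5 of `A₇` -/
def y7 : Equiv.Perm (Fin 7) := c[0, 1, 2, 3, 4]

set_option maxRecDepth 100000 in
theorem card_y6 : (Finset.univ.filter (fun g : Equiv.Perm (Fin 6) =>
    y6 * g = g * y6 ∧ Equiv.Perm.sign g = 1)).card ≤ 4 := by decide +kernel

set_option maxRecDepth 100000 in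
theorem card_y7 : (Finset.univ.filter (fun g : Equiv.Perm (Fin 7) =>
    y7 * g = g * y7 ∧ Equiv.Perm.sign g = 1)).card ≤ 5 := by decide +kernel

theorem sign_y6 : y6 ∈ alternatingGroup (Fin 6) := by
  rw [Equiv.Perm.mem_alternatingGroup]
  decide +kernel

theorem sign_y7 : y7 ∈ alternatingGroup (Fin 7) := by
  rw [Equiv.Perm.mem_alternatingGroup]
  decide +kernel

theorem y6_pow : y6 ^ 4 = 1 := by decide +kernel
theorem y7_pow : y7 ^ 5 = 1 := by decide +kernel
theorem y7_ne : y7 ≠ 1 := by decide +kernel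

theorem card_centralizer_le {G : Type u} [Group G] {n k : ℕ} {y : Equiv.Perm (Fin n)}
    (hy : y ∈ alternatingGroup (Fin n))
    (hk : (Finset.univ.filter (fun g : Equiv.Perm (Fin n) =>
      y * g = g * y ∧ Equiv.Perm.sign g = 1)).card ≤ k) (e : G ≃* alternatingGroup (Fin n)) :
    Nat.card (centralizer ({e.symm ⟨y, hy⟩} : Set G)) ≤ k := by
  classical
  refine le_trans ?_ hk
  rw [← Fintype.card_coe, ← Nat.card_eq_fintype_card]
  refine Nat.card_le_card_of_injective (fun g => ⟨((e g.1 : alternatingGroup (Fin n)) :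
    Equiv.Perm (Fin n)), ?_⟩) ?_
  · rw [Finset.mem_filter]
    refine ⟨Finset.mem_univ _, ?_, ?_⟩
    · have h1 := mem_centralizer_iff.1 g.2 _ (Set.mem_singleton _)
      have h2 := congrArg (fun z => ((e z : alternatingGroup (Fin n)) : Equiv.Perm (Fin n))) h1
      simpa using h2
    · exact Equiv.Perm.mem_alternatingGroup.1 (e g.1).2
  · intro g g' h
    have h1 := congrArg Subtype.val h
    exact Subtype.ext (e.injective (Subtype.ext h1))

variable {G : Type u} [Group G] [Finite G] [IsSimpleGroup G]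

theorem nine_360 (h : Nat.card G = 360) : 9 ∈ charDegrees G := by
  have : Fact (Nat.Prime 3) := ⟨Nat.prime_three⟩
  refine of_two_transitive (Sylow 3 G) ?_ (Classification.Order360.card_sylow_three h) (by norm_num)
  rw [MulAction.is_two_pretransitive_iff]
  intro a b c d hab hcd
  obtain ⟨g, hg⟩ := MulAction.exists_smul_eq G a c
  have hb : g • b ≠ c := by
    rw [← hg]
    exact fun h => hab (smul_left_cancel g h).symm
  obtain ⟨x, hx, hx2⟩ := Classification.Order360Action.exists_smul_eq h (P := c) (Q := g • b) (R := d)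
    hb.symm hcd
  refine ⟨x * g, ?_, ?_⟩
  · rw [mul_smul, hg]
    exact Sylow.smul_eq_iff_mem_normalizer.2 (le_normalizer hx)
  · rw [mul_smul, hx2]

theorem block_360 (h : Nat.card G = 360) :
    5 ∈ degreePrimes G ∧ (∀ d ∈ charDegrees G, ¬ 6 ∣ d) ∧ 10 ∈ charDegrees G := by
  classical
  have hG := not_comm h (by norm_num)
  have : Fact (Nat.Prime 5) := ⟨by norm_num⟩
  obtain ⟨d, e, k, h1, h2, h3⟩ := data_cases h hG 5 (by norm_num) (by norm_num) (by norm_num)
    (by norm_num) [(36, 2, 1)] (by decide +kernel)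
  simp only [List.mem_cons, Prod.mk.injEq, List.mem_nil_iff, or_false] at h3
  obtain ⟨rfl, rfl, rfl⟩ := h3
  obtain ⟨M, hM, ⟨D⟩⟩ := exists_block h1 (by norm_num) default (t := 2) (by norm_num)
  have h4 := degs_simple D (h1.card_eq _) rfl h (by norm_num) (by norm_num)
    (L := [(2, 3), (3, 2), (5, 1)]) (by norm_num) (by norm_num)
    (C := [-24, -9, -4, 6, 36]) (Ds := [-18, -8, -3, 2, 12, 72]) (by decide) (o := 24) (w := 1000)
    (Q := fun l => [[-9], [-4]].contains l) (by decide +kernel)
  have h5' : D.degs = [-9] ∨ D.degs = [-4] := by simpa using h4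
  have hc : Nat.card (centralizer ((default : Sylow 5 G) : Set G)) = 5 := by
    rw [h1.card_centralizer]
  have h5 : D.degs = [-9] := by
    rcases h5' with h5 | h5
    · exact h5
    · exfalso
      have h8 := degree_cases hM D (h1.card_eq _) hc (by norm_num) (nine_360 h) (by norm_num)
      rw [h5] at h8
      simp at h8
  have hf : D.f = 8 := by
    rw [← D.natAbs_dexc, ← D.dexc_eq (by norm_num), h5]
    rfl
  have hothers : ∀ χ : IrrCharacter G, χ ∉ principalBlock M G →
      charDegree (χ : G → ℂ) = 5 ∨ charDegree (χ : G → ℂ) = 10 := by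
    intro χ hχ
    have h6 : 5 ∣ charDegree (χ : G → ℂ) := by
      by_contra h7
      exact hχ (mem_principalBlock hM D (h1.card_eq _) hc h7)
    have h7 := sq_add_le D hχ
    rw [h5, hf, h] at h7
    norm_num at h7
    have h8 : charDegree (χ : G → ℂ) ≤ 12 := by
      by_contra h9
      push Not at h9
      have h10 : (13 : ℤ) ≤ charDegree (χ : G → ℂ) := by exact_mod_cast h9
      nlinarith
    have h9 := Blocks.Knorr.charDegree_ne_zero χ.2
    omega
  have hblock : ∀ χ : IrrCharacter G, χ ∈ principalBlock M G →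
      charDegree (χ : G → ℂ) = 1 ∨ charDegree (χ : G → ℂ) = 9 ∨ charDegree (χ : G → ℂ) = 8 := by
    intro χ hχ
    have h8 := block_degree_cases D (by norm_num) hχ
    rw [h5] at h8
    simp only [List.mem_cons, List.mem_nil_iff, or_false] at h8
    rcases h8 with h8 | ⟨z, rfl, h8⟩ | h8
    · exact Or.inl h8
    · exact Or.inr (Or.inl h8.symm)
    · exact Or.inr (Or.inr h8)
  refine ⟨mem_of_rest hM D (h1.card_eq _) hc (by norm_num) h (by rw [h5]; norm_num), ?_, ?_⟩
  · rintro d ⟨χ, rfl⟩ h6
    by_cases hχ : χ ∈ principalBlock M G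
    · rcases hblock χ hχ with h7 | h7 | h7 <;> omega
    · rcases hothers χ hχ with h7 | h7 <;> omega
  · by_contra h10
    have := finite_irr (G := G)
    have := Fintype.ofFinite (IrrCharacter G)
    have hfive : ∀ χ ∈ D.others, charDegree (χ : G → ℂ) = 5 := by
      intro χ hχ
      rcases hothers χ (D.mem_others.1 hχ) with h11 | h11
      · exact h11
      · exact absurd ⟨χ, h11⟩ h10
    have h12 := D.sum_sq
    rw [h5, hf, h, Finset.sum_congr rfl fun χ hχ => by rw [hfive χ hχ], Finset.sum_const] at h12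
    norm_num at h12
    have h13 : D.others.card = 6 := by
      have : (25 : ℤ) * D.others.card = 150 := by linarith
      have h14 : (25 : ℕ) * D.others.card = 150 := by exact_mod_cast this
      omega
    obtain ⟨e⟩ := S0497.result h
    have : Fact (Nat.Prime 2) := ⟨Nat.prime_two⟩
    have h14 := card_le_centralizer (p := 2) (m := 2) (x := e.symm ⟨y6, sign_y6⟩) (by
      rw [← map_pow]
      have : (⟨y6, sign_y6⟩ : alternatingGroup (Fin 6)) ^ 2 ^ 2 = 1 := Subtype.ext y6_pow
      rw [this, map_one]) D.others (fun χ hχ => by rw [hfive χ hχ]; norm_num)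
    have h15 := card_centralizer_le sign_y6 card_y6 e
    omega

theorem block_2520 (h : Nat.card G = 2520) : 5 ∈ degreePrimes G ∧ 7 ∈ degreePrimes G := by
  classical
  have hG := not_comm h (by norm_num)
  have : Fact (Nat.Prime 5) := ⟨by norm_num⟩
  have : Fact (Nat.Prime 7) := ⟨by norm_num⟩
  obtain ⟨d, e, k, h1, h2, h3⟩ := data_cases h hG 5 (by norm_num) (by norm_num) (by norm_num)
    (by norm_num) [(21, 2, 12), (21, 4, 6), (36, 2, 7), (126, 2, 2), (126, 4, 1)]
    (by decide +kernel)
  obtain ⟨d', e', k', h1', h2', h3'⟩ := data_cases h hG 7 (by norm_num) (by norm_num) (by norm_num)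
    (by norm_num) [(36, 2, 5), (120, 3, 1)] (by decide +kernel)
  simp only [List.mem_cons, Prod.mk.injEq, List.mem_nil_iff, or_false] at h3 h3'
  have hk : k = 1 := by
    obtain ⟨f⟩ := S0984.result h
    set x := f.symm ⟨y7, sign_y7⟩ with hx
    have hx5 : x ^ 5 = 1 := by
      rw [hx, ← map_pow]
      have : (⟨y7, sign_y7⟩ : alternatingGroup (Fin 7)) ^ 5 = 1 := Subtype.ext y7_pow
      rw [this, map_one]
    have hx1 : x ≠ 1 := by
      intro h4
      have h5 : (⟨y7, sign_y7⟩ : alternatingGroup (Fin 7)) = 1 := by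
        rw [hx] at h4
        simpa using congrArg f h4
      exact y7_ne (congrArg Subtype.val h5)
    have ho : orderOf x = 5 := orderOf_eq_prime hx5 hx1
    have hc : Nat.card (zpowers x) = 5 := by rw [Nat.card_zpowers, ho]
    obtain ⟨P, hP⟩ := exists_sylow_eq (q := 5) (by norm_num) h1.not_sq_dvd (zpowers x) hc
    have h4 := h1.card_centralizer P
    have hm : x ∈ P := by
      change x ∈ (P : Subgroup _)
      rw [hP]
      exact mem_zpowers _
    have h5 : centralizer (P : Set G) ≤ centralizer {x} :=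
      centralizer_le (Set.singleton_subset_iff.2 hm)
    have h6 := (Subgroup.card_le_of_le h5).trans (card_centralizer_le sign_y7 card_y7 f)
    rw [h4] at h6
    omega
  subst hk
  have h4 : e = 4 := by omega
  subst h4
  have hk' : k' = 1 := by
    rcases h3' with h5 | h5
    · have h6 := h1'.dvd_of_dvd h1 (by norm_num) (by rw [h5.2.2])
      omega
    · exact h5.2.2
  subst hk'
  have he' : e' = 3 := by omega
  subst he'
  constructor
  · obtain ⟨M, hM, ⟨D⟩⟩ := exists_block h1 (by norm_num) default (t := 1) (by norm_num)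
    have h4 := degs_simple D (h1.card_eq _) rfl h (by norm_num) (by norm_num)
      (L := [(2, 3), (3, 2), (5, 1), (7, 1)]) (by norm_num) (by norm_num)
      (C := [-504, -84, -24, -14, -9, -4, 6, 21, 36, 56, 126])
      (Ds := [-126, -56, -36, -21, -6, -1, 4, 9, 14, 24, 84, 504]) (by decide) (o := 504)
      (w := 5000) (Q := fun l => decide (1 + (l.map (· ^ 2)).sum + 1 * (1 + l.sum) ^ 2 ≠ 2520))
      (by decide +kernel)
    rw [decide_eq_true_eq] at h4
    exact mem_of_rest hM D (h1.card_eq _) (by rw [h1.card_centralizer]) (by norm_num) h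
      (by exact_mod_cast h4)
  · obtain ⟨M, hM, ⟨D⟩⟩ := exists_block h1' (by norm_num) default (t := 2) (by norm_num)
    have h4 := degs_simple D (h1'.card_eq _) rfl h (by norm_num) (by norm_num)
      (L := [(2, 3), (3, 2), (5, 1), (7, 1)]) (by norm_num) (by norm_num)
      (C := [-90, -20, -6, 8, 15, 36, 120]) (Ds := [-60, -18, -4, 3, 10, 24, 45, 360])
      (by decide) (o := 90)
      (w := 5000) (Q := fun l => decide (1 + (l.map (· ^ 2)).sum + 2 * (1 + l.sum) ^ 2 ≠ 2520))
      (by decide +kernel)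
    rw [decide_eq_true_eq] at h4
    exact mem_of_rest hM D (h1'.card_eq _) (by rw [h1'.card_centralizer]) (by norm_num) h
      (by exact_mod_cast h4)

end Cfsg.Agent.H424.SimpleFactsAlt
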