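import Mathlib
import Cfsg.Agent.H424.GroupTools
import Cfsg.Agent.H424.SimpleFactsAlt
import Cfsg.Agent.Lib.PGroupCoprimeAction
import Cfsg.Agent.S0144

/-!
# Groups of small order which are not simple

* `not_normal` : `p` divides a degree, Sylow `p`-subgroup of order `p`: it is not normal;
* `solvable_exception` : solvable groups with a normal abelian Sylow subgroup;
* `kill_action` : `G/R` has a simple normal subgroup `T` on which a `p`-element acts trivially.
-/

set_option autoImplicit false

namespace Cfsg.Agent.H424.GSide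

open Cfsg Cfsg.Agent.H424.DegTools Cfsg.Agent.H424.GroupTools
open Cfsg.Agent.SmallSimple.PrimeLocal
open Subgroup

variable {G : Type*} [Group G] [Finite G]

theorem not_normal {p : ℕ} [Fact p.Prime] (hmem : p ∈ degreePrimes G) (P : Sylow p G)
    (hP : Nat.card P = p) : ¬ (P : Subgroup G).Normal := fun hn =>
  not_mem_degreePrimes (P : Subgroup G) (comm_of_card_prime Fact.out _ hP) P.not_dvd_index hmem

/-- The exceptional solvable groups: the Sylow `r`-subgroup is normal and abelian. -/
theorem solvable_exception [Group.IsSolvable G] {p : ℕ} [hp : Fact p.Prime] (P : Sylow p G)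
    (hP : Nat.card P = p) (hn : ¬ (P : Subgroup G).Normal) {n r c : ℕ} (hcard : Nat.card G = n)
    (hr : r.Prime) (hc0 : c ≠ 0) (hrc : ¬ r ^ (c + 1) ∣ n) (h : chk n p [r ^ c] = true) :
    r ∉ degreePrimes G := by
  obtain ⟨x, r', a, b, Q, hx, hr', hrp, hQ, ha, hb, hlt, hdvd⟩ := solvable_case P hP hn
  have hQn : r' ^ a ∣ n := by rw [← hcard, ← ha]; exact Subgroup.card_subgroup_dvd_card Q
  have h1 : r' ^ (a - b) ∣ n := (pow_dvd_pow r' (Nat.sub_le a b)).trans hQn
  have h2 := mem_of_chk h (hcard ▸ Nat.card_pos) hp.out.one_lt hr' (by omega) h1 hdvd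
  rw [List.mem_singleton] at h2
  -- `r' = r`, `a - b = c`
  have h3 : r' = r := by
    have h4 : r' ∣ r ^ c := by rw [← h2]; exact dvd_pow_self _ (by omega)
    exact (Nat.prime_dvd_prime_iff_eq hr' hr).1 (hr'.dvd_of_dvd_pow h4)
  subst h3
  have h4 : a - b = c := Nat.pow_right_injective hr.two_le h2
  have h5 : a ≤ c := by
    by_contra h6
    exact hrc ((pow_dvd_pow r' (by omega : c + 1 ≤ a)).trans hQn)
  have h6 : a = c := by omega
  have h7 : b = 0 := by omega
  subst h6 h7
  have : Fact r'.Prime := ⟨hr⟩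
  -- the centre of `Q`
  let Z : Subgroup G := (center Q).map Q.subtype
  have hZQ : Z ≤ Q := Subgroup.map_subtype_le _
  have hZn : Z.Normal := by
    have : (center Q).Characteristic := inferInstance
    exact ConjAct.normal_of_characteristic_of_normal
  have hZcard : Nat.card Z = Nat.card (center Q) :=
    (Nat.card_congr ((center Q).equivMapOfInjective Q.subtype Q.subtype_injective).toEquiv).symm
  have hQp : IsPGroup r' Q := IsPGroup.of_card ha
  have hZne : Nat.card Z ≠ 1 := by
    rw [hZcard]
    have : Nontrivial Q := by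
      rw [← Finite.one_lt_card_iff_nontrivial, ha]
      exact Nat.one_lt_pow hc0 hr.one_lt
    have := hQp.center_nontrivial
    exact (Finite.one_lt_card_iff_nontrivial.2 this).ne'
  have hmod := BpSpor.Cen.card_fix (N := Z) hx (fun n hn => hZn.conj_mem n hn x)
  have hfix : Nat.card ↥(Z ⊓ centralizer ({x} : Set G)) = 1 := by
    have h8 : Z ⊓ centralizer ({x} : Set G) ≤ Q ⊓ centralizer ({x} : Set G) :=
      inf_le_inf_right _ hZQ
    have h9 := Subgroup.card_dvd_of_le h8
    rw [hb, pow_zero] at h9
    exact Nat.dvd_one.1 h9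
  rw [hfix] at hmod
  obtain ⟨j, hj, hjc⟩ : ∃ j ≤ a, Nat.card Z = r' ^ j := by
    have h8 := Subgroup.card_dvd_of_le hZQ
    rw [ha] at h8
    exact (Nat.dvd_prime_pow hr).1 h8
  have hj0 : j ≠ 0 := by
    rintro rfl
    rw [pow_zero] at hjc
    exact hZne hjc
  have h8 : p ∣ r' ^ j - 1 := by
    rw [hjc] at hmod
    exact (Nat.modEq_iff_dvd' (Nat.one_le_pow _ _ hr.pos)).1 hmod.symm
  have h9 := mem_of_chk h (hcard ▸ Nat.card_pos) hp.out.one_lt hr hj0
    ((pow_dvd_pow r' hj).trans hQn) h8
  rw [List.mem_singleton] at h9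
  have hZeq : Z = Q := Subgroup.eq_of_le_of_card_ge hZQ (by rw [ha, hjc, h9])
  refine not_mem_degreePrimes Q ?_ ?_
  · intro y hy z hz
    have hy' : y ∈ Z := hZeq ▸ hy
    obtain ⟨y', hy', rfl⟩ := hy'
    have := mem_center_iff.1 hy' ⟨z, hz⟩
    exact (congrArg Subtype.val this).symm
  · intro h10
    apply hrc
    rw [← hcard, ← Q.card_mul_index, ha, pow_succ]
    exact Nat.mul_dvd_mul_left _ h10

/-! ### Solvability of small groups -/

theorem not_solvable_card (h : ¬ Group.IsSolvable G) (hlt : Nat.card G ≤ 100) :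
    Nat.card G = 60 := by
  obtain ⟨R, hR, hRs, hrad, T, hTn, hTs, hTna⟩ := exists_reduction h (by omega) (by
    intro h1
    have := Nat.le_of_dvd Nat.card_pos h1
    omega)
  have h1 : Nat.card T ∣ Nat.card G :=
    (Subgroup.card_subgroup_dvd_card T).trans (Subgroup.card_quotient_dvd_card R)
  have h2 := Nat.le_of_dvd Nat.card_pos h1
  have h3 : Nat.card T = 60 := by
    refine S0493.result ?_ (by omega)
    intro h
    exact hTna ⟨⟨fun a b => (IsCyclic.commGroup (α := T)).mul_comm a b⟩⟩
  rw [h3] at h1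
  obtain ⟨c, hc⟩ := h1
  have : c ≤ 1 := by omega
  have hpos : 0 < Nat.card G := Nat.card_pos
  interval_cases c <;> omega

theorem solvable_of_dvd {m : ℕ} (h : Nat.card G ∣ m) (hm : 0 < m) (hm' : m ≤ 100)
    (h60 : ¬ 60 ∣ m) : Group.IsSolvable G := by
  by_contra hs
  have h1 := Nat.le_of_dvd hm h
  have h2 := not_solvable_card hs (by omega)
  exact h60 (h2 ▸ h)

/-- If `T` is a simple nonabelian normal subgroup and `H` has no solvable normal subgroup, then the
centralizer of `T` is trivial when `|H : T|` divides a small number. -/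
theorem centralizer_eq_bot {H : Type*} [Group H] [Finite H]
    (hrad : ∀ N : Subgroup H, N.Normal → Group.IsSolvable N → N = ⊥)
    (T : Subgroup H) [hT : T.Normal] [IsSimpleGroup T] (hTna : ¬ IsMulCommutative T) {m : ℕ}
    (hm : T.index ∣ m) (hm0 : 0 < m) (hm' : m ≤ 100) (h60 : ¬ 60 ∣ m) :
    centralizer (T : Set H) = ⊥ := by
  set C := centralizer (T : Set H) with hC
  have hCn : C.Normal := Subgroup.normal_centralizer
  have hinf : C ⊓ T = ⊥ := by
    have h1 : center T = ⊥ := by
      rcases (inferInstance : (center T).Normal).eq_bot_or_eq_top with h | h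
      · exact h
      · exfalso
        apply hTna
        refine ⟨⟨fun a b => ?_⟩⟩
        have : a ∈ center T := h ▸ mem_top a
        exact (mem_center_iff.1 this b).symm
    rw [eq_bot_iff]
    rintro x ⟨hx1, hx2⟩
    have h2 : (⟨x, hx2⟩ : T) ∈ center T := by
      rw [mem_center_iff]
      intro y
      exact Subtype.ext (mem_centralizer_iff.1 hx1 y y.2)
    rw [h1, mem_bot] at h2
    exact congrArg Subtype.val h2
  apply hrad C hCn
  have hdvd : Nat.card C ∣ m := by
    refine dvd_trans ?_ hm
    have h3 := Subgroup.relIndex_dvd_index_of_normal T C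
    have h4 : T.relIndex C = Nat.card C := by
      rw [← Subgroup.inf_relIndex_right, inf_comm, hinf, Subgroup.relIndex_bot_left]
    rwa [h4] at h3
  exact solvable_of_dvd hdvd hm0 hm' h60

/-! ### Coprime action -/

/-- An element `x` of order `p` acting on `T`, `q ^ a` the `q`-part of `|T|`. -/
theorem pow_dvd_of_act {H : Type*} [Group H] [Finite H] {p : ℕ} [hp : Fact p.Prime] {x : H}
    (hx : orderOf x = p) (T : Subgroup H) [hT : T.Normal] (hpT : ¬ p ∣ Nat.card T) {q a : ℕ}
    (hq : q.Prime) (hqa : q ^ a ∣ Nat.card T) (hqa' : ¬ q ^ (a + 1) ∣ Nat.card T)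
    (hnum : ∀ j < a, ¬ q ^ a ≡ q ^ j [MOD p]) :
    q ^ a ∣ Nat.card ↥(T ⊓ centralizer ({x} : Set H)) := by
  have : Fact q.Prime := ⟨hq⟩
  have hA : IsPGroup p (zpowers x) := by
    rw [IsPGroup.iff_card]
    exact ⟨1, by rw [Nat.card_zpowers, hx, pow_one]⟩
  obtain ⟨S, ⟨S', hS'⟩, hS⟩ := Lib.PGroupCoprimeAction.exists_invariant_sylow hA hpT
    (fun b _ u hu => hT.conj_mem u hu b) q
  have hcard : Nat.card S = q ^ a := by
    rw [← hS', Nat.card_congr ((S' : Subgroup T).equivMapOfInjective T.subtype
      T.subtype_injective).symm.toEquiv]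
    have h1 := S'.card_eq_multiplicity
    have h2 : (Nat.card T).factorization q = a := by
      apply le_antisymm
      · by_contra h3
        push Not at h3
        exact hqa' ((hq.pow_dvd_iff_le_factorization Nat.card_pos.ne').2 h3)
      · exact (hq.pow_dvd_iff_le_factorization Nat.card_pos.ne').1 hqa
    rw [h2] at h1
    exact h1
  have hmod := BpSpor.Cen.card_fix (N := S) hx (fun n hn => hS x (mem_zpowers x) n hn)
  rw [hcard] at hmod
  obtain ⟨j, hj, hjc⟩ : ∃ j ≤ a, Nat.card ↥(S ⊓ centralizer ({x} : Set H)) = q ^ j := by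
    have h8 := Subgroup.card_dvd_of_le (inf_le_left : S ⊓ centralizer ({x} : Set H) ≤ S)
    rw [hcard] at h8
    exact (Nat.dvd_prime_pow hq).1 h8
  rw [hjc] at hmod
  have hja : j = a := by
    by_contra hne
    exact hnum j (by omega) hmod
  subst hja
  rw [← hjc]
  apply Subgroup.card_dvd_of_le
  apply inf_le_inf_right
  rw [← hS']
  exact Subgroup.map_subtype_le _

/-- The element of order `p` of `H`, and the centralizer. -/
theorem exists_not_centralize {n p : ℕ} [hp : Fact p.Prime] (hn : Nat.card G = n) (hpn : p ∣ n)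
    (hpn2 : ¬ p ^ 2 ∣ n) (hmem : p ∈ degreePrimes G) (R : Subgroup G) [hR : R.Normal]
    (hrad : ∀ N : Subgroup (G ⧸ R), N.Normal → Group.IsSolvable N → N = ⊥)
    (T : Subgroup (G ⧸ R)) [hTn : T.Normal] [hTs : IsSimpleGroup T] (hTna : ¬ IsMulCommutative T)
    {k m : ℕ} (hT : Nat.card T = k) (hk : n = k * m) (hm : m < p * (p + 1)) (hm0 : 0 < m)
    (hm' : m ≤ 100) (h60 : ¬ 60 ∣ m) (hpk : ¬ p ∣ k) :
    ∃ x : G ⧸ R, orderOf x = p ∧ centralizer (T : Set (G ⧸ R)) = ⊥ ∧
      ¬ T ≤ centralizer ({x} : Set (G ⧸ R)) := by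
  have hRH : Nat.card R * Nat.card (G ⧸ R) = n := by
    rw [← hn, mul_comm]
    exact (Subgroup.card_eq_card_quotient_mul_card_subgroup R).symm
  have hTH : k * T.index = Nat.card (G ⧸ R) := by rw [← hT]; exact T.card_mul_index
  have hk0 : 0 < k := hT ▸ Nat.card_pos
  have hRm : Nat.card R * T.index = m := by
    have : k * (Nat.card R * T.index) = k * m := by
      rw [← hk, ← hRH, ← hTH]; ring
    exact Nat.eq_of_mul_eq_mul_left hk0 this
  have hC := centralizer_eq_bot hrad T hTna (m := m) (hRm ▸ dvd_mul_left _ _) hm0 hm' h60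
  -- `p` does not divide `|R|`
  have hP := card_of_not_sq_dvd (hn ▸ hpn) (hn ▸ hpn2)
  have hpR : ¬ p ∣ Nat.card R := by
    intro hpR
    have hRle : Nat.card R ≤ m := Nat.le_of_dvd hm0 (hRm ▸ dvd_mul_right _ _)
    let S : Sylow p R := default
    have hS : Nat.card S = p := card_of_not_sq_dvd hpR
      (fun h => hpn2 (h.trans (hn ▸ Subgroup.card_subgroup_dvd_card R))) S
    have h1 := card_sylow_modEq_one p R
    have h2 : Nat.card (Sylow p R) * p ≤ Nat.card R := by
      have h3 := SmallSimple.BurnsideNC.card_sylow_mul_card_normalizer S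
      have h4 : p ≤ Nat.card (normalizer ((S : Subgroup R) : Set R)) := by
        have := Subgroup.card_le_of_le (le_normalizer (H := (S : Subgroup R)))
        rwa [show Nat.card (S : Subgroup R) = p from hS] at this
      calc Nat.card (Sylow p R) * p ≤ Nat.card (Sylow p R) *
            Nat.card (normalizer ((S : Subgroup R) : Set R)) := Nat.mul_le_mul_left _ h4
        _ = Nat.card R := h3
    have h5 : Nat.card (Sylow p R) = 1 := by
      have h6 : Nat.card (Sylow p R) < p + 1 := by
        by_contra h7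
        push Not at h7
        have : p * (p + 1) ≤ Nat.card (Sylow p R) * p := by
          calc p * (p + 1) = (p + 1) * p := mul_comm _ _
            _ ≤ _ := Nat.mul_le_mul_right _ h7
        omega
      have h7 : 0 < Nat.card (Sylow p R) := Nat.card_pos
      have h8 : Nat.card (Sylow p R) % p = 1 % p := h1
      rw [Nat.mod_eq_of_lt hp.out.one_lt] at h8
      by_cases h9 : Nat.card (Sylow p R) = p
      · rw [h9, Nat.mod_self] at h8; omega
      · rw [Nat.mod_eq_of_lt (by omega)] at h8
        exact h8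
    have : Subsingleton (Sylow p R) := (Nat.card_eq_one_iff_unique.1 h5).1
    have hSc : (S : Subgroup R).Characteristic := S.characteristic_of_subsingleton
    let S' : Subgroup G := (S : Subgroup R).map R.subtype
    have hS'n : S'.Normal := ConjAct.normal_of_characteristic_of_normal
    have hS'c : Nat.card S' = p := by
      rw [← hS]
      exact (Nat.card_congr ((S : Subgroup R).equivMapOfInjective R.subtype
        R.subtype_injective).toEquiv).symm
    obtain ⟨P, hPS⟩ := IsPGroup.exists_le_sylow (IsPGroup.of_card (n := 1) (by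
      rw [hS'c, pow_one]) : IsPGroup p S')
    have hPeq : S' = (P : Subgroup G) := Subgroup.eq_of_le_of_card_ge hPS (by
      rw [hS'c]; exact (hP P).le)
    exact not_normal hmem P (hP P) (hPeq ▸ hS'n)
  have hpH : p ∣ Nat.card (G ⧸ R) := by
    have h1 : p ∣ Nat.card R * Nat.card (G ⧸ R) := by rw [hRH]; exact hpn
    exact (hp.out.dvd_mul.1 h1).resolve_left hpR
  obtain ⟨x, hx⟩ := exists_prime_orderOf_dvd_card' p hpH
  refine ⟨x, hx, hC, fun hle => ?_⟩
  have h1 : x ∈ centralizer (T : Set (G ⧸ R)) := by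
    rw [mem_centralizer_iff]
    intro t ht
    exact mem_centralizer_singleton_iff.1 (hle ht)
  rw [hC, mem_bot] at h1
  rw [h1, orderOf_one] at hx
  exact hp.out.one_lt.ne hx

end Cfsg.Agent.H424.GSide
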