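import Mathlib
import Cfsg.Agent.H424.GSide

/-!
# Groups of small order which are not simple, II

`kill_sixty`, `kill_168`, `kill_504`, `kill_360` : the simple normal subgroup `T` of `G/R` has order
60, 168, 504, 360 and `G` has a degree divisible by a prime `p` not dividing `|T|`.
-/

set_option autoImplicit false

namespace Cfsg.Agent.H424.GSide2

open Cfsg Cfsg.Agent.H424.DegTools Cfsg.Agent.H424.GroupTools Cfsg.Agent.H424.GSide
open Cfsg.Agent.SmallSimple.PrimeLocal Cfsg.Agent.SmallSimple.LocalData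
open Cfsg.Agent.SmallSimple.OrdersA
open Subgroup

variable {G : Type*} [Group G] [Finite G]

theorem le_of_card_dvd {H : Type*} [Group H] [Finite H] {T C : Subgroup H}
    (h : Nat.card T ∣ Nat.card ↥(T ⊓ C)) : T ≤ C := by
  have h1 : T ⊓ C = T := Subgroup.eq_of_le_of_card_ge inf_le_left (Nat.le_of_dvd Nat.card_pos h)
  exact inf_eq_left.1 h1

theorem kill_sixty {n p m : ℕ} [hp : Fact p.Prime] (hn : Nat.card G = n) (hpn : p ∣ n)
    (hpn2 : ¬ p ^ 2 ∣ n) (hmem : p ∈ degreePrimes G) (R : Subgroup G) [hR : R.Normal]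
    (hrad : ∀ N : Subgroup (G ⧸ R), N.Normal → Group.IsSolvable N → N = ⊥)
    (T : Subgroup (G ⧸ R)) [hTn : T.Normal] [hTs : IsSimpleGroup T] (hTna : ¬ IsMulCommutative T)
    (hT : Nat.card T = 60) (hk : n = 60 * m) (hm : m < p * (p + 1)) (hm0 : 0 < m)
    (hm' : m ≤ 100) (h60 : ¬ 60 ∣ m) (hp' : p = 7 ∨ p = 11 ∨ p = 17 ∨ p = 19) : False := by
  obtain ⟨x, hx, -, hle⟩ := exists_not_centralize hn hpn hpn2 hmem R hrad T hTna hT hk hm hm0 hm'
    h60 (by rcases hp' with rfl | rfl | rfl | rfl <;> norm_num)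
  have hpT : ¬ p ∣ Nat.card T := by
    rw [hT]; rcases hp' with rfl | rfl | rfl | rfl <;> norm_num
  apply hle
  apply le_of_card_dvd
  have h2 := pow_dvd_of_act hx T hpT (q := 2) (a := 2) (by norm_num) (by rw [hT]; norm_num)
    (by rw [hT]; norm_num) (by
      intro j hj
      rcases hp' with rfl | rfl | rfl | rfl <;> (interval_cases j <;> decide))
  have h3 := pow_dvd_of_act hx T hpT (q := 3) (a := 1) (by norm_num) (by rw [hT]; norm_num)
    (by rw [hT]; norm_num) (by
      intro j hj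
      rcases hp' with rfl | rfl | rfl | rfl <;> (interval_cases j <;> decide))
  have h5 := pow_dvd_of_act hx T hpT (q := 5) (a := 1) (by norm_num) (by rw [hT]; norm_num)
    (by rw [hT]; norm_num) (by
      intro j hj
      rcases hp' with rfl | rfl | rfl | rfl <;> (interval_cases j <;> decide))
  rw [hT]
  have h6 := Nat.Coprime.mul_dvd_of_dvd_of_dvd (by norm_num) h2 h3
  exact Nat.Coprime.mul_dvd_of_dvd_of_dvd (m := 12) (n := 5) (by norm_num) h6 h5

theorem kill_168 {n m : ℕ} (hn : Nat.card G = n) (hpn : 5 ∣ n)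
    (hpn2 : ¬ 5 ^ 2 ∣ n) (hmem : 5 ∈ degreePrimes G) (R : Subgroup G) [hR : R.Normal]
    (hrad : ∀ N : Subgroup (G ⧸ R), N.Normal → Group.IsSolvable N → N = ⊥)
    (T : Subgroup (G ⧸ R)) [hTn : T.Normal] [hTs : IsSimpleGroup T] (hTna : ¬ IsMulCommutative T)
    (hT : Nat.card T = 168) (hk : n = 168 * m) (hm : m < 30) (hm0 : 0 < m) : False := by
  have : Fact (Nat.Prime 5) := ⟨by norm_num⟩
  obtain ⟨x, hx, -, hle⟩ := exists_not_centralize hn hpn hpn2 hmem R hrad T hTna hT hk
    (by omega) hm0 (by omega) (by omega) (by norm_num)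
  have hpT : ¬ 5 ∣ Nat.card T := by rw [hT]; norm_num
  apply hle
  apply le_of_card_dvd
  have h2 := pow_dvd_of_act hx T hpT (q := 2) (a := 3) (by norm_num) (by rw [hT]; norm_num)
    (by rw [hT]; norm_num) (by intro j hj; interval_cases j <;> decide)
  have h3 := pow_dvd_of_act hx T hpT (q := 3) (a := 1) (by norm_num) (by rw [hT]; norm_num)
    (by rw [hT]; norm_num) (by intro j hj; interval_cases j <;> decide)
  have h5 := pow_dvd_of_act hx T hpT (q := 7) (a := 1) (by norm_num) (by rw [hT]; norm_num)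
    (by rw [hT]; norm_num) (by intro j hj; interval_cases j <;> decide)
  rw [hT]
  have h6 := Nat.Coprime.mul_dvd_of_dvd_of_dvd (by norm_num) h2 h3
  exact Nat.Coprime.mul_dvd_of_dvd_of_dvd (m := 24) (n := 7) (by norm_num) h6 h5

theorem kill_504 {n m : ℕ} (hn : Nat.card G = n) (hpn : 5 ∣ n)
    (hpn2 : ¬ 5 ^ 2 ∣ n) (hmem : 5 ∈ degreePrimes G) (R : Subgroup G) [hR : R.Normal]
    (hrad : ∀ N : Subgroup (G ⧸ R), N.Normal → Group.IsSolvable N → N = ⊥)
    (T : Subgroup (G ⧸ R)) [hTn : T.Normal] [hTs : IsSimpleGroup T] (hTna : ¬ IsMulCommutative T)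
    (hT : Nat.card T = 504) (hk : n = 504 * m) (hm : m < 30) (hm0 : 0 < m) : False := by
  have : Fact (Nat.Prime 5) := ⟨by norm_num⟩
  obtain ⟨x, hx, -, hle⟩ := exists_not_centralize hn hpn hpn2 hmem R hrad T hTna hT hk
    (by omega) hm0 (by omega) (by omega) (by norm_num)
  have hpT : ¬ 5 ∣ Nat.card T := by rw [hT]; norm_num
  apply hle
  apply le_of_card_dvd
  have h2 := pow_dvd_of_act hx T hpT (q := 2) (a := 3) (by norm_num) (by rw [hT]; norm_num)
    (by rw [hT]; norm_num) (by intro j hj; interval_cases j <;> decide)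
  have h3 := pow_dvd_of_act hx T hpT (q := 3) (a := 2) (by norm_num) (by rw [hT]; norm_num)
    (by rw [hT]; norm_num) (by intro j hj; interval_cases j <;> decide)
  have h5 := pow_dvd_of_act hx T hpT (q := 7) (a := 1) (by norm_num) (by rw [hT]; norm_num)
    (by rw [hT]; norm_num) (by intro j hj; interval_cases j <;> decide)
  rw [hT]
  have h6 := Nat.Coprime.mul_dvd_of_dvd_of_dvd (by norm_num) h2 h3
  exact Nat.Coprime.mul_dvd_of_dvd_of_dvd (m := 72) (n := 7) (by norm_num) h6 h5

/-- A simple group of order 360 has no subgroup of order 45. -/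
theorem no_45 {T : Type*} [Group T] [Finite T] [IsSimpleGroup T] (hT : Nat.card T = 360)
    (C : Subgroup T) : Nat.card C ≠ 45 := by
  intro hC
  have hG := not_comm hT (by norm_num)
  have : Fact (Nat.Prime 5) := ⟨by norm_num⟩
  obtain ⟨d, e, k, h1, h2, h3⟩ := data_cases hT hG 5 (by norm_num) (by norm_num) (by norm_num)
    (by norm_num) [(36, 2, 1)] (by decide +kernel)
  simp only [List.mem_cons, Prod.mk.injEq, List.mem_nil_iff, or_false] at h3
  obtain ⟨rfl, rfl, rfl⟩ := h3
  let S : Sylow 5 C := default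
  have hS : Nat.card S = 5 := card_of_not_sq_dvd (by rw [hC]; norm_num) (by rw [hC]; norm_num) S
  have h4 := card_sylow_modEq_one 5 C
  have h5 := SmallSimple.BurnsideNC.card_sylow_mul_card_normalizer S
  rw [hC] at h5
  have h6 : Nat.card (Sylow 5 C) ∣ 45 := Dvd.intro _ h5
  have h7 : Nat.card (Sylow 5 C) = 1 := by
    have key : ∀ m ∈ Nat.divisors 45, m % 5 = 1 → m = 1 := by decide
    exact key _ (Nat.mem_divisors.2 ⟨h6, by norm_num⟩) h4
  have : Subsingleton (Sylow 5 C) := (Nat.card_eq_one_iff_unique.1 h7).1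
  have hSn : (S : Subgroup C).Normal := S.normal_of_subsingleton
  let S' : Subgroup T := (S : Subgroup C).map C.subtype
  have hS'c : Nat.card S' = 5 := by
    rw [← hS]
    exact (Nat.card_congr ((S : Subgroup C).equivMapOfInjective C.subtype
      C.subtype_injective).toEquiv).symm
  obtain ⟨P, hP⟩ := exists_sylow_eq (q := 5) (by norm_num) h1.not_sq_dvd S' hS'c
  have h8 : C ≤ normalizer (P : Set T) := by
    have h9 : C ≤ normalizer (S' : Set T) := by
      intro c hc
      rw [Subgroup.mem_normalizer_iff]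
      have key : ∀ c ∈ C, ∀ s ∈ S', c * s * c⁻¹ ∈ S' := by
        rintro c hc _ ⟨s, hs, rfl⟩
        exact ⟨⟨c, hc⟩ * s * ⟨c, hc⟩⁻¹, hSn.conj_mem s hs _, rfl⟩
      intro s
      refine ⟨key c hc s, fun h10 => ?_⟩
      have := key c⁻¹ (inv_mem hc) _ h10
      have e : c⁻¹ * (c * s * c⁻¹) * c⁻¹⁻¹ = s := by group
      rwa [e] at this
    have e : (P : Set T) = (S' : Set T) := by
      rw [← hP]; rfl
    rw [e]
    exact h9
  have h9 := Subgroup.card_dvd_of_le h8
  rw [h1.card_normalizer P, hC] at h9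
  norm_num at h9

theorem kill_360 {n m : ℕ} (hn : Nat.card G = n) (hpn : 7 ∣ n)
    (hpn2 : ¬ 7 ^ 2 ∣ n) (hmem : 7 ∈ degreePrimes G) (R : Subgroup G) [hR : R.Normal]
    (hrad : ∀ N : Subgroup (G ⧸ R), N.Normal → Group.IsSolvable N → N = ⊥)
    (T : Subgroup (G ⧸ R)) [hTn : T.Normal] [hTs : IsSimpleGroup T] (hTna : ¬ IsMulCommutative T)
    (hT : Nat.card T = 360) (hk : n = 360 * m) (hm : m < 56) (hm0 : 0 < m) : False := by
  have : Fact (Nat.Prime 7) := ⟨by norm_num⟩
  obtain ⟨x, hx, -, hle⟩ := exists_not_centralize hn hpn hpn2 hmem R hrad T hTna hT hk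
    (by omega) hm0 (by omega) (by omega) (by norm_num)
  have hpT : ¬ 7 ∣ Nat.card T := by rw [hT]; norm_num
  have h3 := pow_dvd_of_act hx T hpT (q := 3) (a := 2) (by norm_num) (by rw [hT]; norm_num)
    (by rw [hT]; norm_num) (by intro j hj; interval_cases j <;> decide)
  have h5 := pow_dvd_of_act hx T hpT (q := 5) (a := 1) (by norm_num) (by rw [hT]; norm_num)
    (by rw [hT]; norm_num) (by intro j hj; interval_cases j <;> decide)
  have h6 : 45 ∣ Nat.card ↥(T ⊓ centralizer ({x} : Set (G ⧸ R))) :=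
    Nat.Coprime.mul_dvd_of_dvd_of_dvd (m := 9) (n := 5) (by norm_num) h3 h5
  let C : Subgroup T := (centralizer ({x} : Set (G ⧸ R))).subgroupOf T
  have hCc : Nat.card C = Nat.card ↥(T ⊓ centralizer ({x} : Set (G ⧸ R))) := by
    rw [inf_comm, ← Subgroup.subgroupOf_map_subtype]
    exact Nat.card_congr (C.equivMapOfInjective T.subtype T.subtype_injective).toEquiv
  rw [← hCc] at h6
  by_cases hC : C = ⊤
  · exact hle (Subgroup.subgroupOf_eq_top.1 hC)
  · have h7 := Classification.Order360.six_le_index hT C hC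
    have h8 := C.card_mul_index
    rw [hT] at h8
    obtain ⟨c, hc⟩ := h6
    have h9 : c * C.index = 8 := by
      have : 45 * (c * C.index) = 45 * 8 := by rw [← mul_assoc, ← hc, h8]
      omega
    have h10 : c = 1 := by
      have h11 : c ∣ 8 := Dvd.intro _ h9
      have h12 : c ≤ 8 := Nat.le_of_dvd (by norm_num) h11
      interval_cases c <;> omega
    rw [h10, mul_one] at hc
    exact no_45 hT C hc

/-- In the case `|T| = 168` a degree of `G` is divisible by 6. -/
theorem six_of_168 (R : Subgroup G) [hR : R.Normal] (T : Subgroup (G ⧸ R)) [hTn : T.Normal]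
    [hTs : IsSimpleGroup T] (hT : Nat.card T = 168) : ∃ d ∈ charDegrees G, 6 ∣ d := by
  obtain ⟨d, hd, h6, -⟩ := clifford_up T (SimpleFacts.six_168 hT)
  exact ⟨d, charDegrees_of_surjective (QuotientGroup.mk' R) (QuotientGroup.mk'_surjective R) hd, h6⟩

end Cfsg.Agent.H424.GSide2
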