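import Mathlib
import Cfsg.Agent.H424.GSide2
import Cfsg.Agent.S0154

/-!
# Groups of order 360 with a composition factor of order 60

Such a group has a degree divisible by 6 or no degree divisible by 10.
-/

set_option autoImplicit false

namespace Cfsg.Agent.H424.GSide3

open Cfsg Cfsg.Agent.H424.DegTools Cfsg.Agent.H424.GroupTools Cfsg.Agent.H424.GSide
open Cfsg.Agent.Characters.Core
open Cfsg.Agent.H424.BlockTools Cfsg.Agent.H424.BlockTools2
open Cfsg.Agent.SmallSimple.PrimeLocal Cfsg.Agent.SmallSimple.LocalData
open Cfsg.Agent.SmallSimple.OrdersA Cfsg.Agent.SmallSimple.DegreeData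
open Subgroup
open scoped Pointwise commutatorElement

/-- A simple group of order 60 has six Sylow 5-subgroups. -/
theorem data_sixty {T : Type*} [Group T] [Finite T] [IsSimpleGroup T] (hT : Nat.card T = 60) :
    Data T 5 2 1 ∧ Nat.card (Sylow 5 T) = 6 := by
  have hG := not_comm hT (by norm_num)
  obtain ⟨d, e, k, h1, h2, h3⟩ := data_cases hT hG 5 (by norm_num) (by norm_num) (by norm_num)
    (by norm_num) [(6, 2, 1)] (by decide +kernel)
  simp only [List.mem_cons, Prod.mk.injEq, List.mem_nil_iff, or_false] at h3
  obtain ⟨rfl, rfl, rfl⟩ := h3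
  exact ⟨h1, h2⟩

/-- A simple group of order 60 has an irreducible character of degree 3. -/
theorem three_sixty {T : Type*} [Group T] [Finite T] [IsSimpleGroup T] (hT : Nat.card T = 60) :
    3 ∈ charDegrees T := by
  have : Fact (Nat.Prime 5) := ⟨by norm_num⟩
  obtain ⟨h1, -⟩ := data_sixty hT
  obtain ⟨M, hM, ⟨D⟩⟩ := exists_block h1 (by norm_num) default (t := 2) (by norm_num)
  have h4 := degs_simple D (h1.card_eq _) rfl hT (by norm_num) (by norm_num)
    (L := [(2, 2), (3, 1), (5, 1)]) (by norm_num) (by norm_num)
    (C := [-4, 6]) (Ds := [-3, 2, 12]) (by decide) (o := 4) (w := 1000)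
    (Q := fun l => [[-4]].contains l) (by decide +kernel)
  have h5 : D.degs = [-4] := by simpa using h4
  have h6 := dexc_mem D (by norm_num)
  rw [h5] at h6
  exact h6

section H

variable {H : Type*} [Group H] [Finite H] (T : Subgroup H) [hTn : T.Normal] [hTs : IsSimpleGroup T]

include hTs in
theorem sylow_facts [Fact (Nat.Prime 5)] (hT : Nat.card T = 60) (hC : centralizer (T : Set H) = ⊥)
    (hH : Nat.card H ∣ 360) (P : Sylow 5 H) :
    Nat.card (Sylow 5 H) = 6 ∧ Nat.card P = 5 ∧ centralizer (P : Set H) = (P : Subgroup H) := by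
  have h5H : 5 ∣ Nat.card H := by
    have := Subgroup.card_subgroup_dvd_card T
    rw [hT] at this
    exact (by norm_num : 5 ∣ 60).trans this
  have h25H : ¬ 5 ^ 2 ∣ Nat.card H := fun h => by
    have := h.trans hH
    norm_num at this
  have hcard : ∀ Q : Sylow 5 H, Nat.card Q = 5 := card_of_not_sq_dvd h5H h25H
  obtain ⟨hd, hn6⟩ := data_sixty hT
  -- every Sylow 5-subgroup is contained in `T`
  have hle : ∀ Q : Sylow 5 H, (Q : Subgroup H) ≤ T := by
    intro Q
    obtain ⟨S⟩ : Nonempty (Sylow 5 T) := inferInstance
    let S' : Subgroup H := (S : Subgroup T).map T.subtype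
    have hS'c : Nat.card S' = 5 := by
      rw [← hd.card_eq S]
      exact (Nat.card_congr ((S : Subgroup T).equivMapOfInjective T.subtype
        T.subtype_injective).toEquiv).symm
    obtain ⟨Q', hQ'⟩ := exists_sylow_eq (q := 5) (by norm_num) h25H S' hS'c
    obtain ⟨g, hg⟩ := MulAction.exists_smul_eq H Q' Q
    intro z hz
    rw [← hg] at hz
    have hz' : z ∈ (MulAut.conj g • (Q' : Subgroup H)) := hz
    rw [hQ', Subgroup.mem_smul_pointwise_iff_exists] at hz'
    obtain ⟨s, hs, rfl⟩ := hz'
    have hsT : s ∈ T := Subgroup.map_subtype_le _ hs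
    exact hTn.conj_mem s hsT g
  have hn : Nat.card (Sylow 5 H) = 6 := by
    have h1 : Nat.card (Sylow 5 H) ≤ Nat.card (Sylow 5 T) :=
      Nat.card_le_card_of_injective (fun Q => Q.subtype (hle Q)) fun Q Q' h =>
        Sylow.subtype_injective h
    rw [hn6] at h1
    have h2 := card_sylow_modEq_one 5 H
    have h3 : Nat.card (Sylow 5 H) ≠ 1 := by
      intro h4
      have : Subsingleton (Sylow 5 H) := (Nat.card_eq_one_iff_unique.1 h4).1
      have hPn : (P : Subgroup H).Normal := P.normal_of_subsingleton
      have h5 : ((P : Subgroup H).subgroupOf T).Normal := hPn.subgroupOf T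
      rcases h5.eq_bot_or_eq_top with h6 | h6
      · rw [Subgroup.subgroupOf_eq_bot] at h6
        have h7 : (P : Subgroup H) = ⊥ := h6.eq_bot_of_le (hle P)
        have h8 := hcard P
        rw [show Nat.card P = Nat.card (P : Subgroup H) from rfl, h7, Subgroup.card_bot] at h8
        norm_num at h8
      · rw [Subgroup.subgroupOf_eq_top] at h6
        have := Subgroup.card_le_of_le h6
        rw [hT, show Nat.card (P : Subgroup H) = 5 from hcard P] at this
        omega
    have h4 : 0 < Nat.card (Sylow 5 H) := Nat.card_pos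
    have h5 : Nat.card (Sylow 5 H) % 5 = 1 % 5 := h2
    omega
  -- the action on the Sylow 5-subgroups is faithful
  have hker : (MulAction.toPermHom H (Sylow 5 H)).ker = ⊥ := by
    set K := (MulAction.toPermHom H (Sylow 5 H)).ker with hK
    have hKT : K ⊓ T = ⊥ := by
      have h5 : (K.subgroupOf T).Normal := (inferInstance : K.Normal).subgroupOf T
      rcases h5.eq_bot_or_eq_top with h6 | h6
      · rw [Subgroup.subgroupOf_eq_bot] at h6
        exact h6.eq_bot
      · exfalso
        rw [Subgroup.subgroupOf_eq_top] at h6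
        have h7 : ((P : Subgroup H).subgroupOf T).Normal := by
          rw [Subgroup.normal_subgroupOf_iff_le_normalizer (hle P)]
          intro t ht
          have h8 : t ∈ K := h6 ht
          rw [hK, MonoidHom.mem_ker] at h8
          have h9 : t • P = P := by
            have := congrArg (fun σ : Equiv.Perm (Sylow 5 H) => σ P) h8
            exact this
          exact Sylow.smul_eq_iff_mem_normalizer.1 h9
        rcases h7.eq_bot_or_eq_top with h8 | h8
        · rw [Subgroup.subgroupOf_eq_bot] at h8
          have h7 : (P : Subgroup H) = ⊥ := h8.eq_bot_of_le (hle P)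
          have h8 := hcard P
          rw [show Nat.card P = Nat.card (P : Subgroup H) from rfl, h7, Subgroup.card_bot] at h8
          norm_num at h8
        · rw [Subgroup.subgroupOf_eq_top] at h8
          have := Subgroup.card_le_of_le h8
          rw [hT, show Nat.card (P : Subgroup H) = 5 from hcard P] at this
          omega
    have h1 : K ≤ centralizer (T : Set H) := by
      intro x hx
      rw [mem_centralizer_iff]
      intro t ht
      have h2 : t * x * t⁻¹ * x⁻¹ ∈ K ⊓ T := by
        refine ⟨?_, ?_⟩
        · exact K.mul_mem ((inferInstance : K.Normal).conj_mem x hx t) (K.inv_mem hx)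
        · have : t * x * t⁻¹ * x⁻¹ = t * (x * t⁻¹ * x⁻¹) := by group
          rw [this]
          exact T.mul_mem ht (hTn.conj_mem _ (T.inv_mem ht) x)
      rw [hKT, mem_bot] at h2
      have h3 : t * x = x * t := by
        have : t * x * t⁻¹ * x⁻¹ * (x * t) = t * x := by group
        rw [h2, one_mul] at this
        exact this.symm
      exact h3
    rw [hC, le_bot_iff] at h1
    exact h1
  refine ⟨hn, hcard P, ?_⟩
  have hPC : (P : Subgroup H) ≤ centralizer (P : Set H) := by
    have : IsCyclic (P : Subgroup H) := isCyclic_of_prime_card (hcard P)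
    have : IsMulCommutative (P : Subgroup H) := inferInstance
    exact Subgroup.le_centralizer (P : Subgroup H)
  refine le_antisymm (fun c hc => ?_) hPC
  obtain ⟨Q, hQ⟩ : ∃ Q : Sylow 5 H, Q ≠ P := by
    have : Nontrivial (Sylow 5 H) := by
      rw [← Finite.one_lt_card_iff_nontrivial, hn]
      norm_num
    exact exists_ne P
  have hcP : c • P = P := Sylow.smul_eq_iff_mem_normalizer.2 (centralizer_le_normalizer _ hc)
  have hcQ : c • Q ≠ P := by
    rw [← hcP]
    exact fun h => hQ (smul_left_cancel c h)
  obtain ⟨z, hz, hzQ⟩ := SmallSimple.DegreePPlusOne.exists_smul_eq P (hcard P) hn Q (c • Q) hQ hcQ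
  have h1 : z⁻¹ * c ∈ (MulAction.toPermHom H (Sylow 5 H)).ker := by
    rw [MonoidHom.mem_ker]
    ext1 R
    change (z⁻¹ * c) • R = R
    by_cases hR : R = P
    · rw [hR, mul_smul, hcP]
      exact Sylow.smul_eq_iff_mem_normalizer.2 (inv_mem (le_normalizer hz))
    · obtain ⟨w, hw, rfl⟩ := SmallSimple.DegreePPlusOne.exists_smul_eq P (hcard P) hn Q R hQ hR
      have hcomm : z⁻¹ * c * w = w * (z⁻¹ * c) := by
        have e1 : c * w = w * c := (mem_centralizer_iff.1 hc w hw).symm
        have e2 : z⁻¹ * w = w * z⁻¹ := (mem_centralizer_iff.1 (hPC hw) z⁻¹ ((P : Subgroup H).inv_mem hz))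
        rw [mul_assoc, e1, ← mul_assoc, e2, mul_assoc]
      rw [← mul_smul, hcomm, mul_smul, mul_smul z⁻¹ c, ← hzQ, inv_smul_smul]
  rw [hker, mem_bot] at h1
  have h2 : c = z := by
    have := congrArg (fun y => z * y) h1
    simpa using this
  rw [h2]
  exact hz

end H

/-- The number of linear characters is at least one more than the number of ones in `degs`. -/
theorem count_one_lt {H : Type*} [Group H] [Finite H] {p e t : ℕ} {M : Ideal AlgInt}
    {P : Sylow p H} (D : BlockData p M P e t) :
    D.degs.count 1 < (commutator H).index := by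
  classical
  rw [← S0154.result (G := H)]
  have := finite_irr (G := H)
  set L := (D.one :: D.l).filter (fun χ => decide (D.sd χ = 1)) with hL
  have hLn : L.Nodup := D.nodup.filter _
  have hLen : L.length = D.degs.count 1 + 1 := by
    have h1 : charDegree (D.one : H → ℂ) = 1 := by
      apply Blocks.Knorr.charDegree_of_natCast
      rw [D.coe_one]; simp
    have hone : D.sd D.one = 1 := by
      rw [BlockData.sd, D.ε_one, h1]; norm_num
    rw [hL, List.filter_cons, if_pos (by rw [hone]; rfl), List.length_cons]
    congr 1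
    rw [BlockData.degs, List.count, List.countP_map, List.countP_eq_length_filter]
    congr 1
  have hmem : ∀ χ ∈ L, (χ : H → ℂ) 1 = 1 := by
    intro χ hχ
    rw [hL, List.mem_filter, decide_eq_true_eq] at hχ
    rw [Blocks.Basic.irr_one_eq_charDegree χ.2, ← D.natAbs_sd hχ.1, hχ.2]
    norm_num
  have h2 : L.toFinset.card ≤ Nat.card {χ : IrrCharacter H // (χ : H → ℂ) 1 = 1} := by
    rw [← Fintype.card_coe, ← Nat.card_eq_fintype_card]
    refine Nat.card_le_card_of_injective (fun χ => ⟨χ.1, hmem χ.1 (List.mem_toFinset.1 χ.2)⟩) ?_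
    intro χ χ' h
    have h' := congrArg Subtype.val h
    exact Subtype.ext h'
  rw [List.toFinset_card_of_nodup hLn, hLen] at h2
  omega

/-- The case of order 120. -/
theorem six_of_120 {H : Type*} [Group H] [Finite H] (T : Subgroup H) [hTn : T.Normal]
    [hTs : IsSimpleGroup T] (hT : Nat.card T = 60) (hC : centralizer (T : Set H) = ⊥)
    (hH : Nat.card H = 120) : ∃ d ∈ charDegrees H, 6 ∣ d := by
  have : Fact (Nat.Prime 5) := ⟨by norm_num⟩
  obtain ⟨P⟩ : Nonempty (Sylow 5 H) := inferInstance
  obtain ⟨h1, h2, h3⟩ := sylow_facts T hT hC (by rw [hH]; norm_num) P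
  have hN := SmallSimple.BurnsideNC.card_sylow_mul_card_normalizer P
  rw [h1, hH] at hN
  obtain ⟨M, hM, ⟨D⟩⟩ := exists_block_of_card (e := 4) (c := 5) (t := 1) (by norm_num) P h2
    (by rw [h3]; exact h2) (by omega) (by norm_num)
  have hidx : (commutator H).index ≤ 2 := by
    have hTidx : T.index = 2 := by
      have := T.card_mul_index
      rw [hT, hH] at this
      omega
    have hperf : commutator T = ⊤ := MTwelve.SmallDegree.commutator_eq_top_of_card
      (by rw [hT]; norm_num)
    have hle : T ≤ commutator H := by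
      have h4 : (commutator T).map T.subtype ≤ commutator H := by
        rw [commutator_def, commutator_def, Subgroup.map_commutator]
        exact Subgroup.commutator_mono le_top le_top
      rw [hperf, ← MonoidHom.range_eq_map, Subgroup.range_subtype] at h4
      exact h4
    have := Subgroup.index_dvd_of_le hle
    rw [hTidx] at this
    exact Nat.le_of_dvd (by norm_num) this
  have hcount := count_one_lt D
  have h4 := SmallSimple.DegreeCheck.degs_check D h2 (by norm_num) hH
    (L := [(2, 3), (3, 1), (5, 1)]) (by norm_num) (by norm_num)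
    (F := fun _ => true) (FX := fun _ => true)
    (C := [-24, -4, 1, 6]) (Ds := [-6, -1, 4, 24]) (o := 24) (w := 1000) (M := 0)
    (wt := fun _ => 0) (V := 0)
    (P := fun l => decide (2 ≤ l.count 1) || l.contains 6 || decide (1 + l.sum = -6))
    (fun _ _ => rfl) rfl (by decide) (Or.inl rfl) (by decide +kernel)
  simp only [Bool.or_eq_true, decide_eq_true_eq, List.contains_iff_mem] at h4
  rcases h4 with (h4 | h4) | h4
  · omega
  · exact ⟨_, degs_mem D h4, by norm_num⟩
  · have h5 := dexc_mem D (by norm_num)
    rw [h4] at h5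
    exact ⟨_, h5, by norm_num⟩

/-! ### Groups of order 6 -/

/-- A nonabelian group has an irreducible character of degree greater than one. -/
theorem exists_ne_one {R : Type*} [Group R] [Finite R] (h : ¬ ∀ a b : R, a * b = b * a) :
    ∃ d ∈ charDegrees R, d ≠ 1 := by
  by_contra hcon
  push Not at hcon
  have := finite_irr (G := R)
  have := Fintype.ofFinite (IrrCharacter R)
  have h1 : ∀ χ : IrrCharacter R, charDegree (χ : R → ℂ) = 1 := fun χ => hcon _ ⟨χ, rfl⟩
  have h2 := sum_sq (G := R)
  simp only [h1, one_pow, Finset.sum_const, smul_eq_mul, mul_one, Finset.card_univ] at h2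
  have h3 := S0154.result (G := R)
  have h4 : Nat.card {χ : IrrCharacter R // (χ : R → ℂ) 1 = 1} = Nat.card (IrrCharacter R) := by
    apply Nat.card_congr
    refine Equiv.subtypeUnivEquiv fun χ => ?_
    rw [Blocks.Basic.irr_one_eq_charDegree χ.2, h1, Nat.cast_one]
  rw [h4, Nat.card_eq_fintype_card, h2] at h3
  apply h
  have h5 : commutator R = ⊥ := by
    have h6 := (commutator R).card_mul_index
    rw [← h3] at h6
    have h7 : Nat.card (commutator R) = 1 := by
      have h8 : 0 < Nat.card R := Nat.card_pos
      exact Nat.eq_of_mul_eq_mul_right h8 (by rw [h6, one_mul])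
    exact Subgroup.card_eq_one.1 h7
  intro a b
  have h6 : ⁅a, b⁆ ∈ commutator R := by
    rw [_root_.commutator_def]
    exact Subgroup.commutator_mem_commutator (mem_top a) (mem_top b)
  rw [h5, mem_bot] at h6
  exact commutatorElement_eq_one_iff_mul_comm.1 h6

/-- A group of order 6 has at most 36 automorphisms. -/
theorem card_mulAut_le {R : Type*} [Group R] [Finite R] (hR : Nat.card R = 6) :
    Nat.card (MulAut R) ≤ 36 := by
  have : Fact (Nat.Prime 2) := ⟨Nat.prime_two⟩
  have : Fact (Nat.Prime 3) := ⟨Nat.prime_three⟩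
  obtain ⟨x, hx⟩ := exists_prime_orderOf_dvd_card' (G := R) 2 (by rw [hR]; norm_num)
  obtain ⟨y, hy⟩ := exists_prime_orderOf_dvd_card' (G := R) 3 (by rw [hR]; norm_num)
  have hxy : closure {x, y} = ⊤ := by
    apply Subgroup.eq_top_of_card_eq
    rw [hR]
    have h1 : 2 ∣ Nat.card (closure {x, y}) := by
      rw [← hx]
      exact Subgroup.orderOf_dvd_natCard _ (subset_closure (by simp))
    have h2 : 3 ∣ Nat.card (closure {x, y}) := by
      rw [← hy]
      exact Subgroup.orderOf_dvd_natCard _ (subset_closure (by simp))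
    have h3 : 6 ∣ Nat.card (closure {x, y}) :=
      Nat.Coprime.mul_dvd_of_dvd_of_dvd (m := 2) (n := 3) (by norm_num) h1 h2
    have h4 := Subgroup.card_subgroup_dvd_card (closure {x, y})
    rw [hR] at h4
    exact Nat.dvd_antisymm h4 h3
  have hinj : Function.Injective (fun f : MulAut R => (f x, f y)) := by
    intro f g h
    simp only [Prod.mk.injEq] at h
    have h1 : f.toMonoidHom = g.toMonoidHom := by
      apply MonoidHom.eq_of_eqOn_dense hxy
      intro z hz
      rcases hz with rfl | rfl
      · exact h.1
      · exact h.2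
    ext z
    exact DFunLike.congr_fun h1 z
  refine (Nat.card_le_card_of_injective _ hinj).trans ?_
  rw [Nat.card_prod, hR]

theorem center_eq_bot {R : Type*} [Group R] [Finite R] (hR : Nat.card R = 6)
    (hc : ¬ ∀ a b : R, a * b = b * a) : center R = ⊥ := by
  by_contra hne
  have h1 := (center R).card_mul_index
  rw [hR] at h1
  have h2 : Nat.card (center R) ≠ 1 := fun h => hne (Subgroup.card_eq_one.1 h)
  have h3 : (center R).index ∣ 6 := Dvd.intro_left _ h1
  have h4 : (center R).index ≤ 6 := Nat.le_of_dvd (by norm_num) h3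
  have h5 : (center R).index ≤ 3 := by
    by_contra h6
    interval_cases h7 : (center R).index <;> omega
  have hcyc : IsCyclic (R ⧸ center R) := by
    have h6 : Nat.card (R ⧸ center R) ≤ 3 := h5
    have h7 : 0 < Nat.card (R ⧸ center R) := Nat.card_pos
    interval_cases h8 : Nat.card (R ⧸ center R)
    · have : Subsingleton (R ⧸ center R) := (Nat.card_eq_one_iff_unique.1 h8).1
      infer_instance
    · have : Fact (Nat.Prime 2) := ⟨Nat.prime_two⟩
      exact isCyclic_of_prime_card h8
    · have : Fact (Nat.Prime 3) := ⟨Nat.prime_three⟩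
      exact isCyclic_of_prime_card h8
  apply hc
  intro a b
  exact (MonoidHom.isMulCommutative_of_isCyclic_of_ker_le_center (QuotientGroup.mk' (center R))
    (by rw [QuotientGroup.ker_mk'])).is_comm.comm a b

theorem two_of_six {R : Type*} [Group R] [Finite R] (hR : Nat.card R = 6)
    (hc : ¬ ∀ a b : R, a * b = b * a) : 2 ∈ charDegrees R := by
  obtain ⟨d, hd, h1⟩ := exists_ne_one hc
  have h2 := sq_le hd ⊥ bot_le
  rw [Subgroup.index_bot, hR] at h2
  have h3 := pos_of_mem hd
  have h4 : d ≤ 2 := by nlinarith
  have h5 : d = 2 := by omega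
  exact h5 ▸ hd

/-- The case where `R` has order 6 and `G/R` is simple of order 60. -/
theorem case_sixty {G : Type*} [Group G] [Finite G] (hG : Nat.card G = 360) (R : Subgroup G)
    [hRn : R.Normal] (hR : Nat.card R = 6) [hs : IsSimpleGroup (G ⧸ R)]
    {d : ℕ} (hd : d ∈ charDegrees G) (hd10 : 8 ≤ d) : 6 ∈ charDegrees G := by
  have hQ : Nat.card (G ⧸ R) = 60 := by
    have := R.card_eq_card_quotient_mul_card_subgroup
    rw [hG, hR] at this
    omega
  set C := centralizer (R : Set G) with hC
  have hCn : C.Normal := Subgroup.normal_centralizer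
  have hCm : (C.map (QuotientGroup.mk' R)).Normal :=
    hCn.map _ (QuotientGroup.mk'_surjective R)
  rcases hCm.eq_bot_or_eq_top with h1 | h1
  · exfalso
    -- `C ≤ R`
    have h2 : C ≤ R := by
      have := (Subgroup.map_eq_bot_iff _).1 h1
      rwa [QuotientGroup.ker_mk'] at this
    have h3 : Nat.card C ≤ 6 := by rw [← hR]; exact Subgroup.card_le_of_le h2
    have h4 : C.index ≤ 36 := by
      have h5 : (MulAut.conjNormal (H := R)).ker = C := by
        ext g
        rw [MonoidHom.mem_ker, hC, mem_centralizer_iff]
        constructor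
        · intro h r hr
          have := congrArg (fun f : MulAut R => ((f ⟨r, hr⟩ : R) : G)) h
          simp only [MulAut.conjNormal_apply, MulAut.one_apply] at this
          rw [mul_inv_eq_iff_eq_mul] at this
          exact this.symm
        · intro h
          ext r
          rw [MulAut.conjNormal_apply, MulAut.one_apply, mul_inv_eq_iff_eq_mul]
          exact (h r r.2).symm
      rw [← h5, Subgroup.index_ker]
      exact (Subgroup.card_le_card_group _).trans (card_mulAut_le hR)
    have h5 := C.card_mul_index
    rw [hG] at h5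
    nlinarith
  · by_cases hc : ∀ a b : R, a * b = b * a
    · exfalso
      have h2 : R ≤ C := by
        intro a ha
        rw [hC, mem_centralizer_iff]
        intro b hb
        exact congrArg Subtype.val (hc ⟨b, hb⟩ ⟨a, ha⟩)
      have h3 : C = ⊤ := by
        have h4 : C ⊔ R = ⊤ := by
          rw [sup_comm, ← QuotientGroup.comap_map_mk', h1, Subgroup.comap_top]
        rwa [sup_eq_left.2 h2] at h4
      have h4 : R ≤ center G := by
        intro a ha
        rw [mem_center_iff]
        intro g
        have : g ∈ C := h3 ▸ mem_top g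
        exact (mem_centralizer_iff.1 this a ha).symm
      have h5 := sq_le hd R h4
      have h6 : R.index = 60 := hQ
      rw [h6] at h5
      nlinarith
    · -- direct product
      have hZ := center_eq_bot hR hc
      have hcomm : ∀ (c : C) (r : R), Commute (C.subtype c) (R.subtype r) := fun c r =>
        (mem_centralizer_iff.1 c.2 r r.2).symm
      let f : C × R →* G := C.subtype.noncommCoprod R.subtype hcomm
      have hsurj : Function.Surjective f := by
        rw [← MonoidHom.range_eq_top, MonoidHom.noncommCoprod_range, Subgroup.range_subtype,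
          Subgroup.range_subtype]
        rw [sup_comm, ← QuotientGroup.comap_map_mk', h1, Subgroup.comap_top]
      have hinj : Function.Injective f := by
        rw [MonoidHom.noncommCoprod_injective]
        refine ⟨C.subtype_injective, R.subtype_injective, ?_⟩
        rw [Subgroup.range_subtype, Subgroup.range_subtype, disjoint_iff, eq_bot_iff]
        rintro x ⟨hx1, hx2⟩
        have h2 : (⟨x, hx2⟩ : R) ∈ center R := by
          rw [mem_center_iff]
          intro r
          exact Subtype.ext (mem_centralizer_iff.1 hx1 r r.2)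
        rw [hZ, mem_bot] at h2
        exact congrArg Subtype.val h2
      have h3 : 3 ∈ charDegrees C := by
        refine charDegrees_of_surjective ((QuotientGroup.mk' R).comp C.subtype) ?_
          (three_sixty hQ)
        rw [← MonoidHom.range_eq_top, MonoidHom.range_comp, Subgroup.range_subtype]
        exact h1
      have h4 := mul_mem_prod h3 (two_of_six hR hc)
      exact charDegrees_of_surjective (MulEquiv.ofBijective f ⟨hinj, hsurj⟩).symm.toMonoidHom
        (MulEquiv.ofBijective f ⟨hinj, hsurj⟩).symm.surjective h4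

/-- **The case of order 360.** -/
theorem kill_360_60 {G : Type*} [Group G] [Finite G] (hG : Nat.card G = 360)
    {d : ℕ} (hd : d ∈ charDegrees G) (hd10 : 8 ≤ d) (h6 : ∀ d ∈ charDegrees G, ¬ 6 ∣ d)
    (R : Subgroup G) [hR : R.Normal]
    (hrad : ∀ N : Subgroup (G ⧸ R), N.Normal → Group.IsSolvable N → N = ⊥)
    (T : Subgroup (G ⧸ R)) [hTn : T.Normal] [hTs : IsSimpleGroup T] (hTna : ¬ IsMulCommutative T)
    (hT : Nat.card T = 60) : False := by
  have hH : Nat.card (G ⧸ R) ∣ 360 := hG ▸ Subgroup.card_quotient_dvd_card R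
  have hTi := T.card_mul_index
  rw [hT] at hTi
  have hidx : T.index ∣ 6 := by
    rw [← hTi] at hH
    exact Nat.dvd_of_mul_dvd_mul_left (k := 60) (by norm_num) hH
  have hC := centralizer_eq_bot hrad T hTna hidx (by norm_num) (by norm_num) (by norm_num)
  have : Fact (Nat.Prime 5) := ⟨by norm_num⟩
  obtain ⟨P⟩ : Nonempty (Sylow 5 (G ⧸ R)) := inferInstance
  obtain ⟨h1, h2, h3⟩ := sylow_facts T hT hC hH P
  have hN := SmallSimple.BurnsideNC.card_sylow_mul_card_normalizer P
  rw [h1] at hN
  have h4 := SmallSimple.BurnsideNC.relIndex_dvd_of_card_eq_prime P h2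
  rw [h3] at h4
  have h5 : Nat.card (P : Subgroup (G ⧸ R)) *
      (P : Subgroup (G ⧸ R)).relIndex (normalizer (P : Set (G ⧸ R))) =
      Nat.card (normalizer (P : Set (G ⧸ R))) := by
    rw [Subgroup.relIndex, ← Subgroup.card_mul_index ((P : Subgroup (G ⧸ R)).subgroupOf
      (normalizer (P : Set (G ⧸ R))))]
    congr 1
    exact (Nat.card_congr (Subgroup.subgroupOfEquivOfLe Subgroup.le_normalizer).toEquiv).symm
  rw [show Nat.card (P : Subgroup (G ⧸ R)) = 5 from h2] at h5
  set k := (P : Subgroup (G ⧸ R)).relIndex (normalizer (P : Set (G ⧸ R))) with hk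
  have h7 : k ∣ 4 := h4
  have h8 : k ≤ 4 := Nat.le_of_dvd (by norm_num) h7
  have h9 : T.index ≤ 6 := Nat.le_of_dvd (by norm_num) hidx
  have h10 : Nat.card (G ⧸ R) = 60 ∨ Nat.card (G ⧸ R) = 120 := by
    rw [← h5] at hN
    interval_cases k <;> omega
  rcases h10 with h10 | h10
  · -- order 60
    have hT' : T = ⊤ := Subgroup.eq_top_of_card_eq T (hT.trans h10.symm)
    have hs : IsSimpleGroup (G ⧸ R) := by
      subst hT'
      exact (Subgroup.topEquiv (G := G ⧸ R)).symm.isSimpleGroup
    have hR6 : Nat.card R = 6 := by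
      have := R.card_eq_card_quotient_mul_card_subgroup
      rw [hG, h10] at this
      omega
    exact h6 6 (case_sixty hG R hR6 hd hd10) dvd_rfl
  · obtain ⟨c, hc, hc6⟩ := six_of_120 T hT hC h10
    exact h6 c (charDegrees_of_surjective (QuotientGroup.mk' R)
      (QuotientGroup.mk'_surjective R) hc) hc6

end Cfsg.Agent.H424.GSide3
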