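import Cfsg.Agent.H424.M22Lin
import Cfsg.Agent.H906.E9

/-!
# Characteristic not three: eight weights of multiplicity one (helper424)
-/

set_option autoImplicit false
set_option linter.unusedSectionVars false

namespace Cfsg.Agent.H424.M22

open Module Module.End Cfsg.Agent.H906.E9

variable {Ω V : Type*} [Field Ω] [AddCommGroup V] [Module Ω V]

lemma closed_all : ∀ S : Finset (ZMod 3 × ZMod 3), (∀ x ∈ S, (x.2, -x.1) ∈ S) →
    (∀ x ∈ S, (x.1 + x.2, x.1 - x.2) ∈ S) → (∃ x ∈ S, x ≠ 0) → ∀ x, x ≠ 0 → x ∈ S := by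
  decide +kernel

theorem all_weights (h3 : (3 : Ω) ≠ 0) {w : Ω} (hw : w ^ 2 + w + 1 = 0)
    (D C i j : Module.End Ω V) (hD : D ^ 3 = 1) (hC : C ^ 3 = 1)
    (hDC : D * C = C * D) (hne : D ≠ 1) (hi : Function.Injective i) (hj : Function.Injective j)
    (h1 : i * D = C ^ 2 * i) (h2 : i * C = D * i) (h4 : j * D = D ^ 2 * C ^ 2 * j) (h5 : j * C = D ^ 2 * C * j) :
    ∀ x : ZMod 3 × ZMod 3, x ≠ 0 → J D C w x ≠ ⊥ := by
  classical
  have hw3 : w ^ 3 = 1 := by linear_combination (w - 1) * hw
  suffices hS : ∀ x : ZMod 3 × ZMod 3, x ≠ 0 →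
      x ∈ (Finset.univ.filter (fun x : ZMod 3 × ZMod 3 => J D C w x ≠ ⊥)) from
    fun x hx => (Finset.mem_filter.1 (hS x hx)).2
  have hC3 : ∀ v, C (C (C v)) = v := by
    intro v
    have := congrArg (fun f : Module.End Ω V => f v) hC
    rw [pow_succ, pow_two] at this
    exact this
  have hD3 : ∀ v, D (D (D v)) = v := by
    intro v
    have := congrArg (fun f : Module.End Ω V => f v) hD
    rw [pow_succ, pow_two] at this
    exact this
  have e2 : ∀ a : ZMod 3, e w (-a) = e w a * e w a := by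
    intro a
    rw [← e_add hw3]
    congr 1
    revert a; decide
  apply closed_all
  · intro x hx
    rw [Finset.mem_filter] at hx ⊢
    refine ⟨Finset.mem_univ _, ?_⟩
    obtain ⟨v, hv, hv0⟩ := (Submodule.ne_bot_iff _).1 hx.2
    rw [mem_J] at hv
    rw [Submodule.ne_bot_iff]
    refine ⟨i v, ?_, fun h0 => hv0 (hi (by rw [h0, map_zero]))⟩
    rw [mem_J]
    have k1 : C (C (i v)) = i (D v) := by
      have := congrArg (fun f : Module.End Ω V => f v) h1
      rw [pow_two] at this
      exact this.symm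
    have k2 : D (i v) = i (C v) := by
      have := congrArg (fun f : Module.End Ω V => f v) h2
      exact this.symm
    rw [hv.1, map_smul] at k1
    rw [hv.2, map_smul] at k2
    refine ⟨k2, ?_⟩
    change C (i v) = e w (-x.1) • i v
    have k3 : C (C (C (C (i v)))) = (e w x.1 * e w x.1) • i v := by
      rw [k1, map_smul, map_smul, k1, smul_smul]
    rw [hC3] at k3
    rw [k3, e2]
  · intro x hx
    rw [Finset.mem_filter] at hx ⊢
    refine ⟨Finset.mem_univ _, ?_⟩
    obtain ⟨v, hv, hv0⟩ := (Submodule.ne_bot_iff _).1 hx.2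
    rw [mem_J] at hv
    rw [Submodule.ne_bot_iff]
    refine ⟨j v, ?_, fun h0 => hv0 (hj (by rw [h0, map_zero]))⟩
    rw [mem_J]
    have hcomm : ∀ v, D (C v) = C (D v) := fun v => by
      have := congrArg (fun f : Module.End Ω V => f v) hDC
      exact this
    have k1 : D (D (C (C (j v)))) = e w x.1 • j v := by
      have := congrArg (fun f : Module.End Ω V => f v) h4
      rw [pow_two, pow_two] at this
      have h6 : j (D v) = D (D (C (C (j v)))) := this
      rw [hv.1, map_smul] at h6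
      exact h6.symm
    have k2 : D (D (C (j v))) = e w x.2 • j v := by
      have := congrArg (fun f : Module.End Ω V => f v) h5
      rw [pow_two] at this
      have h6 : j (C v) = D (D (C (j v))) := this
      rw [hv.2, map_smul] at h6
      exact h6.symm
    have k3 : e w x.2 • C (j v) = e w x.1 • j v := by
      rw [← map_smul, ← k2, ← k1, hcomm (C (j v)), hcomm (D (C (j v)))]
    have hx2 : e w (-x.2) * e w x.2 = 1 := by rw [← e_add hw3, neg_add_cancel, e_zero]
    have k4 : C (j v) = e w (x.1 - x.2) • j v := by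
      calc C (j v) = (e w (-x.2) * e w x.2) • C (j v) := by rw [hx2, one_smul]
        _ = e w (-x.2) • (e w x.1 • j v) := by rw [mul_smul, k3]
        _ = e w (x.1 - x.2) • j v := by rw [smul_smul, ← e_add hw3, sub_eq_neg_add]
    have hx3 : e w (-(x.1 - x.2)) * e w (x.1 - x.2) = 1 := by rw [← e_add hw3, neg_add_cancel, e_zero]
    have k5 : D (D (j v)) = e w (-(x.1 - x.2) + x.2) • j v := by
      have h6 : e w (x.1 - x.2) • D (D (j v)) = e w x.2 • j v := by
        rw [← k2, k4, map_smul, map_smul]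
      calc D (D (j v)) = (e w (-(x.1 - x.2)) * e w (x.1 - x.2)) • D (D (j v)) := by rw [hx3, one_smul]
        _ = e w (-(x.1 - x.2)) • (e w x.2 • j v) := by rw [mul_smul, h6]
        _ = _ := by rw [smul_smul, ← e_add hw3]
    refine ⟨?_, k4⟩
    have k6 : D (D (D (D (j v)))) = (e w (-(x.1 - x.2) + x.2) * e w (-(x.1 - x.2) + x.2)) • j v := by
      rw [k5, map_smul, map_smul, k5, smul_smul]
    rw [hD3] at k6
    rw [k6, ← e2]
    congr 2
    change -(-(x.1 - x.2) + x.2) = x.1 + x.2
    have h7 : ∀ a b : ZMod 3, -(-(a - b) + b) = a + b := by decide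
    exact h7 _ _
  · obtain ⟨v, hv⟩ : ∃ v, D v ≠ v := by
      by_contra hcon
      push Not at hcon
      exact hne (LinearMap.ext hcon)
    obtain ⟨u, hu, hu1, -⟩ := exists_eig hw h3 hD v
    obtain ⟨k, hk, huk⟩ : ∃ k, k ≠ 0 ∧ u k ≠ 0 := by
      by_contra hcon
      push Not at hcon
      apply hv
      rw [hcon 1 (by decide), hcon 2 (by decide), add_zero, add_zero] at hu
      rw [hu, hu1, e_zero, one_smul]
    obtain ⟨t, ht, ht1, ht2⟩ := exists_eig hw h3 hC (u k)
    obtain ⟨l, hl⟩ : ∃ l, t l ≠ 0 := by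
      by_contra hcon
      push Not at hcon
      apply huk
      rw [ht, hcon, hcon, hcon]; simp
    refine ⟨(k, l), ?_, ?_⟩
    · rw [Finset.mem_filter]
      refine ⟨Finset.mem_univ _, ?_⟩
      rw [Submodule.ne_bot_iff]
      exact ⟨t l, mem_J.2 ⟨ht2 D _ hDC (hu1 k) l, ht1 l⟩, hl⟩
    · intro h0
      exact hk (congrArg Prod.fst h0)

/-- anticommuting invertible operators -/
lemma even_of_anti [FiniteDimensional Ω V] (h2 : (2 : Ω) ≠ 0) {F G : Module.End Ω V} {s t : Ω} (hs : s ≠ 0)
    (ht : t ≠ 0) (hF : F * F = s • 1) (hG : G * G = t • 1) (hFG : F * G = -(G * F)) : Even (finrank Ω V) := by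
  have dne : ∀ {F : Module.End Ω V} {s : Ω}, s ≠ 0 → F * F = s • 1 → LinearMap.det F ≠ 0 := by
    intro F s hs hF h0
    have h1 := congrArg LinearMap.det hF
    rw [map_mul, h0, zero_mul, LinearMap.det_smul, map_one, mul_one] at h1
    exact pow_ne_zero _ hs h1.symm
  have h1 := congrArg LinearMap.det hFG
  have h3 : -(G * F) = (-1 : Ω) • (G * F) := by rw [neg_one_smul]
  rw [h3, LinearMap.det_smul, map_mul, map_mul, mul_comm (LinearMap.det F)] at h1
  have h4 : (-1 : Ω) ^ finrank Ω V = 1 := by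
    have h5 : LinearMap.det G * LinearMap.det F ≠ 0 := mul_ne_zero (dne ht hG) (dne hs hF)
    exact mul_right_cancel₀ h5 (by rw [one_mul]; exact h1.symm)
  by_contra hodd
  rw [Nat.not_even_iff_odd] at hodd
  rw [hodd.neg_one_pow] at h4
  apply h2
  linear_combination -h4

/-- on an invariant subspace -/
lemma even_sub [FiniteDimensional Ω V] (h2 : (2 : Ω) ≠ 0) {F G : Module.End Ω V} {s t : Ω} (hs : s ≠ 0)
    (ht : t ≠ 0) (hF : F * F = s • 1) (hG : G * G = t • 1) (hFG : F * G = -(G * F)) (U : Submodule Ω V)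
    (h : ∀ v ∈ U, F v ∈ U) (h' : ∀ v ∈ U, G v ∈ U) : Even (finrank Ω U) := by
  refine even_of_anti h2 hs ht (F := res U F h) (G := res U G h') ?_ ?_ ?_
  · exact LinearMap.ext fun v => Subtype.ext (by
      have := congrArg (fun f : Module.End Ω V => f v.1) hF
      exact this)
  · exact LinearMap.ext fun v => Subtype.ext (by
      have := congrArg (fun f : Module.End Ω V => f v.1) hG
      exact this)
  · exact LinearMap.ext fun v => Subtype.ext (by
      have := congrArg (fun f : Module.End Ω V => f v.1) hFG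
      exact this)

/-- eigenvectors with distinct eigenvalues in a subspace -/
lemma card_le_sub [FiniteDimensional Ω V] {ι : Type} [Fintype ι] (C : Module.End Ω V) (U : Submodule Ω V)
    (μ : ι → Ω) (hμ : Function.Injective μ) (v : ι → V) (hv : ∀ k, C (v k) = μ k • v k) (h0 : ∀ k, v k ≠ 0)
    (hU : ∀ k, v k ∈ U) : Fintype.card ι ≤ finrank Ω U := by
  have h1 : LinearIndependent Ω v := Module.End.eigenvectors_linearIndependent' C μ hμ v fun k =>
    ⟨mem_eigenspace_iff.2 (hv k), h0 k⟩
  have h2 : LinearIndependent Ω (fun k => (⟨v k, hU k⟩ : U)) := by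
    apply LinearIndependent.of_comp U.subtype
    exact h1
  exact h2.fintype_card_le_finrank

/-- independent subspaces -/
lemma sum_le_of_indep [FiniteDimensional Ω V] {ι : Type*} [Fintype ι] {p : ι → Submodule Ω V} (hp : iSupIndep p) :
    ∑ i, finrank Ω (p i) ≤ finrank Ω V := by
  classical
  have h1 := hp.dfinsupp_lsum_injective
  have h2 := LinearMap.finrank_le_finrank_of_injective h1
  have h3 : finrank Ω (Π₀ i, p i) = ∑ i, finrank Ω (p i) := Module.finrank_directSum Ω (fun i => ↥(p i))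
  rw [← h3]
  exact h2

/-- **the contradiction in characteristic different from three** -/
theorem not_three_false [FiniteDimensional Ω V] (hV : finrank Ω V = 8) (h2 : (2 : Ω) ≠ 0) (h3 : (3 : Ω) ≠ 0)
    {w : Ω} (hw : w ^ 2 + w + 1 = 0)
    (D C i j : Module.End Ω V) (hD : D ^ 3 = 1) (hC : C ^ 3 = 1)
    (hDC : D * C = C * D) (hne : D ≠ 1) (hi : Function.Injective i) (hj : Function.Injective j)
    (h1 : i * D = C ^ 2 * i) (h2' : i * C = D * i) (h4 : j * D = D ^ 2 * C ^ 2 * j) (h5 : j * C = D ^ 2 * C * j)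
    {F G : Module.End Ω V} {s t : Ω} (hs : s ≠ 0) (ht : t ≠ 0) (hF : F * F = s • 1) (hG : G * G = t • 1)
    (hFG : F * G = -(G * F)) (FD : F * D = D * F) (GD : G * D = D * G) : False := by
  have hw3 : w ^ 3 = 1 := by linear_combination (w - 1) * hw
  have key := all_weights h3 hw D C i j hD hC hDC hne hi hj h1 h2' h4 h5
  have hinj := e_inj hw h3
  choose! v hv hv0 using fun x hx => (Submodule.ne_bot_iff _).1 (key x hx)
  have hcm : ∀ (T : Module.End Ω V) (_ : T * D = D * T) (a : Ω) (u : V), u ∈ eigenspace D a → T u ∈ eigenspace D a := by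
    intro T hT a u hu
    rw [mem_eigenspace_iff] at hu ⊢
    have := congrArg (fun f : Module.End Ω V => f u) hT
    have h6 : T (D u) = D (T u) := this
    rw [← h6, hu, map_smul]
  have hev : ∀ k : ZMod 3, Even (finrank Ω (eigenspace D (e w k))) := fun k =>
    even_sub h2 hs ht hF hG hFG _ (hcm F FD _) (hcm G GD _)
  have hlow : ∀ k : ZMod 3, k ≠ 0 → 3 ≤ finrank Ω (eigenspace D (e w k)) := by
    intro k hk
    have hne0 : ∀ y : ZMod 3, ((k, y) : ZMod 3 × ZMod 3) ≠ 0 := fun y h0 => hk (congrArg Prod.fst h0)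
    have := card_le_sub C (eigenspace D (e w k)) (fun y : ZMod 3 => e w y) hinj (fun y => v (k, y))
      (fun y => (mem_J.1 (hv _ (hne0 y))).2) (fun y => hv0 _ (hne0 y))
      (fun y => mem_eigenspace_iff.2 (mem_J.1 (hv _ (hne0 y))).1)
    rwa [ZMod.card] at this
  have hlow0 : 1 ≤ finrank Ω (eigenspace D (e w 0)) := by
    have hne0 : ((0, 1) : ZMod 3 × ZMod 3) ≠ 0 := by decide
    have := card_le_sub C (eigenspace D (e w 0)) (fun _ : Unit => e w 1) (fun _ _ _ => rfl) (fun _ => v (0, 1))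
      (fun y => (mem_J.1 (hv _ hne0)).2) (fun y => hv0 _ hne0)
      (fun y => mem_eigenspace_iff.2 (mem_J.1 (hv _ hne0)).1)
    rwa [Fintype.card_unit] at this
  have hind : iSupIndep (fun k : ZMod 3 => eigenspace D (e w k)) := D.eigenspaces_iSupIndep.comp hinj
  have hsum : ∑ k : ZMod 3, finrank Ω (eigenspace D (e w k)) ≤ 8 := by
    rw [← hV]
    exact sum_le_of_indep hind
  have hs3 : ∑ k : ZMod 3, finrank Ω (eigenspace D (e w k)) = finrank Ω (eigenspace D (e w 0)) +
      finrank Ω (eigenspace D (e w 1)) + finrank Ω (eigenspace D (e w 2)) := by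
    exact Fin.sum_univ_three (fun k : Fin 3 => finrank Ω (eigenspace D (e w (k : ZMod 3))))
  have a1 := hlow 1 (by decide)
  have a2 := hlow 2 (by decide)
  obtain ⟨b0, hb0⟩ := hev 0
  obtain ⟨b1, hb1⟩ := hev 1
  obtain ⟨b2, hb2⟩ := hev 2
  omega

end Cfsg.Agent.H424.M22
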