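import Cfsg.Agent.H424.M22Three
import Cfsg.Agent.H424.M22Wt
import Cfsg.Agent.H13.M22.FiveThree
import Cfsg.Agent.H908.Lift

/-!
# The preimage of `2⁴` in a group of degree eight is abelian (helper424)
-/

set_option autoImplicit false
set_option linter.unusedSectionVars false

namespace Cfsg.Agent.H424.M22

open Module Cfsg.Agent.H13.M22

/-- the configuration `2⁴ : A₆ ≥ A₄ × A₄` and `3² : Q₈` -/
structure Dat {T : Type*} [Group T] (E : Subgroup T) (D C i j e1 e2 f1 f2 : T) : Prop where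
  D3 : D ^ 3 = 1
  C3 : C ^ 3 = 1
  D1 : D ≠ 1
  DC : D * C = C * D
  r1 : i * D * i⁻¹ = C ^ 2
  r2 : i * C * i⁻¹ = D
  r3 : j * D * j⁻¹ = D ^ 2 * C ^ 2
  r4 : j * C * j⁻¹ = D ^ 2 * C
  sq : ∀ e ∈ E, e ^ 2 = 1
  me : e1 ∈ E
  mf : f1 ∈ E
  De1 : D * e1 * D⁻¹ = e2
  De2 : D * e2 * D⁻¹ = e1 * e2
  Df1 : D * f1 = f1 * D
  Df2 : D * f2 = f2 * D
  Cf1 : C * f1 * C⁻¹ = f2
  Cf2 : C * f2 * C⁻¹ = f1 * f2
  Ce1 : C * e1 = e1 * C
  Ce2 : C * e2 = e2 * C
  ie1 : i * e1 * i⁻¹ = f1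
  ie2 : i * e2 * i⁻¹ = f1 * f2
  ef11 : e1 * f1 = f1 * e1
  ef12 : e1 * f2 = f2 * e1
  e12 : e1 * e2 = e2 * e1
  gen : ∀ x ∈ E, ∃ a b c d : ℕ, x = e1 ^ a * e2 ^ b * f1 ^ c * f2 ^ d

/-- if `g` centralises `y` and `x, g x g⁻¹, x (g x g⁻¹)` are permuted by `g` modulo central elements, then `x`
and `y` commute when they commute modulo the centre -/
lemma comm_aux {L : Type*} [Group L] {g x y z z' : L} (hz : ∀ a, z * a = a * z) (hz' : ∀ a, z' * a = a * z')
    (hgy : g * y = y * g) (hxy : x * y = z * (y * x))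
    (hx : g * (g * x * g⁻¹) * g⁻¹ = z' * (x * (g * x * g⁻¹))) : x * y = y * x := by
  have hgy' : g * y * g⁻¹ = y := by rw [hgy]; group
  have hgz : g * z * g⁻¹ = z := by rw [← hz]; group
  set x2 := g * x * g⁻¹ with hx2
  have e1 : x2 * y = z * (y * x2) := by
    calc x2 * y = g * (x * y) * g⁻¹ := by
          rw [hx2]
          calc g * x * g⁻¹ * y = g * x * g⁻¹ * (g * y * g⁻¹) := by rw [hgy']
            _ = g * (x * y) * g⁻¹ := by group
      _ = (g * z * g⁻¹) * ((g * y * g⁻¹) * (g * x * g⁻¹)) := by rw [hxy]; group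
      _ = z * (y * x2) := by rw [hgz, hgy', hx2]
  set x3 := g * x2 * g⁻¹ with hx3
  have e2 : x3 * y = z * (y * x3) := by
    calc x3 * y = g * (x2 * y) * g⁻¹ := by
          rw [hx3]
          calc g * x2 * g⁻¹ * y = g * x2 * g⁻¹ * (g * y * g⁻¹) := by rw [hgy']
            _ = g * (x2 * y) * g⁻¹ := by group
      _ = (g * z * g⁻¹) * ((g * y * g⁻¹) * (g * x2 * g⁻¹)) := by rw [e1]; group
      _ = z * (y * x3) := by rw [hgz, hgy', hx3]
  have e3 : x3 * y = z * (z * (y * x3)) := by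
    calc x3 * y = z' * (x * (x2 * y)) := by rw [hx]; group
      _ = z' * (x * z * (y * x2)) := by rw [e1]; group
      _ = z' * (z * x * (y * x2)) := by rw [← hz x]
      _ = z' * (z * (x * y) * x2) := by group
      _ = z' * z * z * y * (x * x2) := by rw [hxy]; group
      _ = z * (z * (y * (z' * (x * x2)))) := by
        rw [hz' z, mul_assoc z z' z, hz' z]
        have : z * (z * z') * y * (x * x2) = z * (z * (z' * y)) * (x * x2) := by group
        rw [this, hz' y]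
        group
      _ = z * (z * (y * x3)) := by rw [hx]
  have e4 : z = 1 := by
    rw [e2] at e3
    have h1 := mul_left_cancel e3
    have h2 : 1 * (y * x3) = z * (y * x3) := by rw [one_mul]; exact h1
    exact (mul_right_cancel h2).symm
  rw [hxy, e4, one_mul]

variable {L T Ω V : Type*} [Group L] [Group T] [Finite L] [Field Ω] [IsAlgClosed Ω] [AddCommGroup V] [Module Ω V]
  [FiniteDimensional Ω V] {φ : L →* T} {ρ : L →* Module.End Ω V}

lemma finrank_fx_conj (g h : L) : finrank Ω (fx (ρ (h * g * h⁻¹))) = finrank Ω (fx (ρ g)) := by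
  have key : ∀ h g : L, finrank Ω (fx (ρ g)) ≤ finrank Ω (fx (ρ (h * g * h⁻¹))) := by
    intro h g
    have hinj : Function.Injective (ρ h) := by
      intro v w hvw
      have h1 : ∀ v, ρ h⁻¹ (ρ h v) = v := fun v => by
        change (ρ h⁻¹ * ρ h) v = v
        rw [← map_mul, inv_mul_cancel, map_one]; rfl
      rw [← h1 v, hvw, h1]
    rw [← (Submodule.equivMapOfInjective (ρ h) hinj (fx (ρ g))).finrank_eq.symm]
    apply Submodule.finrank_mono
    rintro _ ⟨v, hv, rfl⟩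
    rw [mem_fx]
    have h2 : ρ g v = v := mem_fx.1 hv
    change (ρ (h * g * h⁻¹) * ρ h) v = ρ h v
    rw [← map_mul, inv_mul_cancel_right, map_mul, Module.End.mul_apply, h2]
  apply le_antisymm _ (key h g)
  have h1 := key h⁻¹ (h * g * h⁻¹)
  have h2 : h⁻¹ * (h * g * h⁻¹) * h⁻¹⁻¹ = g := by group
  rwa [h2] at h1

lemma fx_inv (g : L) : fx (ρ g⁻¹) = fx (ρ g) := by
  have key : ∀ g : L, fx (ρ g) ≤ fx (ρ g⁻¹) := by
    intro g v hv
    rw [mem_fx] at hv ⊢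
    conv_lhs => rw [← hv]
    change (ρ g⁻¹ * ρ g) v = v
    rw [← map_mul, inv_mul_cancel, map_one]; rfl
  apply le_antisymm _ (key g)
  have := key g⁻¹
  rwa [inv_inv] at this

lemma sq_conj (g h : L) (hg : (ρ g - 1) * (ρ g - 1) = 0) : (ρ (h * g * h⁻¹) - 1) * (ρ (h * g * h⁻¹) - 1) = 0 := by
  have h1 : ρ (h * g * h⁻¹) - 1 = ρ h * (ρ g - 1) * ρ h⁻¹ := by
    rw [map_mul, map_mul, mul_sub, sub_mul, mul_one, ← map_mul ρ h h⁻¹, mul_inv_cancel, map_one]
  have h2 : ρ h⁻¹ * ρ h = 1 := by rw [← map_mul, inv_mul_cancel, map_one]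
  rw [h1]
  calc ρ h * (ρ g - 1) * ρ h⁻¹ * (ρ h * (ρ g - 1) * ρ h⁻¹) =
      ρ h * (ρ g - 1) * (ρ h⁻¹ * ρ h) * (ρ g - 1) * ρ h⁻¹ := by noncomm_ring
    _ = ρ h * ((ρ g - 1) * (ρ g - 1)) * ρ h⁻¹ := by rw [h2]; noncomm_ring
    _ = 0 := by rw [hg]; simp

lemma sq_inv (g : L) (hg : (ρ g - 1) * (ρ g - 1) = 0) : (ρ g⁻¹ - 1) * (ρ g⁻¹ - 1) = 0 := by
  have h2 : ρ g⁻¹ * ρ g = 1 := by rw [← map_mul, inv_mul_cancel, map_one]
  have h3 : ρ g * ρ g⁻¹ = 1 := by rw [← map_mul, mul_inv_cancel, map_one]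
  have h1 : ρ g⁻¹ - 1 = -(ρ g⁻¹ * (ρ g - 1)) := by rw [mul_sub, h2]; simp
  have h4 : ρ g⁻¹ - 1 = -((ρ g - 1) * ρ g⁻¹) := by rw [sub_mul, h3]; simp
  calc (ρ g⁻¹ - 1) * (ρ g⁻¹ - 1) = -(ρ g⁻¹ * (ρ g - 1)) * -((ρ g - 1) * ρ g⁻¹) := by
        rw [← h4, ← h1]
    _ = ρ g⁻¹ * ((ρ g - 1) * (ρ g - 1)) * ρ g⁻¹ := by noncomm_ring
    _ = 0 := by rw [hg]; simp

omit [Finite L] [IsAlgClosed Ω] [FiniteDimensional Ω V] in
lemma rho_inv_mul (g : L) : ρ g⁻¹ * ρ g = 1 := by rw [← map_mul, inv_mul_cancel, map_one]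

omit [Finite L] [IsAlgClosed Ω] [FiniteDimensional Ω V] in
lemma rho_mul_inv (g : L) : ρ g * ρ g⁻¹ = 1 := by rw [← map_mul, mul_inv_cancel, map_one]

/-- the operators of a triple -/
theorem mk_Qt [Nontrivial V] (h : Cov φ ρ) {g x z : L} (hg : g ^ 3 = 1) (hz : z ∈ φ.ker)
    (hx : g * (g * x * g⁻¹) * g⁻¹ = z * (x * (g * x * g⁻¹))) (hsq : x * x ∈ φ.ker)
    (ha : ρ x * ρ (g * x * g⁻¹) = -(ρ (g * x * g⁻¹) * ρ x)) :
    ∃ a : Ω, Qt (ρ g) (a • ρ x) (a • ρ (g * x * g⁻¹)) (a • ρ (g * (g * x * g⁻¹) * g⁻¹)) := by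
  obtain ⟨a, hza⟩ := h.scal z hz
  obtain ⟨s, hs⟩ := h.scal _ hsq
  have hs0 : s ≠ 0 := by
    rintro rfl
    rw [zero_smul] at hs
    have h1 := rho_mul_inv (ρ := ρ) (x * x)
    rw [hs, zero_mul] at h1
    exact zero_ne_one h1
  set x2 := g * x * g⁻¹ with hx2
  set x3 := g * x2 * g⁻¹ with hx3
  have e1 : ρ x3 = a • (ρ x * ρ x2) := by rw [hx, map_mul, hza, smul_mul_assoc, one_mul, map_mul]
  have e11 : ρ x * ρ x = s • 1 := by rw [← map_mul, hs]
  have conj : ∀ y : L, ρ y * ρ y = s • 1 → ρ (g * y * g⁻¹) * ρ (g * y * g⁻¹) = s • 1 := by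
    intro y hy
    rw [map_mul, map_mul]
    calc ρ g * ρ y * ρ g⁻¹ * (ρ g * ρ y * ρ g⁻¹) = ρ g * ρ y * (ρ g⁻¹ * ρ g) * ρ y * ρ g⁻¹ := by noncomm_ring
      _ = ρ g * (ρ y * ρ y) * ρ g⁻¹ := by rw [rho_inv_mul]; noncomm_ring
      _ = s • 1 := by rw [hy, mul_smul_comm, mul_one, smul_mul_assoc, rho_mul_inv]
  have e22 := conj x e11
  have e33 := conj x2 e22
  rw [← hx2] at e22
  rw [← hx3] at e33
  have e5 : ρ x3 * ρ x3 = (-(a * a * s * s)) • 1 := by
    rw [e1, smul_mul_smul_comm]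
    have e6 : ρ x * ρ x2 * (ρ x * ρ x2) = (-(s * s)) • 1 := by
      calc ρ x * ρ x2 * (ρ x * ρ x2) = -(ρ x2 * ρ x) * (ρ x * ρ x2) := by rw [ha]
        _ = -(ρ x2 * (ρ x * ρ x) * ρ x2) := by noncomm_ring
        _ = (-(s * s)) • 1 := by
          rw [e11, mul_smul_comm, mul_one, smul_mul_assoc, e22, smul_smul, neg_smul]
    rw [e6, smul_smul]
    congr 1
    ring
  have e7 : s = -(a * a * s * s) := by
    rw [e33] at e5
    have h1 : (s - -(a * a * s * s)) • (1 : Module.End Ω V) = 0 := by rw [sub_smul, e5, sub_self]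
    exact sub_eq_zero.1 ((smul_eq_zero.1 h1).resolve_right one_ne_zero)
  have e8 : a * a * s = -1 := by
    have h1 : s * (a * a * s + 1) = 0 := by linear_combination e7
    have h2 := (mul_eq_zero.1 h1).resolve_left hs0
    linear_combination h2
  refine ⟨a, ?_, ?_, ?_, ?_, ?_, ?_, ?_⟩
  · rw [← map_mul, ← map_mul, ← pow_two, ← pow_succ, hg, map_one]
  · rw [mul_smul_comm, smul_mul_assoc, ← map_mul, ← map_mul, hx2]
    congr 2; group
  · rw [mul_smul_comm, smul_mul_assoc, ← map_mul, ← map_mul, hx3]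
    congr 2; group
  · rw [mul_smul_comm, smul_mul_assoc, ← map_mul, ← map_mul, hx3, hx2]
    congr 2
    have h3 : g * (g * (g * x * g⁻¹) * g⁻¹) = g ^ 3 * x * (g ^ 3)⁻¹ * g := by
      rw [show g ^ 3 = g * g * g by rw [pow_succ, pow_two]]
      group
    rw [h3, hg, inv_one, mul_one, one_mul]
  · rw [smul_mul_smul_comm, e11, smul_smul, e8, neg_one_smul]
  · rw [smul_mul_smul_comm, e1, smul_smul]
  · rw [smul_mul_smul_comm, e1, smul_smul, ha, smul_neg, neg_neg]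

theorem ab_of_dat (h : Cov φ ρ) (h2 : (2 : Ω) ≠ 0) (hV : finrank Ω V = 8) (hcop : (Nat.card φ.ker).Coprime 3)
    {E : Subgroup T} {D C i j e1 e2 f1 f2 : T} (hd : Dat E D C i j e1 e2 f1 f2) :
    ∀ a ∈ E.comap φ, ∀ b ∈ E.comap φ, a * b = b * a := by
  have hVn : Nontrivial V := by
    apply nontrivial_of_finrank_pos (R := Ω)
    omega
  have cop : ∀ {G : Type _} [Group G] {g : G}, g ^ 3 = 1 → (Nat.card φ.ker).Coprime (orderOf g) := fun hg =>
    Nat.Coprime.coprime_dvd_right (orderOf_dvd_of_pow_eq_one hg) hcop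
  have cop' : ∀ {g : L}, g ^ 3 = 1 → (Nat.card φ.ker).Coprime (orderOf g) := fun hg =>
    Nat.Coprime.coprime_dvd_right (orderOf_dvd_of_pow_eq_one hg) hcop
  obtain ⟨gD, hD, oD⟩ := H908.exists_lift h.surj D (cop hd.D3)
  obtain ⟨gC, hC, oC⟩ := H908.exists_lift h.surj C (cop hd.C3)
  obtain ⟨gi, hi⟩ := h.surj i
  obtain ⟨gj, hj⟩ := h.surj j
  obtain ⟨x1, hx1⟩ := h.surj e1
  have gD3 : gD ^ 3 = 1 := by rw [← orderOf_dvd_iff_pow_eq_one, oD, orderOf_dvd_iff_pow_eq_one, hd.D3]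
  have gC3 : gC ^ 3 = 1 := by rw [← orderOf_dvd_iff_pow_eq_one, oC, orderOf_dvd_iff_pow_eq_one, hd.C3]
  have gDC : gD * gC = gC * gD := H908.commute_lift h.cen (by rw [hD, hC, hd.DC]) (cop' gC3)
  have hcm : Commute gD gC := gDC
  have q1 : gi * gD * gi⁻¹ = gC ^ 2 := by
    apply H908.conj_lift h.cen _ (cop' gD3)
    · exact cop' (by rw [← pow_mul, mul_comm, pow_mul, gC3, one_pow])
    · rw [map_mul, map_mul, map_inv, map_pow, hD, hC, hi, hd.r1]
  have q2 : gi * gC * gi⁻¹ = gD := by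
    apply H908.conj_lift h.cen _ (cop' gC3) (cop' gD3)
    rw [map_mul, map_mul, map_inv, hD, hC, hi, hd.r2]
  have q3 : gj * gD * gj⁻¹ = gD ^ 2 * gC ^ 2 := by
    apply H908.conj_lift h.cen _ (cop' gD3)
    · apply cop'
      rw [(hcm.pow_pow 2 2).mul_pow, ← pow_mul, ← pow_mul, mul_comm 2 3, pow_mul, pow_mul, gC3, gD3, one_pow,
        mul_one]
    · rw [map_mul, map_mul, map_inv, map_mul, map_pow, map_pow, hD, hC, hj, hd.r3]
  have q4 : gj * gC * gj⁻¹ = gD ^ 2 * gC := by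
    apply H908.conj_lift h.cen _ (cop' gC3)
    · apply cop'
      rw [(hcm.pow_left 2).mul_pow, ← pow_mul, mul_comm 2 3, pow_mul, gC3, gD3, one_pow, mul_one]
    · rw [map_mul, map_mul, map_inv, map_mul, map_pow, hD, hC, hj, hd.r4]
  obtain ⟨x2, hx2⟩ : ∃ x2, x2 = gD * x1 * gD⁻¹ := ⟨_, rfl⟩
  obtain ⟨y1, hy1⟩ : ∃ y1, y1 = gi * x1 * gi⁻¹ := ⟨_, rfl⟩
  obtain ⟨y2, hy2⟩ : ∃ y2, y2 = gC * y1 * gC⁻¹ := ⟨_, rfl⟩
  have px2 : φ x2 = e2 := by rw [hx2, map_mul, map_mul, map_inv, hD, hx1, hd.De1]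
  have py1 : φ y1 = f1 := by rw [hy1, map_mul, map_mul, map_inv, hi, hx1, hd.ie1]
  have py2 : φ y2 = f2 := by rw [hy2, map_mul, map_mul, map_inv, hC, py1, hd.Cf1]
  have Dy1 : y1 * gD = gD * y1 := H908.commute_lift h.cen (by rw [hD, py1, hd.Df1]) (cop' gD3)
  have Dy2 : y2 * gD = gD * y2 := H908.commute_lift h.cen (by rw [hD, py2, hd.Df2]) (cop' gD3)
  have Cx1 : x1 * gC = gC * x1 := H908.commute_lift h.cen (by rw [hC, hx1, hd.Ce1]) (cop' gC3)
  have Cx2 : x2 * gC = gC * x2 := H908.commute_lift h.cen (by rw [hC, px2, hd.Ce2]) (cop' gC3)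
  obtain ⟨zx, hzx, ezx⟩ := h.exists_eq (a := gD * x2 * gD⁻¹) (b := x1 * x2)
    (by rw [map_mul, map_mul, map_inv, map_mul, hD, px2, hx1, hd.De2])
  obtain ⟨zy, hzy, ezy⟩ := h.exists_eq (a := gC * y2 * gC⁻¹) (b := y1 * y2)
    (by rw [map_mul, map_mul, map_inv, map_mul, hC, py2, py1, hd.Cf2])
  obtain ⟨zi, hzi, ezi⟩ := h.exists_eq (a := gi * x2 * gi⁻¹) (b := y1 * y2)
    (by rw [map_mul, map_mul, map_inv, map_mul, hi, px2, py1, py2, hd.ie2])
  have cm : ∀ y : L, y * gD = gD * y → φ x1 * φ y = φ y * φ x1 → x1 * y = y * x1 ∧ x2 * y = y * x2 := by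
    intro y hy hxy
    obtain ⟨z, hz, ez⟩ := h.exists_eq (a := x1 * y) (b := y * x1) (by rw [map_mul, map_mul, hxy])
    have h1 : x1 * y = y * x1 := comm_aux (h.comm hz) (h.comm hzx) hy.symm ez (by rw [← hx2]; exact ezx)
    refine ⟨h1, ?_⟩
    have hgy' : gD * y * gD⁻¹ = y := by rw [← hy]; group
    calc x2 * y = gD * x1 * gD⁻¹ * (gD * y * gD⁻¹) := by rw [hgy', hx2]
      _ = gD * (x1 * y) * gD⁻¹ := by group
      _ = (gD * y * gD⁻¹) * (gD * x1 * gD⁻¹) := by rw [h1]; group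
      _ = y * x2 := by rw [hgy', hx2]
  obtain ⟨x1y1, x2y1⟩ := cm y1 Dy1 (by rw [hx1, py1, hd.ef11])
  obtain ⟨x1y2, x2y2⟩ := cm y2 Dy2 (by rw [hx1, py2, hd.ef12])
  -- the crucial point
  have hx : x1 * x2 = x2 * x1 := by
    by_contra hne
    obtain ⟨z, hz, ez⟩ := h.exists_eq (a := x1 * x2) (b := x2 * x1) (by rw [map_mul, map_mul, hx1, px2, hd.e12])
    obtain ⟨c, hc⟩ := h.scal z hz
    have hsq : x1 * x1 ∈ φ.ker := by
      rw [MonoidHom.mem_ker, map_mul, hx1, ← pow_two, hd.sq _ hd.me]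
    have hsqy : y1 * y1 ∈ φ.ker := by
      rw [MonoidHom.mem_ker, map_mul, py1, ← pow_two, hd.sq _ hd.mf]
    have zz : z * z = 1 := by
      have t1 : x1 * x1 * x2 = x2 * (x1 * x1) := h.comm hsq x2
      have t2 : x1 * x1 * x2 = z * z * (x2 * (x1 * x1)) := by
        calc x1 * x1 * x2 = x1 * (x1 * x2) := by group
          _ = (x1 * z) * (x2 * x1) := by rw [ez]; group
          _ = z * (x1 * x2) * x1 := by rw [← h.comm hz x1]; group
          _ = z * z * (x2 * (x1 * x1)) := by rw [ez]; group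
      rw [t1] at t2
      have t3 : 1 * (x2 * (x1 * x1)) = z * z * (x2 * (x1 * x1)) := by rw [one_mul]; exact t2
      exact (mul_right_cancel t3).symm
    have hcc : c * c = 1 := by
      have t1 : ρ (z * z) = 1 := by rw [zz, map_one]
      rw [map_mul, hc, smul_mul_smul_comm, one_mul] at t1
      have t2 : (c * c - 1) • (1 : Module.End Ω V) = 0 := by rw [sub_smul, t1, one_smul, sub_self]
      exact sub_eq_zero.1 ((smul_eq_zero.1 t2).resolve_right one_ne_zero)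
    have hc1 : c = -1 := by
      rcases mul_self_eq_one_iff.1 hcc with h1 | h1
      · exfalso
        apply hne
        have : z = 1 := h.inj (by rw [hc, h1, one_smul, map_one])
        rw [ez, this, one_mul]
      · exact h1
    have anx : ρ x1 * ρ x2 = -(ρ x2 * ρ x1) := by
      rw [← map_mul, ez, map_mul, hc, hc1, neg_one_smul, neg_mul, one_mul, map_mul]
    have any : ρ y1 * ρ y2 = -(ρ y2 * ρ y1) := by
      obtain ⟨c', hc'⟩ := h.scal zi hzi
      have hc0 : c' ≠ 0 := by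
        rintro rfl
        rw [zero_smul] at hc'
        have h1 := rho_mul_inv (ρ := ρ) zi
        rw [hc', zero_mul] at h1
        exact zero_ne_one h1
      have t1 : ρ (gi * x2 * gi⁻¹) = c' • (ρ y1 * ρ y2) := by
        rw [ezi, map_mul, hc', smul_mul_assoc, one_mul, map_mul]
      have t2 : ρ y1 * ρ (gi * x2 * gi⁻¹) = -(ρ (gi * x2 * gi⁻¹) * ρ y1) := by
        have s1 : y1 * (gi * x2 * gi⁻¹) = gi * (x1 * x2) * gi⁻¹ := by rw [hy1]; group
        have s2 : (gi * x2 * gi⁻¹) * y1 = gi * (x2 * x1) * gi⁻¹ := by rw [hy1]; group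
        rw [← map_mul, ← map_mul, s1, s2, map_mul, map_mul, map_mul ρ x1, anx, map_mul, map_mul, map_mul ρ x2]
        noncomm_ring
      rw [t1, mul_smul_comm, smul_mul_assoc, ← smul_neg] at t2
      have t3 := smul_right_injective (Module.End Ω V) hc0 t2
      have t4 : ρ y1 * (ρ y1 * ρ y2) = ρ y1 * (-(ρ y2 * ρ y1)) := by
        rw [mul_neg, ← mul_assoc (ρ y1) (ρ y2)]
        exact t3
      calc ρ y1 * ρ y2 = (ρ y1⁻¹ * ρ y1) * (ρ y1 * ρ y2) := by rw [rho_inv_mul, one_mul]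
        _ = ρ y1⁻¹ * (ρ y1 * (ρ y1 * ρ y2)) := by noncomm_ring
        _ = (ρ y1⁻¹ * ρ y1) * (-(ρ y2 * ρ y1)) := by rw [t4]; noncomm_ring
        _ = -(ρ y2 * ρ y1) := by rw [rho_inv_mul, one_mul]
    have hinj : ∀ g : L, Function.Injective (ρ g) := by
      intro g v w hvw
      have h1 : ∀ v, ρ g⁻¹ (ρ g v) = v := fun v => by
        change (ρ g⁻¹ * ρ g) v = v
        rw [rho_inv_mul]; rfl
      rw [← h1 v, hvw, h1]
    have hmul : ∀ {y g k : L}, y * g * y⁻¹ = k → y * g = k * y := fun h => by rw [← h]; group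
    have scal_ne : ∀ {y : L}, y * y ∈ φ.ker → ∃ s : Ω, s ≠ 0 ∧ ρ y * ρ y = s • 1 := by
      intro y hy
      obtain ⟨s, hs⟩ := h.scal _ hy
      refine ⟨s, ?_, by rw [← map_mul, hs]⟩
      rintro rfl
      rw [zero_smul] at hs
      have h1 := rho_mul_inv (ρ := ρ) (y * y)
      rw [hs, zero_mul] at h1
      exact zero_ne_one h1
    by_cases h3 : (3 : Ω) = 0
    · obtain ⟨a, ha⟩ := mk_Qt h gD3 hzx (by rw [← hx2]; exact ezx) hsq (by rw [← hx2]; exact anx)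
      obtain ⟨b, hb⟩ := mk_Qt h gC3 hzy (by rw [← hy2]; exact ezy) hsqy (by rw [← hy2]; exact any)
      rw [← hx2] at ha
      rw [← hy2] at hb
      have sm : ∀ {a b : Ω} {x y : L}, x * y = y * x → (a • ρ x) * (b • ρ y) = (b • ρ y) * (a • ρ x) := by
        intro a b x y hxy
        rw [smul_mul_smul_comm, smul_mul_smul_comm, ← map_mul, ← map_mul, hxy, mul_comm a b]
      have sm1 : ∀ {b : Ω} {x y : L}, x * y = y * x → ρ x * (b • ρ y) = (b • ρ y) * ρ x := by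
        intro b x y hxy
        rw [mul_smul_comm, smul_mul_assoc, ← map_mul, ← map_mul, hxy]
      have inv1 : (gD * gC)⁻¹ = gD ^ 2 * gC ^ 2 := by
        rw [inv_eq_iff_mul_eq_one]
        calc gD * gC * (gD ^ 2 * gC ^ 2) = gD * (gC * gD ^ 2) * gC ^ 2 := by group
          _ = gD * (gD ^ 2 * gC) * gC ^ 2 := by rw [(hcm.pow_left 2).eq]
          _ = gD ^ 3 * gC ^ 3 := by group
          _ = 1 := by rw [gD3, gC3, one_mul]
      have e0 : ρ gD * ρ gC = ρ (gj * gD * gj⁻¹)⁻¹ := by rw [q3, ← inv1, inv_inv, map_mul]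
      refine three_false hV h3 ha hb (by rw [← map_mul, ← map_mul, gDC]) (sm1 Dy1.symm) (sm1 Dy2.symm)
        (sm1 Cx1.symm) (sm1 Cx2.symm) (sm x1y1) (sm x1y2) (sm x2y1) (sm x2y2) ?_ ?_ ?_
      · rw [e0, fx_inv, finrank_fx_conj]
      · have e3 : ρ gD * ρ gD * ρ gC = ρ (gj * gC * gj⁻¹) := by rw [q4, pow_two, map_mul, map_mul]
        rw [e3, finrank_fx_conj, ← finrank_fx_conj gC gi, q2]
      · intro hs
        constructor
        · have e4 : gC = gi⁻¹ * gD * gi⁻¹⁻¹ := by rw [← q2]; group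
          rw [e4]
          exact sq_conj _ _ hs
        · rw [e0]
          exact sq_inv _ (sq_conj _ _ hs)
    · obtain ⟨w, hw⟩ : ∃ w : Ω, w ^ 2 + w + 1 = 0 := by
        have h4 : (Polynomial.X ^ 2 + Polynomial.X + 1 : Polynomial Ω).natDegree = 2 := by compute_degree!
        obtain ⟨w, hw⟩ := IsAlgClosed.exists_root (Polynomial.X ^ 2 + Polynomial.X + 1 : Polynomial Ω) (by
          intro h0
          rw [Polynomial.degree_eq_natDegree (by intro h1; rw [h1] at h4; simp at h4), h4] at h0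
          norm_num at h0)
        refine ⟨w, ?_⟩
        simpa [Polynomial.IsRoot] using hw
      obtain ⟨s, hs, hF⟩ := scal_ne hsqy
      obtain ⟨t, ht, hG⟩ := scal_ne (y := y2) (by
        rw [MonoidHom.mem_ker, map_mul, py2, ← hd.Cf1]
        have := hd.sq _ hd.mf
        calc C * f1 * C⁻¹ * (C * f1 * C⁻¹) = C * f1 ^ 2 * C⁻¹ := by rw [pow_two]; group
          _ = 1 := by rw [this, mul_one, mul_inv_cancel])
      exact not_three_false hV h2 h3 hw (ρ gD) (ρ gC) (ρ gi) (ρ gj) (by rw [← map_pow, gD3, map_one])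
        (by rw [← map_pow, gC3, map_one]) (by rw [← map_mul, ← map_mul, gDC])
        (fun h1 => hd.D1 (by rw [← hD, h.inj (h1.trans (map_one ρ).symm), map_one])) (hinj _) (hinj _)
        (by rw [← map_mul, ← map_pow, ← map_mul, hmul q1]) (by rw [← map_mul, ← map_mul, hmul q2])
        (by rw [← map_mul, ← map_pow, ← map_pow, ← map_mul, ← map_mul, hmul q3])
        (by rw [← map_mul, ← map_pow, ← map_mul, ← map_mul, hmul q4]) hs ht hF hG any
        (by rw [← map_mul, ← map_mul, Dy1]) (by rw [← map_mul, ← map_mul, Dy2])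
  have hy : y1 * y2 = y2 * y1 := by
    have t2 : y1 * (gi * x2 * gi⁻¹) = (gi * x2 * gi⁻¹) * y1 := by
      rw [hy1]
      calc gi * x1 * gi⁻¹ * (gi * x2 * gi⁻¹) = gi * (x1 * x2) * gi⁻¹ := by group
        _ = gi * x2 * gi⁻¹ * (gi * x1 * gi⁻¹) := by rw [hx]; group
    rw [ezi] at t2
    have t3 : zi * (y1 * (y1 * y2)) = zi * (y1 * (y2 * y1)) := by
      calc zi * (y1 * (y1 * y2)) = (zi * y1) * (y1 * y2) := by group
        _ = y1 * (zi * (y1 * y2)) := by rw [h.comm hzi y1]; group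
        _ = zi * (y1 * (y2 * y1)) := by rw [t2]; group
    exact mul_left_cancel (mul_left_cancel t3)
  -- everything commutes
  have key : ∀ g : L, Commute g x1 → Commute g x2 → Commute g y1 → Commute g y2 → ∀ a ∈ E.comap φ, Commute g a := by
    intro g c1 c2 c3 c4 a ha
    obtain ⟨k1, k2, k3, k4, hk⟩ := hd.gen (φ a) ha
    obtain ⟨z, hz, ez⟩ := h.exists_eq (a := a) (b := x1 ^ k1 * x2 ^ k2 * y1 ^ k3 * y2 ^ k4)
      (by rw [hk, map_mul, map_mul, map_mul, map_pow, map_pow, map_pow, map_pow, hx1, px2, py1, py2])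
    rw [ez]
    have c0 : Commute g z := (h.comm hz g).symm
    exact c0.mul_right ((((c1.pow_right _).mul_right (c2.pow_right _)).mul_right (c3.pow_right _)).mul_right
      (c4.pow_right _))
  intro a ha b hb
  have k1 := key x1 (Commute.refl _) hx x1y1 x1y2
  have k2 := key x2 hx.symm (Commute.refl _) x2y1 x2y2
  have k3 := key y1 x1y1.symm x2y1.symm (Commute.refl _) hy
  have k4 := key y2 x1y2.symm x2y2.symm hy.symm (Commute.refl _)
  exact key a (k1 a ha).symm (k2 a ha).symm (k3 a ha).symm (k4 a ha).symm b hb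

end Cfsg.Agent.H424.M22
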