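import Cfsg.Agent.H424.M22Ab
import Cfsg.Agent.H13.M22.Elts
import Cfsg.Agent.H906.E9C

/-!
# `M₂₂` has no projective representation of degree eight in odd characteristic (helper424)
-/

set_option autoImplicit false
set_option linter.unusedSectionVars false

namespace Cfsg.Agent.H424.M22

open Module Cfsg Cfsg.Agent.H13.M22 Cfsg.Agent.SporadicA.GolayBase Cfsg.Agent.SporadicA.GolayPerm
open Cfsg.Agent.SporadicStructure.M24El Cfsg.Agent.H921.Spor Cfsg.Agent.H921.Spor.M24

/-! ### the data : the octad `{0, 1, 2, 9, 10, 15, 20, 23}` -/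

def DP : ℕ := 984689973043947486362943416058356800
def DI : ℕ := 984643035197369423085052802648605984
def CP : ℕ := 963833540055964579395310429132661824
def CI : ℕ := 970249118475172770773020710863471904
def iP : ℕ := 971528945974626366293223087196459328
def iI : ℕ := 972949971869304226555796410138208896
def jP : ℕ := 982007465262166717283636829944395136
def jI : ℕ := 968716145563460850620526302839550368
def e1P : ℕ := 983560496244493579808249287294715936
def e2P : ℕ := 979463059671913328358098609083353120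
def f1P : ℕ := 963845622359010745715224433038559264
def f2P : ℕ := 959789712551549311357050337837647904
def t5P : ℕ := 972504211947739266824059912119755808
def t5I : ℕ := 979410006432370095309153054975184928
def t3P : ℕ := 963399769877222386365524343423862048
def t3I : ℕ := 969971237953841471930157435721983040
def EL6 : List ℕ := [984818244535754528103549039458486304, 959789712551549311357050337837647904,
  963845622359010745715224433038559264, 970254902120350598020240965873371168, 979463059671913328358098609083353120,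
  980599603407022916402920467664013344, 962223308431878189186809386174122016, 960884477435128931241433760505432096,
  983560496244493579808249287294715936, 971107250297140663006814421721450528, 976420838754479978627774237199763488,
  974027552735757545258125379239413792, 978205905600333181674125866675111968, 973054518210042674313238929715267616,
  965995967454161196873229362941626400, 964657405367238315514736180932642848]

theorem okA : okM DP = true ∧ okM DI = true ∧ okM CP = true ∧ okM CI = true ∧ okM iP = true ∧ okM iI = true ∧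
    okM jP = true ∧ okM jI = true := by decide +kernel

theorem okB : okM e1P = true ∧ okM e2P = true ∧ okM f1P = true ∧ okM f2P = true ∧ okM t5P = true ∧
    okM t5I = true ∧ okM t3P = true ∧ okM t3I = true := by decide +kernel

theorem ok_EL6 : ∀ P ∈ EL6, okM P = true := List.all_eq_true.1 (by decide +kernel)

/-- the subgroup `2⁴` with normaliser `2⁴ : A₆` -/
def E6 : Subgroup Spor.M22 where
  carrier := {g | ∃ P ∈ EL6, g = em P}
  mul_mem' := by
    rintro _ _ ⟨P, hP, rfl⟩ ⟨Q, hQ, rfl⟩
    refine ⟨pcomp P Q, ?_, (em_mul (ok_EL6 P hP) (ok_EL6 Q hQ)).symm⟩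
    have h : (EL6.all fun P => EL6.all fun Q => EL6.contains (pcomp P Q)) = true := by decide +kernel
    exact List.contains_iff_mem.1 (List.all_eq_true.1 (List.all_eq_true.1 h P hP) Q hQ)
  one_mem' := ⟨idP, by decide, em_one.symm⟩
  inv_mem' := by
    rintro _ ⟨P, hP, rfl⟩
    refine ⟨P, hP, ?_⟩
    have h : (EL6.all fun P => Nat.beq (pcomp P P) idP) = true := by decide +kernel
    exact (em_inv (ok_EL6 P hP) (ok_EL6 P hP) (Nat.eq_of_beq_eq_true (List.all_eq_true.1 h P hP))).symm

theorem em_mem_E6 {P : ℕ} (hP : P ∈ EL6) : em P ∈ E6 := ⟨P, hP, rfl⟩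

theorem sq6 : ∀ e ∈ E6, e ^ 2 = 1 := by
  rintro _ ⟨P, hP, rfl⟩
  have h : (EL6.all fun P => Nat.beq (pcomp P P) idP) = true := by decide +kernel
  have h1 := Nat.eq_of_beq_eq_true (List.all_eq_true.1 h P hP)
  rw [pow_two, ← em_mul (ok_EL6 P hP) (ok_EL6 P hP), h1, em_one]

/-- `E6` with elements of order five and three -/
theorem f53' : F53 E6 (em t5P) (em t3P) := by
  obtain ⟨-, -, -, -, h5, h5I, h3, h3I⟩ := okB
  have i5 : pcomp t5P t5I = idP := by decide +kernel
  have i3 : pcomp t3P t3I = idP := by decide +kernel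
  have p5 : em t5P ^ 5 = 1 := by
    rw [← em_ppow h5, ← em_one]
    congr 1
  have p3 : em t3P ^ 3 = 1 := by
    rw [← em_ppow h3, ← em_one]
    congr 1
  have f5 : ∀ e ∈ E6, em t5P * e * (em t5P)⁻¹ ∈ E6 := by
    rintro _ ⟨P, hP, rfl⟩
    refine ⟨pcomp t5P (pcomp P t5I), ?_, em_conj h5 h5I (ok_EL6 P hP) i5 rfl⟩
    have h : (EL6.all fun P => EL6.contains (pcomp t5P (pcomp P t5I))) = true := by decide +kernel
    exact List.contains_iff_mem.1 (List.all_eq_true.1 h P hP)
  have f3 : ∀ e ∈ E6, em t3P * e * (em t3P)⁻¹ ∈ E6 := by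
    rintro _ ⟨P, hP, rfl⟩
    refine ⟨pcomp t3P (pcomp P t3I), ?_, em_conj h3 h3I (ok_EL6 P hP) i3 rfl⟩
    have h : (EL6.all fun P => EL6.contains (pcomp t3P (pcomp P t3I))) = true := by decide +kernel
    exact List.contains_iff_mem.1 (List.all_eq_true.1 h P hP)
  have inv' : ∀ e ∈ E6, e⁻¹ = e := by
    intro e he
    rw [inv_eq_iff_mul_eq_one, ← pow_two, sq6 e he]
  refine ⟨sq6, iff_of_pow (by norm_num) p5 f5, iff_of_pow (by norm_num) p3 f3, p5, p3, ?_, ?_,
    ⟨em e1P, em_mem_E6 (by decide), em_ne_one okB.1 (i := 3) (by norm_num) (by decide +kernel)⟩⟩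
  · rintro _ ⟨P, hP, rfl⟩
    have h : (EL6.all fun P => EL6.any fun Q => Nat.beq (pcomp (pcomp t5P (pcomp Q t5I)) Q) P) = true := by
      decide +kernel
    obtain ⟨Q, hQ, h1⟩ := List.any_eq_true.1 (List.all_eq_true.1 h P hP)
    have h1 := Nat.eq_of_beq_eq_true h1
    refine ⟨em Q, em_mem_E6 hQ, ?_⟩
    rw [inv' _ (em_mem_E6 hQ), em_conj h5 h5I (ok_EL6 Q hQ) i5 rfl,
      ← em_mul (okM_pcomp h5 (okM_pcomp (ok_EL6 Q hQ) h5I)) (ok_EL6 Q hQ), h1]
  · rintro _ ⟨P, hP, rfl⟩
    have h : (EL6.all fun P => EL6.any fun Q => Nat.beq (pcomp (pcomp t3P (pcomp Q t3I)) Q) P) = true := by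
      decide +kernel
    obtain ⟨Q, hQ, h1⟩ := List.any_eq_true.1 (List.all_eq_true.1 h P hP)
    have h1 := Nat.eq_of_beq_eq_true h1
    refine ⟨em Q, em_mem_E6 hQ, ?_⟩
    rw [inv' _ (em_mem_E6 hQ), em_conj h3 h3I (ok_EL6 Q hQ) i3 rfl,
      ← em_mul (okM_pcomp h3 (okM_pcomp (ok_EL6 Q hQ) h3I)) (ok_EL6 Q hQ), h1]

theorem em_comm' {P Q : ℕ} (hP : okM P = true) (hQ : okM Q = true) (h : pcomp P Q = pcomp Q P) :
    em P * em Q = em Q * em P := by
  rw [← em_mul hP hQ, h, em_mul hQ hP]

theorem dat : Dat E6 (em DP) (em CP) (em iP) (em jP) (em e1P) (em e2P) (em f1P) (em f2P) := by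
  obtain ⟨hD, hDI, hC, hCI, hi, hiI, hj, hjI⟩ := okA
  obtain ⟨h1, h2, h3, h4, -, -, -, -⟩ := okB
  have iD : pcomp DP DI = idP := by decide +kernel
  have iC : pcomp CP CI = idP := by decide +kernel
  have ii : pcomp iP iI = idP := by decide +kernel
  have ij : pcomp jP jI = idP := by decide +kernel
  have hD2 := okM_ppow hD 2
  have hC2 := okM_ppow hC 2
  refine
    { D3 := ?_, C3 := ?_, D1 := em_ne_one hD (i := 1) (by norm_num) (by decide +kernel),
      DC := em_comm' hD hC (by decide +kernel),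
      r1 := ?_, r2 := em_conj hi hiI hC ii (by decide +kernel), r3 := ?_, r4 := ?_, sq := sq6,
      me := em_mem_E6 (by decide), mf := em_mem_E6 (by decide),
      De1 := em_conj hD hDI h1 iD (by decide +kernel), De2 := ?_,
      Df1 := em_comm' hD h3 (by decide +kernel), Df2 := em_comm' hD h4 (by decide +kernel),
      Cf1 := em_conj hC hCI h3 iC (by decide +kernel), Cf2 := ?_,
      Ce1 := em_comm' hC h1 (by decide +kernel), Ce2 := em_comm' hC h2 (by decide +kernel),
      ie1 := em_conj hi hiI h1 ii (by decide +kernel), ie2 := ?_,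
      ef11 := em_comm' h1 h3 (by decide +kernel), ef12 := em_comm' h1 h4 (by decide +kernel),
      e12 := em_comm' h1 h2 (by decide +kernel), gen := ?_ }
  · rw [← em_ppow hD, ← em_one]
    congr 1
  · rw [← em_ppow hC, ← em_one]
    congr 1
  · rw [← em_ppow hC]
    exact em_conj hi hiI hD ii (by decide +kernel)
  · rw [← em_ppow hC, ← em_ppow hD, ← em_mul hD2 hC2]
    exact em_conj hj hjI hD ij (by decide +kernel)
  · rw [← em_ppow hD, ← em_mul hD2 hC]
    exact em_conj hj hjI hC ij (by decide +kernel)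
  · rw [← em_mul h1 h2]
    exact em_conj hD hDI h2 iD (by decide +kernel)
  · rw [← em_mul h3 h4]
    exact em_conj hC hCI h4 iC (by decide +kernel)
  · rw [← em_mul h3 h4]
    exact em_conj hi hiI h2 ii (by decide +kernel)
  · rintro _ ⟨P, hP, rfl⟩
    have h : (EL6.all fun P => [0, 1].any fun a => [0, 1].any fun b => [0, 1].any fun c => [0, 1].any fun d =>
        Nat.beq (pcomp (pcomp (pcomp (ppow e1P a) (ppow e2P b)) (ppow f1P c)) (ppow f2P d)) P) = true := by
      decide +kernel
    obtain ⟨a, -, ha⟩ := List.any_eq_true.1 (List.all_eq_true.1 h P hP)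
    obtain ⟨b, -, hb⟩ := List.any_eq_true.1 ha
    obtain ⟨c, -, hc⟩ := List.any_eq_true.1 hb
    obtain ⟨d, -, hd⟩ := List.any_eq_true.1 hc
    refine ⟨a, b, c, d, ?_⟩
    rw [← Nat.eq_of_beq_eq_true hd, em_mul (okM_pcomp (okM_pcomp (okM_ppow h1 a) (okM_ppow h2 b)) (okM_ppow h3 c))
      (okM_ppow h4 d), em_mul (okM_pcomp (okM_ppow h1 a) (okM_ppow h2 b)) (okM_ppow h3 c),
      em_mul (okM_ppow h1 a) (okM_ppow h2 b), em_ppow h1, em_ppow h2, em_ppow h3, em_ppow h4]

/-- **no degree eight** -/
theorem eight_false {L Ω V : Type*} [Group L] [Finite L] [Field Ω] [IsAlgClosed Ω] [AddCommGroup V] [Module Ω V]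
    [FiniteDimensional Ω V] {φ : L →* Spor.M22} {ρ : L →* Module.End Ω V} (h : Cov φ ρ) (h2 : (2 : Ω) ≠ 0)
    (hcop : (Nat.card φ.ker).Coprime 3) : finrank Ω V ≠ 8 := by
  intro hn
  have hab := ab_of_dat h h2 hn hcop dat
  obtain ⟨g5, h5⟩ := h.surj (em t5P)
  obtain ⟨g3, h3⟩ := h.surj (em t3P)
  exact FT.not_eight (f53'.ft h hab h5 h3) h.scal (f53'.card h h2) (f53'.not_top h) hn

end Cfsg.Agent.H424.M22
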