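import Mathlib

/-!
# Linear algebra for `M₂₂` in dimension eight (helper424)
-/

set_option autoImplicit false
set_option linter.unusedSectionVars false

namespace Cfsg.Agent.H424.M22

open Module

variable {Ω V : Type*} [Field Ω] [AddCommGroup V] [Module Ω V]

/-- `n² = 0`, `I² = -1`, `I n = (c I - n) I` -/
structure Hf (I n : Module.End Ω V) (c : Ω) : Prop where
  c0 : c ≠ 0
  nn : n * n = 0
  ii : I * I = -1
  rel : I * n = (c • I - n) * I

lemma Hf.neg {I n : Module.End Ω V} {c : Ω} (h : Hf I n c) : Hf I (-n) (-c) where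
  c0 := neg_ne_zero.2 h.c0
  nn := by rw [neg_mul_neg, h.nn]
  ii := h.ii
  rel := by
    rw [mul_neg, h.rel, neg_smul]
    noncomm_ring

lemma Hf.inj {I n : Module.End Ω V} {c : Ω} (h : Hf I n c) : Function.Injective I := by
  intro v w hvw
  have h1 : ∀ v, I (I v) = -v := fun v => by
    have := congrArg (fun f : Module.End Ω V => f v) h.ii
    exact this
  rw [← neg_inj, ← h1, ← h1, hvw]

/-- the kernel of `n` has half the dimension -/
lemma Hf.half [FiniteDimensional Ω V] {I n : Module.End Ω V} {c : Ω} (h : Hf I n c) :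
    finrank Ω V = 2 * finrank Ω (LinearMap.ker n) := by
  have h1 := LinearMap.finrank_range_add_finrank_ker n
  have h2 : LinearMap.range n ≤ LinearMap.ker n := by
    rintro _ ⟨v, rfl⟩
    have := congrArg (fun f : Module.End Ω V => f v) h.nn
    exact this
  have h3 := Submodule.finrank_mono h2
  have h4 : Disjoint (LinearMap.ker n) ((LinearMap.ker n).map I) := by
    rw [Submodule.disjoint_def]
    rintro _ hv ⟨w, hw, rfl⟩
    have e1 : n w = 0 := hw
    have e2 : n (I w) = 0 := hv
    have e3 : I (n w) = (c • I) (I w) - n (I w) := by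
      have := congrArg (fun f : Module.End Ω V => f w) h.rel
      exact this
    rw [e1, e2, map_zero, sub_zero, LinearMap.smul_apply] at e3
    have e4 : I (I w) = 0 := (smul_eq_zero.1 e3.symm).resolve_left h.c0
    exact h.inj (by rw [e4, map_zero])
  have h5 := Submodule.finrank_add_finrank_le_of_disjoint h4
  have h6 : finrank Ω ((LinearMap.ker n).map I) = finrank Ω (LinearMap.ker n) :=
    (Submodule.equivMapOfInjective I h.inj _).finrank_eq.symm
  omega

/-- the restriction of an operator to an invariant subspace -/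
def res (U : Submodule Ω V) (f : Module.End Ω V) (h : ∀ v ∈ U, f v ∈ U) : Module.End Ω U := f.restrict h

lemma res_apply (U : Submodule Ω V) (f : Module.End Ω V) (h : ∀ v ∈ U, f v ∈ U) (v : U) :
    ((res U f h v : U) : V) = f v.1 := rfl

lemma Hf.res {I n : Module.End Ω V} {c : Ω} (h : Hf I n c) (U : Submodule Ω V) (hI : ∀ v ∈ U, I v ∈ U)
    (hn : ∀ v ∈ U, n v ∈ U) : Hf (res U I hI) (res U n hn) c where
  c0 := h.c0
  nn := LinearMap.ext fun v => Subtype.ext (by
    have := congrArg (fun f : Module.End Ω V => f v.1) h.nn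
    exact this)
  ii := LinearMap.ext fun v => Subtype.ext (by
    have := congrArg (fun f : Module.End Ω V => f v.1) h.ii
    exact this)
  rel := LinearMap.ext fun v => Subtype.ext (by
    have := congrArg (fun f : Module.End Ω V => f v.1) h.rel
    exact this)

/-- the kernel of `n` on an invariant subspace -/
lemma Hf.half_sub [FiniteDimensional Ω V] {I n : Module.End Ω V} {c : Ω} (h : Hf I n c) (U : Submodule Ω V)
    (hI : ∀ v ∈ U, I v ∈ U) (hn : ∀ v ∈ U, n v ∈ U) :
    finrank Ω U = 2 * finrank Ω (U ⊓ LinearMap.ker n : Submodule Ω V) := by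
  have h1 := (h.res U hI hn).half
  have h2 : (LinearMap.ker (M22.res U n hn)).map U.subtype = U ⊓ LinearMap.ker n := by
    ext v
    rw [Submodule.mem_map, Submodule.mem_inf]
    constructor
    · rintro ⟨w, hw, rfl⟩
      refine ⟨w.2, ?_⟩
      have : M22.res U n hn w = 0 := hw
      have h3 := congrArg Subtype.val this
      exact h3
    · rintro ⟨hv, hv'⟩
      exact ⟨⟨v, hv⟩, Subtype.ext hv', rfl⟩
  rw [← h2, Submodule.finrank_map_subtype_eq]
  exact h1

/-- nilpotent operators on a plane -/
lemma nil_plane [FiniteDimensional Ω V] (h2 : finrank Ω V ≤ 2) {N M : Module.End Ω V} (hN : N * N * N = 0)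
    (hM : M * M * M = 0) (hc : N * M = M * N) : N * M = 0 := by
  by_cases hV : finrank Ω V = 0
  · have : Subsingleton V := finrank_zero_iff.1 hV
    exact Subsingleton.elim _ _
  · have hr : finrank Ω (LinearMap.range M) ≤ 1 := by
      by_contra hcon
      have h3 := Submodule.finrank_le (LinearMap.range M)
      have h4 : LinearMap.range M = ⊤ := Submodule.eq_top_of_finrank_eq (by omega)
      have h5 : Function.Surjective M := LinearMap.range_eq_top.1 h4
      have h6 : Function.Surjective (M * M * M : Module.End Ω V) := (h5.comp h5).comp h5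
      rw [hM] at h6
      have : Subsingleton V := by
        constructor
        intro a b
        obtain ⟨a', rfl⟩ := h6 a
        obtain ⟨b', rfl⟩ := h6 b
        rfl
      exact hV finrank_zero_of_subsingleton
    apply LinearMap.ext
    intro v
    change N (M v) = 0
    have hNM : ∀ v, N (M v) = M (N v) := fun v => by
      have := congrArg (fun f : Module.End Ω V => f v) hc
      exact this
    by_cases h0 : M v = 0
    · rw [h0, map_zero]
    · obtain ⟨c, hc'⟩ : ∃ c : Ω, c • (M v) = N (M v) := by
        have h7 : (⟨M v, v, rfl⟩ : LinearMap.range M) ≠ 0 := fun h => h0 (congrArg Subtype.val h)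
        obtain ⟨c, hc'⟩ := (finrank_le_one_iff.1 hr)
        have h8 := hc' ⟨M v, v, rfl⟩
        have h9 := hc' ⟨N (M v), ⟨N v, (hNM v).symm⟩⟩
        obtain ⟨a, ha⟩ := h8
        obtain ⟨b, hb⟩ := h9
        have ha0 : a ≠ 0 := by
          rintro rfl
          rw [zero_smul] at ha
          exact h7 ha.symm
        refine ⟨b * a⁻¹, ?_⟩
        have e1 := congrArg Subtype.val ha
        have e2 := congrArg Subtype.val hb
        change a • (c : V) = M v at e1
        change b • (c : V) = N (M v) at e2
        rw [← e2, ← e1, smul_smul, mul_assoc, inv_mul_cancel₀ ha0, mul_one]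
      have h10 : N (N (N (M v))) = (c * c * c) • M v := by
        rw [← hc', map_smul, ← hc', map_smul, map_smul, ← hc', smul_smul, smul_smul]
      have h11 : N (N (N (M v))) = 0 := by
        have := congrArg (fun f : Module.End Ω V => f (M v)) hN
        exact this
      rw [h11] at h10
      have h12 : c * c * c = 0 := (smul_eq_zero.1 h10.symm).resolve_right h0
      have h13 : c = 0 := by
        rcases mul_eq_zero.1 h12 with h | h
        · exact mul_self_eq_zero.1 h
        · exact h
      rw [← hc', h13, zero_smul]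

/-- the fixed space of an operator -/
def fx (f : Module.End Ω V) : Submodule Ω V := LinearMap.ker (f - 1)

lemma mem_fx {f : Module.End Ω V} {v : V} : v ∈ fx f ↔ f v = v := by
  unfold fx
  rw [LinearMap.mem_ker, LinearMap.sub_apply, Module.End.one_apply, sub_eq_zero]

lemma inv_ker {f g : Module.End Ω V} (h : f * g = g * f) : ∀ v ∈ LinearMap.ker g, f v ∈ LinearMap.ker g := by
  intro v hv
  rw [LinearMap.mem_ker] at hv ⊢
  have := congrArg (fun f : Module.End Ω V => f v) h
  have h1 : f (g v) = g (f v) := this
  rw [← h1, hv, map_zero]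

lemma inv_inf {f : Module.End Ω V} {U U' : Submodule Ω V} (h : ∀ v ∈ U, f v ∈ U) (h' : ∀ v ∈ U', f v ∈ U') :
    ∀ v ∈ U ⊓ U', f v ∈ U ⊓ U' := fun v hv => ⟨h v hv.1, h' v hv.2⟩

/-- two commuting pairs -/
structure Pr (I n F m : Module.End Ω V) (c d : Ω) : Prop where
  h1 : Hf I n c
  h2 : Hf F m d
  nm : n * m = m * n
  Im : I * m = m * I
  Fn : F * n = n * F

/-- quarter -/
lemma Pr.quarter [FiniteDimensional Ω V] {I n F m : Module.End Ω V} {c d : Ω} (h : Pr I n F m c d)
    (K : Module.End Ω V) (hI : I * K = K * I) (hn : n * K = K * n) (hF : F * K = K * F) (hm : m * K = K * m) :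
    finrank Ω (LinearMap.ker K) = 2 * finrank Ω (LinearMap.ker K ⊓ LinearMap.ker n : Submodule Ω V) ∧
    finrank Ω (LinearMap.ker K ⊓ LinearMap.ker n : Submodule Ω V) =
      2 * finrank Ω (LinearMap.ker K ⊓ LinearMap.ker n ⊓ LinearMap.ker m : Submodule Ω V) :=
  ⟨h.h1.half_sub _ (inv_ker hI) (inv_ker hn),
    h.h2.half_sub _ (inv_inf (inv_ker hF) (inv_ker h.Fn)) (inv_inf (inv_ker hm) (inv_ker h.nm.symm))⟩

/-- an operator commuting with `I` killed by `n` is zero -/
lemma Hf.zero {I n : Module.End Ω V} {c : Ω} (h : Hf I n c) {T : Module.End Ω V} (hT : I * T = T * I)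
    (h0 : n * T = 0) : T = 0 := by
  have h1 : I * n * T = (c • I - n) * I * T := by rw [h.rel]
  have h2 : (c • I - n) * I * T = c • (I * I * T) - (n * T) * I := by
    rw [sub_mul, sub_mul, smul_mul_assoc, smul_mul_assoc, mul_assoc n, hT, ← mul_assoc n]
  rw [mul_assoc, h0, mul_zero, h2, h0, zero_mul, sub_zero, h.ii] at h1
  have h3 := (smul_eq_zero.1 h1.symm).resolve_left h.c0
  rw [neg_one_mul, neg_eq_zero] at h3
  exact h3

/-- the fixed space of `(1 + n) (1 + m) (1 + K)` -/
theorem Pr.le_three [FiniteDimensional Ω V] (hV : finrank Ω V = 8) (h2 : (2 : Ω) ≠ 0) {I n F m : Module.End Ω V}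
    {c d : Ω} (h : Pr I n F m c d)
    (K : Module.End Ω V) (hI : I * K = K * I) (hn : n * K = K * n) (hF : F * K = K * F) (hm : m * K = K * m)
    (hKK : K * K = 0) (hK : K ≠ 0) : finrank Ω (fx ((1 + n) * (1 + m) * (1 + K))) ≤ 3 := by
  obtain ⟨q1, q2⟩ := h.quarter K hI hn hF hm
  have hk : finrank Ω (LinearMap.ker K) ≠ 8 := by
    intro h0
    apply hK
    rw [← LinearMap.ker_eq_top]
    exact Submodule.eq_top_of_finrank_eq (by rw [h0, hV])
  have hk' := Submodule.finrank_le (LinearMap.ker K)
  set S : Submodule Ω V := LinearMap.ker K ⊓ LinearMap.ker n ⊓ LinearMap.ker m with hS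
  have hS1 : finrank Ω S ≤ 1 := by omega
  -- the equations on the fixed space
  have key : ∀ v ∈ fx ((1 + n) * (1 + m) * (1 + K)),
      n v ∈ S ∧ m v ∈ S ∧ (n v = 0 → m v = 0 → v ∈ S) := by
    intro v hv
    rw [mem_fx] at hv
    have nn : ∀ v, n (n v) = 0 := fun v => by
      have := congrArg (fun f : Module.End Ω V => f v) h.h1.nn
      exact this
    have mm : ∀ v, m (m v) = 0 := fun v => by
      have := congrArg (fun f : Module.End Ω V => f v) h.h2.nn
      exact this
    have KK : ∀ v, K (K v) = 0 := fun v => by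
      have := congrArg (fun f : Module.End Ω V => f v) hKK
      exact this
    have mn : ∀ v, m (n v) = n (m v) := fun v => by
      have := congrArg (fun f : Module.End Ω V => f v) h.nm
      exact this.symm
    have Kn : ∀ v, K (n v) = n (K v) := fun v => by
      have := congrArg (fun f : Module.End Ω V => f v) hn
      exact this.symm
    have Km : ∀ v, K (m v) = m (K v) := fun v => by
      have := congrArg (fun f : Module.End Ω V => f v) hm
      exact this.symm
    have e0 : n v + m v + K v + n (m v) + n (K v) + m (K v) + n (m (K v)) = 0 := by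
      have e1 : ((1 + n) * (1 + m) * (1 + K)) v =
          v + (n v + m v + K v + n (m v) + n (K v) + m (K v) + n (m (K v))) := by
        change (v + K v) + m (v + K v) + n ((v + K v) + m (v + K v)) = _
        simp only [map_add]
        abel
      rw [hv] at e1
      have := e1.symm
      rwa [add_eq_left] at this
    have e3 : n (m (K v)) = 0 := by
      have e1 := congrArg (fun w => m (K w)) e0
      simp only [map_add, map_zero, KK, Kn, Km, mm, mn, add_zero] at e1
      exact e1
    have e4 : n (m v) + n (K v) = 0 := by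
      have e1 := congrArg n e0
      simp only [map_add, map_zero, nn, e3, add_zero, zero_add] at e1
      exact e1
    have e5 : n (m v) + m (K v) = 0 := by
      have e1 := congrArg m e0
      simp only [map_add, map_zero, mm, mn, e3, add_zero] at e1
      exact e1
    have e6 : n (K v) + m (K v) = 0 := by
      have e1 := congrArg K e0
      simp only [map_add, map_zero, KK, Kn, Km, e3, add_zero] at e1
      exact e1
    have f1 : n (m v) = 0 := by
      have : (2 : Ω) • n (m v) = 0 := by
        have e7 : (2 : Ω) • n (m v) = (n (m v) + n (K v)) + (n (m v) + m (K v)) - (n (K v) + m (K v)) := by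
          rw [two_smul]; abel
        rw [e7, e4, e5, e6]; simp
      exact (smul_eq_zero.1 this).resolve_left h2
    have f2 : n (K v) = 0 := by rwa [f1, zero_add] at e4
    have f3 : m (K v) = 0 := by rwa [f1, zero_add] at e5
    have f4 : n v + m v + K v = 0 := by
      rw [f1, f2, f3, map_zero, add_zero, add_zero, add_zero, add_zero] at e0
      exact e0
    refine ⟨⟨⟨?_, nn v⟩, ?_⟩, ⟨⟨?_, f1⟩, mm v⟩, fun g1 g2 => ⟨⟨?_, g1⟩, g2⟩⟩
    · change K (n v) = 0
      rw [Kn, f2]
    · change m (n v) = 0
      rw [mn, f1]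
    · change K (m v) = 0
      rw [Km, f3]
    · change K v = 0
      rw [g1, g2, zero_add, zero_add] at f4
      exact f4
  let Φ : fx ((1 + n) * (1 + m) * (1 + K)) →ₗ[Ω] S × S :=
    { toFun := fun v => (⟨n v.1, (key v.1 v.2).1⟩, ⟨m v.1, (key v.1 v.2).2.1⟩)
      map_add' := fun v w => by
        apply Prod.ext <;> apply Subtype.ext
        · exact map_add n _ _
        · exact map_add m _ _
      map_smul' := fun a v => by
        apply Prod.ext <;> apply Subtype.ext
        · exact map_smul n _ _
        · exact map_smul m _ _ }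
  have r1 := LinearMap.finrank_range_add_finrank_ker Φ
  have r2 : finrank Ω (LinearMap.range Φ) ≤ 2 := by
    refine (Submodule.finrank_le _).trans ?_
    rw [Module.finrank_prod]
    omega
  have r3 : finrank Ω (LinearMap.ker Φ) ≤ 1 := by
    refine le_trans ?_ hS1
    rw [← Submodule.finrank_map_subtype_eq]
    apply Submodule.finrank_mono
    rintro _ ⟨v, hv, rfl⟩
    have h3 : Φ v = 0 := hv
    exact (key v.1 v.2).2.2 (congrArg (fun x : S × S => (x.1 : V)) h3) (congrArg (fun x : S × S => (x.2 : V)) h3)
  omega

/-- the fixed space of `(1 + n) (1 + N)` -/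
theorem Pr.four_le [FiniteDimensional Ω V] (hV : finrank Ω V = 8) {I n F m : Module.End Ω V}
    {c d : Ω} (h : Pr I n F m c d)
    (K : Module.End Ω V) (hI : I * K = K * I) (hn : n * K = K * n) (hF : F * K = K * F) (hm : m * K = K * m)
    (hKK : K * K = 0) (hK : K ≠ 0) : 4 ≤ finrank Ω (fx ((1 + n) * (1 + K))) := by
  obtain ⟨q1, q2⟩ := h.quarter K hI hn hF hm
  have hk : finrank Ω (LinearMap.ker K) ≠ 8 := by
    intro h0
    apply hK
    rw [← LinearMap.ker_eq_top]
    exact Submodule.eq_top_of_finrank_eq (by rw [h0, hV])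
  have hk' := Submodule.finrank_le (LinearMap.ker K)
  have hS1 : finrank Ω (LinearMap.ker K ⊓ LinearMap.ker n : Submodule Ω V) ≤ 2 := by omega
  have nn : ∀ v, n (n v) = 0 := fun v => by
    have := congrArg (fun f : Module.End Ω V => f v) h.h1.nn
    exact this
  have KK : ∀ v, K (K v) = 0 := fun v => by
    have := congrArg (fun f : Module.End Ω V => f v) hKK
    exact this
  have Kn : ∀ v, K (n v) = n (K v) := fun v => by
    have := congrArg (fun f : Module.End Ω V => f v) hn
    exact this.symm
  have r1 := LinearMap.finrank_range_add_finrank_ker ((1 + n) * (1 + K) - 1 : Module.End Ω V)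
  have r2 : LinearMap.range ((1 + n) * (1 + K) - 1 : Module.End Ω V) ≤ LinearMap.ker (n - K) := by
    rintro _ ⟨v, rfl⟩
    change n ((v + K v) + n (v + K v) - v) - K ((v + K v) + n (v + K v) - v) = 0
    simp only [map_add, map_sub, nn, KK, Kn, add_zero, map_zero]
    abel
  have r3 : finrank Ω (LinearMap.ker (n - K)) ≤ 4 := by
    have key : ∀ v ∈ LinearMap.ker (n - K), n v ∈ LinearMap.ker K ⊓ LinearMap.ker n := by
      intro v hv
      have e1 : n v - K v = 0 := hv
      refine ⟨?_, nn v⟩
      change K (n v) = 0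
      rw [sub_eq_zero.1 e1, KK]
    let Φ : LinearMap.ker (n - K) →ₗ[Ω] (LinearMap.ker K ⊓ LinearMap.ker n : Submodule Ω V) :=
      { toFun := fun v => ⟨n v.1, key v.1 v.2⟩
        map_add' := fun v w => Subtype.ext (map_add n _ _)
        map_smul' := fun a v => Subtype.ext (map_smul n _ _) }
    have s1 := LinearMap.finrank_range_add_finrank_ker Φ
    have s2 := Submodule.finrank_le (LinearMap.range Φ)
    have s3 : finrank Ω (LinearMap.ker Φ) ≤ finrank Ω (LinearMap.ker K ⊓ LinearMap.ker n : Submodule Ω V) := by
      rw [← Submodule.finrank_map_subtype_eq]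
      apply Submodule.finrank_mono
      rintro _ ⟨v, hv, rfl⟩
      have e1 : n v.1 - K v.1 = 0 := v.2
      have e2 : n v.1 = 0 := congrArg Subtype.val (show Φ v = 0 from hv)
      refine ⟨?_, e2⟩
      change K v.1 = 0
      rw [← sub_eq_zero.1 e1, e2]
    omega
  have r4 := Submodule.finrank_mono r2
  unfold fx
  omega

end Cfsg.Agent.H424.M22
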