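import Cfsg.Agent.H424.M22Lin

/-!
# Characteristic three: quaternion operators (helper424)
-/

set_option autoImplicit false
set_option linter.unusedSectionVars false

namespace Cfsg.Agent.H424.M22

open Module

variable {Ω V : Type*} [Field Ω] [AddCommGroup V] [Module Ω V]

/-- a product of commuting nilpotent operators, which commute with two pairs, in dimension eight -/
theorem Pr.prod_zero [FiniteDimensional Ω V] (hV : finrank Ω V = 8) {I n F m : Module.End Ω V}
    {c d : Ω} (h : Pr I n F m c d) {N M : Module.End Ω V} (hN : N * N * N = 0) (hM : M * M * M = 0)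
    (hc : N * M = M * N) (IN : I * N = N * I) (IM : I * M = M * I) (FN : F * N = N * F) (FM : F * M = M * F)
    (nN : n * N = N * n) (nM : n * M = M * n) (mN : m * N = N * m) (mM : m * M = M * m) : N * M = 0 := by
  obtain ⟨q1, q2⟩ := h.quarter 0 (by simp) (by simp) (by simp) (by simp)
  set W : Submodule Ω V := LinearMap.ker (0 : Module.End Ω V) ⊓ LinearMap.ker n ⊓ LinearMap.ker m with hW
  have hk : finrank Ω (LinearMap.ker (0 : Module.End Ω V)) = 8 := by
    rw [LinearMap.ker_zero, finrank_top, hV]
  have hW2 : finrank Ω W ≤ 2 := by omega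
  have iW : ∀ T : Module.End Ω V, n * T = T * n → m * T = T * m → ∀ v ∈ W, T v ∈ W := by
    intro T h1 h2
    exact inv_inf (inv_inf (inv_ker (by simp)) (inv_ker h1.symm)) (inv_ker h2.symm)
  have h1 := nil_plane hW2 (N := res W N (iW N nN mN)) (M := res W M (iW M nM mM))
    (LinearMap.ext fun v => Subtype.ext (by
      have := congrArg (fun f : Module.End Ω V => f v.1) hN
      exact this))
    (LinearMap.ext fun v => Subtype.ext (by
      have := congrArg (fun f : Module.End Ω V => f v.1) hM
      exact this))
    (LinearMap.ext fun v => Subtype.ext (by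
      have := congrArg (fun f : Module.End Ω V => f v.1) hc
      exact this))
  have h2 : n * (m * (N * M)) = 0 := by
    apply LinearMap.ext
    intro v
    have e1 : n * (m * (N * M)) = N * M * (n * m) := by
      calc n * (m * (N * M)) = n * ((m * N) * M) := by noncomm_ring
        _ = n * (N * (m * M)) := by rw [mN]; noncomm_ring
        _ = (n * N) * (M * m) := by rw [mM]; noncomm_ring
        _ = N * (n * M) * m := by rw [nN]; noncomm_ring
        _ = N * M * (n * m) := by rw [nM]; noncomm_ring
    rw [e1]
    have hw : n (m v) ∈ W := by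
      refine ⟨⟨by simp, ?_⟩, ?_⟩
      · have := congrArg (fun f : Module.End Ω V => f (m v)) h.h1.nn
        exact this
      · have e2 := congrArg (fun f : Module.End Ω V => f (m v)) h.nm
        have e3 := congrArg (fun f : Module.End Ω V => f v) h.h2.nn
        have e2' : n (m (m v)) = m (n (m v)) := e2
        have e3' : m (m v) = 0 := e3
        rw [e3', map_zero] at e2'
        exact e2'.symm
    have := congrArg (fun f : Module.End Ω W => (f ⟨n (m v), hw⟩ : V)) h1
    exact this
  have h3 := h.h1.zero (T := m * (N * M)) (by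
    calc I * (m * (N * M)) = (I * m) * (N * M) := by noncomm_ring
      _ = m * (I * N) * M := by rw [h.Im]; noncomm_ring
      _ = m * N * (I * M) := by rw [IN]; noncomm_ring
      _ = m * (N * M) * I := by rw [IM]; noncomm_ring) h2
  exact h.h2.zero (T := N * M) (by
    calc F * (N * M) = (F * N) * M := by noncomm_ring
      _ = N * (F * M) := by rw [FN]; noncomm_ring
      _ = N * M * F := by rw [FM]; noncomm_ring) h3

/-- a quaternion triple permuted by an operator of order three -/
structure Qt (X I J K : Module.End Ω V) : Prop where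
  X3 : X * X * X = 1
  XI : X * I = J * X
  XJ : X * J = K * X
  XK : X * K = I * X
  II : I * I = -1
  IJ : I * J = K
  JI : J * I = -K

section qt

variable {X I J K : Module.End Ω V} (h : Qt X I J K)

include h

lemma Qt.JJ : J * J = -1 := by
  calc J * J = J * J * (X * X * X) := by rw [h.X3, mul_one]
    _ = J * (J * X) * (X * X) := by noncomm_ring
    _ = J * (X * I) * (X * X) := by rw [h.XI]
    _ = (J * X) * I * (X * X) := by noncomm_ring
    _ = X * I * I * (X * X) := by rw [h.XI]
    _ = X * (I * I) * (X * X) := by noncomm_ring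
    _ = -(X * X * X) := by rw [h.II]; noncomm_ring
    _ = -1 := by rw [h.X3]

lemma Qt.KI : K * I = J := by
  calc K * I = I * (J * I) := by rw [← h.IJ]; noncomm_ring
    _ = -(I * K) := by rw [h.JI]; noncomm_ring
    _ = -((I * I) * J) := by rw [← h.IJ]; noncomm_ring
    _ = J := by rw [h.II]; noncomm_ring

lemma Qt.IK : I * K = -J := by
  calc I * K = (I * I) * J := by rw [← h.IJ]; noncomm_ring
    _ = -J := by rw [h.II]; noncomm_ring

lemma Qt.KJ : K * J = -I := by
  calc K * J = I * (J * J) := by rw [← h.IJ]; noncomm_ring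
    _ = -I := by rw [h.JJ]; noncomm_ring

lemma Qt.JK : J * K = I := by
  calc J * K = (J * I) * J := by rw [← h.IJ]; noncomm_ring
    _ = -(K * J) := by rw [h.JI]; noncomm_ring
    _ = I := by rw [h.KJ, neg_neg]

lemma Qt.KK : K * K = -1 := by
  calc K * K = I * (J * K) := by rw [← h.IJ]; noncomm_ring
    _ = -1 := by rw [h.JK, h.II]

end qt

/-- `n = I + J + K` -/
def nn (I J K : Module.End Ω V) : Module.End Ω V := I + J + K

/-- `N = (1 - n) X - 1` -/
def NN (X I J K : Module.End Ω V) : Module.End Ω V := (1 - nn I J K) * X - 1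

lemma three_mul' (h3 : (3 : Ω) = 0) (T : Module.End Ω V) : T + T + T = 0 := by
  have h1 : T + T + T = (3 : Ω) • T := by
    rw [show (3 : Ω) = 1 + 1 + 1 by norm_num, add_smul, add_smul, one_smul]
  rw [h1, h3, zero_smul]

section qt2

variable {X I J K : Module.End Ω V} (h : Qt X I J K) (h3 : (3 : Ω) = 0)

include h h3

lemma Qt.nn_sq : nn I J K * nn I J K = 0 := by
  unfold nn
  have e : (I + J + K) * (I + J + K) =
      I * I + J * J + K * K + (I * J + J * I) + (I * K + K * I) + (J * K + K * J) := by noncomm_ring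
  rw [e, h.II, h.JJ, h.KK, h.IJ, h.JI, h.IK, h.KI, h.JK, h.KJ]
  have e2 := three_mul' h3 (1 : Module.End Ω V)
  calc _ = -((1 : Module.End Ω V) + 1 + 1) := by abel
    _ = 0 := by rw [e2, neg_zero]

lemma Qt.hf : Hf I (nn I J K) (2 : Ω) where
  c0 := by
    intro h2
    have : (1 : Ω) = 0 := by
      have e : (1 : Ω) = 3 - 2 := by norm_num
      rw [e, h3, h2, sub_zero]
    exact one_ne_zero this
  nn := h.nn_sq h3
  ii := h.II
  rel := by
    unfold M22.nn
    have e1 : I * (I + J + K) = I * I + I * J + I * K := by noncomm_ring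
    have e2 : ((2 : Ω) • I - (I + J + K)) * I = I * I - J * I - K * I := by
      rw [two_smul]; noncomm_ring
    rw [e1, e2, h.IJ, h.IK, h.JI, h.KI]
    abel

lemma Qt.one_sub_mul : (1 + nn I J K) * (1 - nn I J K) = 1 := by
  calc (1 + nn I J K) * (1 - nn I J K) = 1 - nn I J K * nn I J K := by noncomm_ring
    _ = 1 := by rw [h.nn_sq h3, sub_zero]

lemma Qt.one_sub_mul' : (1 - nn I J K) * (1 + nn I J K) = 1 := by
  calc (1 - nn I J K) * (1 + nn I J K) = 1 - nn I J K * nn I J K := by noncomm_ring
    _ = 1 := by rw [h.nn_sq h3, sub_zero]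

lemma Qt.X_eq : X = (1 + nn I J K) * (1 + NN X I J K) := by
  calc X = ((1 + nn I J K) * (1 - nn I J K)) * X := by rw [h.one_sub_mul h3, one_mul]
    _ = (1 + nn I J K) * (1 + NN X I J K) := by unfold NN; noncomm_ring

omit h3 in
lemma Qt.Xn : X * nn I J K = nn I J K * X := by
  unfold nn
  calc X * (I + J + K) = X * I + X * J + X * K := by noncomm_ring
    _ = (I + J + K) * X := by rw [h.XI, h.XJ, h.XK]; noncomm_ring

omit h3 in
lemma Qt.nN : nn I J K * NN X I J K = NN X I J K * nn I J K := by
  unfold NN
  calc nn I J K * ((1 - nn I J K) * X - 1) = (1 - nn I J K) * (nn I J K * X) - nn I J K := by noncomm_ring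
    _ = ((1 - nn I J K) * X - 1) * nn I J K := by rw [← h.Xn]; noncomm_ring

/-- `I (1 - n) = (1 - n) J` -/
lemma Qt.Imn : I * (1 - nn I J K) = (1 - nn I J K) * J := by
  have e1 : (1 + nn I J K) * I = J * (1 + nn I J K) := by
    unfold nn
    calc (1 + (I + J + K)) * I = I + I * I + J * I + K * I := by noncomm_ring
      _ = J + J * I + J * J + J * K := by
        rw [h.II, h.JI, h.KI, h.JJ, h.JK]; abel
      _ = J * (1 + (I + J + K)) := by noncomm_ring
  calc I * (1 - nn I J K) = ((1 - nn I J K) * (1 + nn I J K)) * (I * (1 - nn I J K)) := by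
        rw [h.one_sub_mul' h3, one_mul]
    _ = (1 - nn I J K) * ((1 + nn I J K) * I) * (1 - nn I J K) := by noncomm_ring
    _ = (1 - nn I J K) * J * ((1 + nn I J K) * (1 - nn I J K)) := by rw [e1]; noncomm_ring
    _ = (1 - nn I J K) * J := by rw [h.one_sub_mul h3, mul_one]

lemma Qt.IN : I * NN X I J K = NN X I J K * I := by
  unfold NN
  calc I * ((1 - nn I J K) * X - 1) = (I * (1 - nn I J K)) * X - I := by noncomm_ring
    _ = (1 - nn I J K) * (J * X) - I := by rw [h.Imn h3]; noncomm_ring
    _ = ((1 - nn I J K) * X - 1) * I := by rw [← h.XI]; noncomm_ring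

lemma Qt.N3 : NN X I J K * NN X I J K * NN X I J K = 0 := by
  have hA : ∀ A : Module.End Ω V, A * A * A = 1 → (A - 1) * (A - 1) * (A - 1) = 0 := by
    intro A hA
    have e1 := three_mul' h3 (A * A - A)
    calc (A - 1) * (A - 1) * (A - 1) = A * A * A - 1 - ((A * A - A) + (A * A - A) + (A * A - A)) := by noncomm_ring
      _ = 0 := by rw [hA, e1]; simp
  apply hA
  set a := 1 - nn I J K with ha
  have hXa : X * a = a * X := by
    rw [ha, mul_sub, sub_mul, h.Xn, mul_one, one_mul]
  have haaa : a * a * a = 1 := by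
    have e1 := three_mul' h3 (nn I J K)
    calc a * a * a = 1 - (nn I J K + nn I J K + nn I J K) + (nn I J K * nn I J K) + (nn I J K * nn I J K) +
          (nn I J K * nn I J K) - nn I J K * (nn I J K * nn I J K) := by rw [ha]; noncomm_ring
      _ = 1 := by rw [e1, h.nn_sq h3]; simp
  calc a * X * (a * X) * (a * X) = a * (X * a) * (X * a) * X := by noncomm_ring
    _ = a * (a * X) * (a * X) * X := by rw [hXa]
    _ = a * a * (X * a) * X * X := by noncomm_ring
    _ = (a * a * a) * (X * X * X) := by rw [hXa]; noncomm_ring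
    _ = 1 := by rw [haaa, h.X3, mul_one]

omit h3 h in
lemma comm_nn {T I J K : Module.End Ω V} (hI : T * I = I * T) (hJ : T * J = J * T) (hK : T * K = K * T) :
    T * nn I J K = nn I J K * T := by
  unfold nn
  calc T * (I + J + K) = T * I + T * J + T * K := by noncomm_ring
    _ = (I + J + K) * T := by rw [hI, hJ, hK]; noncomm_ring

omit h3 h in
lemma comm_NN {T X I J K : Module.End Ω V} (hX : T * X = X * T) (hI : T * I = I * T) (hJ : T * J = J * T)
    (hK : T * K = K * T) : T * NN X I J K = NN X I J K * T := by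
  unfold NN
  have hn := comm_nn hI hJ hK
  calc T * ((1 - nn I J K) * X - 1) = (T - T * nn I J K) * X - T := by noncomm_ring
    _ = (1 - nn I J K) * (T * X) - T := by rw [hn]; noncomm_ring
    _ = ((1 - nn I J K) * X - 1) * T := by rw [hX]; noncomm_ring

end qt2

/-- **the contradiction in characteristic three** -/
theorem three_false [FiniteDimensional Ω V] (hV : finrank Ω V = 8) (h3 : (3 : Ω) = 0)
    {X I J K Y F G H : Module.End Ω V} (h : Qt X I J K) (h' : Qt Y F G H) (XY : X * Y = Y * X)
    (XF : X * F = F * X) (XG : X * G = G * X) (YI : Y * I = I * Y) (YJ : Y * J = J * Y)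
    (IF : I * F = F * I) (IG : I * G = G * I) (JF : J * F = F * J) (JG : J * G = G * J)
    (d1 : finrank Ω (fx (X * Y)) = finrank Ω (fx X)) (d2 : finrank Ω (fx (X * X * Y)) = finrank Ω (fx X))
    (sq : (X - 1) * (X - 1) = 0 → (Y - 1) * (Y - 1) = 0 ∧ (X * Y - 1) * (X * Y - 1) = 0) : False := by
  have XH : X * H = H * X := by
    rw [← h'.IJ]
    calc X * (F * G) = X * F * G := by noncomm_ring
      _ = F * (X * G) := by rw [XF]; noncomm_ring
      _ = F * G * X := by rw [XG]; noncomm_ring
  have YK : Y * K = K * Y := by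
    rw [← h.IJ]
    calc Y * (I * J) = Y * I * J := by noncomm_ring
      _ = I * (Y * J) := by rw [YI]; noncomm_ring
      _ = I * J * Y := by rw [YJ]; noncomm_ring
  have IH : I * H = H * I := by
    rw [← h'.IJ]
    calc I * (F * G) = I * F * G := by noncomm_ring
      _ = F * (I * G) := by rw [IF]; noncomm_ring
      _ = F * G * I := by rw [IG]; noncomm_ring
  have JH : J * H = H * J := by
    rw [← h'.IJ]
    calc J * (F * G) = J * F * G := by noncomm_ring
      _ = F * (J * G) := by rw [JF]; noncomm_ring
      _ = F * G * J := by rw [JG]; noncomm_ring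
  have FK : F * K = K * F := by
    rw [← h.IJ]
    calc F * (I * J) = F * I * J := by noncomm_ring
      _ = I * (F * J) := by rw [← IF]; noncomm_ring
      _ = I * J * F := by rw [← JF]; noncomm_ring
  have GK : G * K = K * G := by
    rw [← h.IJ]
    calc G * (I * J) = G * I * J := by noncomm_ring
      _ = I * (G * J) := by rw [← IG]; noncomm_ring
      _ = I * J * G := by rw [← JG]; noncomm_ring
  have HK : H * K = K * H := by
    rw [← h.IJ]
    calc H * (I * J) = H * I * J := by noncomm_ring
      _ = I * (H * J) := by rw [← IH]; noncomm_ring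
      _ = I * J * H := by rw [← JH]; noncomm_ring
  have Im : I * nn F G H = nn F G H * I := comm_nn IF IG IH
  have Xm : X * nn F G H = nn F G H * X := comm_nn XF XG XH
  have Fn : F * nn I J K = nn I J K * F := comm_nn IF.symm JF.symm FK
  have Yn : Y * nn I J K = nn I J K * Y := comm_nn YI YJ YK
  have nm : nn I J K * nn F G H = nn F G H * nn I J K :=
    (comm_nn (T := nn F G H) (comm_nn IF IG IH).symm (comm_nn JF JG JH).symm (comm_nn FK.symm GK.symm HK.symm).symm).symm
  have IM : I * NN Y F G H = NN Y F G H * I := comm_NN YI.symm IF IG IH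
  have FN : F * NN X I J K = NN X I J K * F := comm_NN XF.symm IF.symm JF.symm FK
  have nM : nn I J K * NN Y F G H = NN Y F G H * nn I J K :=
    comm_NN Yn.symm Fn.symm (comm_nn (T := G) IG.symm JG.symm GK).symm (comm_nn (T := H) IH.symm JH.symm HK).symm
  have mN : nn F G H * NN X I J K = NN X I J K * nn F G H :=
    comm_NN Xm.symm Im.symm (comm_nn (T := J) JF JG JH).symm (comm_nn (T := K) FK.symm GK.symm HK.symm).symm
  have NM : NN X I J K * NN Y F G H = NN Y F G H * NN X I J K :=
    comm_NN (comm_NN XY.symm YI YJ YK).symm FN.symm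
      (comm_NN (T := G) XG.symm IG.symm JG.symm GK).symm (comm_NN (T := H) XH.symm IH.symm JH.symm HK).symm
  have hp : Pr I (nn I J K) F (nn F G H) (2 : Ω) 2 := ⟨h.hf h3, h'.hf h3, nm, Im, Fn⟩
  have hn : nn I J K * NN X I J K = NN X I J K * nn I J K := h.nN
  have hm : nn F G H * NN Y F G H = NN Y F G H * nn F G H := h'.nN
  have eX := h.X_eq h3
  have eY := h'.X_eq h3
  have IN := h.IN h3
  have FM := h'.IN h3
  have n2 := h.nn_sq h3
  have m2 := h'.nn_sq h3
  have N3 := h.N3 h3
  have M3 := h'.N3 h3
  have h2 : (2 : Ω) ≠ 0 := hp.h1.c0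
  generalize NN X I J K = N at *
  generalize NN Y F G H = M at *
  generalize nn I J K = n at *
  generalize nn F G H = m at *
  have N2 : N * N = 0 := hp.prod_zero hV N3 N3 rfl IN IN FN FN hn hn mN mN
  have M2 : M * M = 0 := hp.prod_zero hV M3 M3 rfl IM IM FM FM nM nM hm hm
  have NM0 : N * M = 0 := hp.prod_zero hV N3 M3 NM IN IM FN FM hn nM mN hm
  have MN0 : M * N = 0 := by rw [← NM, NM0]
  have eXY : X * Y = (1 + n) * (1 + m) * (1 + (N + M)) := by
    rw [eX, eY]
    calc (1 + n) * (1 + N) * ((1 + m) * (1 + M)) = (1 + n) * ((1 + m) + (N + N * m)) * (1 + M) := by noncomm_ring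
      _ = (1 + n) * (1 + m) * (1 + (N + M) + N * M) := by rw [← mN]; noncomm_ring
      _ = (1 + n) * (1 + m) * (1 + (N + M)) := by rw [NM0, add_zero]
  have eXXY : X * X * Y = (1 + -n) * (1 + m) * (1 + (M - N)) := by
    have e1 : X * X = (1 + -n) * (1 + -N) := by
      rw [eX]
      have t1 := three_mul' h3 n
      have t2 := three_mul' h3 N
      have t3 := three_mul' h3 (n * N)
      calc (1 + n) * (1 + N) * ((1 + n) * (1 + N)) = (1 + n) * (1 + n + (N + N * n)) * (1 + N) := by noncomm_ring
        _ = (1 + (n + n) + n * n) * (1 + (N + N) + N * N) := by rw [← hn]; noncomm_ring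
        _ = (1 + -n) * (1 + -N) + (n + n + n) + (N + N + N) + (n * N + n * N + n * N) := by
          rw [n2, N2]; noncomm_ring
        _ = (1 + -n) * (1 + -N) := by rw [t1, t2, t3, add_zero, add_zero, add_zero]
    rw [e1, eY]
    calc (1 + -n) * (1 + -N) * ((1 + m) * (1 + M)) = (1 + -n) * ((1 + m) - (N + N * m)) * (1 + M) := by noncomm_ring
      _ = (1 + -n) * (1 + m) * (1 + (M - N) - N * M) := by rw [← mN]; noncomm_ring
      _ = (1 + -n) * (1 + m) * (1 + (M - N)) := by rw [NM0, sub_zero]
  by_cases hN : N = 0
  · obtain ⟨s1, s2⟩ := sq (by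
      rw [eX, hN]
      calc ((1 + n) * (1 + 0) - 1) * ((1 + n) * (1 + 0) - 1) = n * n := by noncomm_ring
        _ = 0 := n2)
    have e1 : m * M = 0 := by
      have e2 : (2 : Ω) • (m * M) = 0 := by
        rw [← s1, eY]
        calc (2 : Ω) • (m * M) = m * M + M * m := by rw [two_smul, ← hm]
          _ = m * M + M * m + m * m + M * M + (m * m) * M + (m * M) * M + M * (m * M) + m * (M * m) +
              m * (M * m) * M := by
            rw [← hm]
            have e3 : M * (m * M) = 0 := by
              calc M * (m * M) = (M * m) * M := by noncomm_ring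
                _ = m * (M * M) := by rw [← hm]; noncomm_ring
                _ = 0 := by rw [M2, mul_zero]
            have e4 : m * (m * M) = 0 := by rw [← mul_assoc, m2, zero_mul]
            rw [e3, e4, m2, M2, mul_assoc m M M, M2]
            simp
          _ = ((1 + m) * (1 + M) - 1) * ((1 + m) * (1 + M) - 1) := by noncomm_ring
      exact (smul_eq_zero.1 e2).resolve_left h2
    have hM : M = 0 := hp.h2.zero FM e1
    rw [eXY, hN, hM] at s2
    have e3 : n * m = 0 := by
      have e2 : (2 : Ω) • (n * m) = 0 := by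
        rw [← s2]
        calc (2 : Ω) • (n * m) = n * m + m * n := by rw [two_smul, ← nm]
          _ = n * m + m * n + n * n + m * m + (n * n) * m + (n * m) * m + m * (n * m) + n * (m * n) +
              n * (m * n) * m := by
            rw [← nm]
            have e3 : m * (n * m) = 0 := by
              calc m * (n * m) = (m * n) * m := by noncomm_ring
                _ = n * (m * m) := by rw [← nm]; noncomm_ring
                _ = 0 := by rw [m2, mul_zero]
            have e4 : n * (n * m) = 0 := by rw [← mul_assoc, n2, zero_mul]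
            rw [e3, e4, n2, m2, mul_assoc n m m, m2]
            simp
          _ = ((1 + n) * (1 + m) * (1 + (0 + 0)) - 1) * ((1 + n) * (1 + m) * (1 + (0 + 0)) - 1) := by noncomm_ring
      exact (smul_eq_zero.1 e2).resolve_left h2
    have hm0 : m = 0 := hp.h1.zero Im e3
    have h1 : (1 : Module.End Ω V) = 0 := hp.h2.zero (by simp) (by rw [hm0, zero_mul])
    have h4 : Subsingleton V := by
      constructor
      intro a b
      have e1 := congrArg (fun f : Module.End Ω V => f a) h1
      have e2 := congrArg (fun f : Module.End Ω V => f b) h1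
      have e1' : a = 0 := e1
      have e2' : b = 0 := e2
      rw [e1', e2']
    have h5 := finrank_zero_of_subsingleton (R := Ω) (M := V)
    omega
  · have f1 : 4 ≤ finrank Ω (fx X) := by
      rw [eX]
      exact hp.four_le hV N IN hn FN mN N2 hN
    by_cases hK : N + M = 0
    · have hK2 : M - N ≠ 0 := by
        intro h0
        apply hN
        have e1 : (2 : Ω) • N = (N + M) - (M - N) := by rw [two_smul]; abel
        rw [hK, h0, sub_zero] at e1
        exact (smul_eq_zero.1 e1).resolve_left h2
      have hp' : Pr I (-n) F m (-2 : Ω) 2 := ⟨hp.h1.neg, hp.h2, by rw [neg_mul, nm, mul_neg], Im, by rw [neg_mul, mul_neg, Fn]⟩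
      have f2 := hp'.le_three hV h2 (M - N) (by rw [mul_sub, sub_mul, IN, IM]) (by rw [neg_mul, mul_neg, mul_sub, sub_mul, hn, nM])
        (by rw [mul_sub, sub_mul, FN, FM]) (by rw [mul_sub, sub_mul, mN, hm])
        (by rw [mul_sub, sub_mul, sub_mul, N2, M2, NM0, MN0]; simp) hK2
      rw [← eXXY, d2] at f2
      omega
    · have f2 := hp.le_three hV h2 (N + M) (by rw [mul_add, add_mul, IN, IM]) (by rw [mul_add, add_mul, hn, nM])
        (by rw [mul_add, add_mul, FN, FM]) (by rw [mul_add, add_mul, mN, hm])
        (by rw [mul_add, add_mul, add_mul, N2, M2, NM0, MN0]; simp) hK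
      rw [← eXY, d1] at f2
      omega

end Cfsg.Agent.H424.M22
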