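import Cfsg.Agent.H424.SpecL
import Cfsg.Agent.H424.Zs
import Cfsg.Agent.H414.Spec
import Cfsg.Agent.H424.SF

/-!
# Reduction for groups isospectral to PSp₆(q), PΩ₇(q), PΩ₈⁺(q) (helper424)

* `sf_of` : the facts `SF` about the nonabelian composition factor.
-/

set_option autoImplicit false

namespace Cfsg.Agent.H424.Red

open Subgroup Cfsg Cfsg.Agent.H424.SpecPlus Cfsg.Agent.H424.SpecL Cfsg.Agent.H424.Zs
open Cfsg.Agent.H414.Adj Cfsg.Agent.H414.Vasiliev Cfsg.Agent.H414.Comp Cfsg.Agent.H414.Spec Cfsg.Agent.H390.Chief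

section

variable {F : Type*} [Field F] [Fintype F] {p : ℕ} {G L : Type*} [Group G] [Finite G] [Group L] [Finite L]

omit [Finite L] in
theorem section_orders (h : Set.range (orderOf : G → ℕ) = Set.range (orderOf : L → ℕ))
    (H : Subgroup G) (N : Subgroup ↥H) [N.Normal] {n : ℕ} (hn : n ≠ 0) (hx : ∃ x : ↥H ⧸ N, orderOf x = n) :
    ∃ y : L, orderOf y = n := by
  have h1 := exists_order_subgroup (exists_order_quot N hn hx)
  have : n ∈ Set.range (orderOf : G → ℕ) := h1
  rw [h] at this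
  exact this

theorem ne_of_ord {r s d e : ℕ} (hr : Pr F r d) (hs : Pr F s e) (hde : d ≠ e) : r ≠ s := by
  rintro rfl
  exact hde (hr.ord.symm.trans hs.ord)

/-- the three primes -/
theorem coc_three (hL : LF F p L) {r s t d e f : ℕ} (hr : Pr F r d) (hs : Pr F s e) (ht : Pr F t f)
    (hd : d = 3 ∨ d = 4 ∨ d = 6) (he : e = 3 ∨ e = 4 ∨ e = 6) (hf : f = 3 ∨ f = 4 ∨ f = 6)
    (hde : d ≠ e) (hdf : d ≠ f) (hef : e ≠ f) : Coc L {r, s, t} := by
  have key : ∀ a b x y : ℕ, Pr F a x → Pr F b y → (x = 3 ∨ x = 4 ∨ x = 6) → (y = 3 ∨ y = 4 ∨ y = 6) → x ≠ y →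
      ¬ ∃ g : L, orderOf g = a * b := by
    rintro a b x y ha hb hx hy hxy ⟨g, hg⟩
    by_cases h4 : x = 4
    · exact hL.coc b a y x hb ha (by omega) hx hxy.symm g (by rw [hg, mul_comm])
    · exact hL.coc a b x y ha hb (by omega) hy hxy g hg
  constructor
  · intro x hx
    simp only [Finset.mem_insert, Finset.mem_singleton] at hx
    rcases hx with rfl | rfl | rfl
    · exact ⟨hr.prime, hL.dvd _ _ hr hd⟩
    · exact ⟨hs.prime, hL.dvd _ _ hs he⟩
    · exact ⟨ht.prime, hL.dvd _ _ ht hf⟩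
  · intro x hx y hy hxy
    simp only [Finset.mem_insert, Finset.mem_singleton] at hx hy
    rcases hx with rfl | rfl | rfl <;> rcases hy with rfl | rfl | rfl
    · exact absurd rfl hxy
    · exact key _ _ _ _ hr hs hd he hde
    · exact key _ _ _ _ hr ht hd hf hdf
    · exact key _ _ _ _ hs hr he hd hde.symm
    · exact absurd rfl hxy
    · exact key _ _ _ _ hs ht he hf hef
    · exact key _ _ _ _ ht hr hf hd hdf.symm
    · exact key _ _ _ _ ht hs hf he hef.symm
    · exact absurd rfl hxy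

theorem sf_of (hp : p.Prime) [CharP F p] (hq : 3 ≤ Nat.card F) (hL : LF F p L)
    (h : Set.range (orderOf : G → ℕ) = Set.range (orderOf : L → ℕ))
    (H : Subgroup G) (hH : H.IsSubnormal) (N : Subgroup ↥H) [N.Normal]
    (hs : IsSimpleGroup (↥H ⧸ N)) (hna : ¬ IsMulCommutative (↥H ⧸ N)) : SF F p (↥H ⧸ N) := by
  classical
  have hG : ¬ Group.IsSolvable G := by
    intro hG
    apply hna
    apply H414.CompFactor.comm_of_solvable
    infer_instance
  have hcd : Nat.card (↥H ⧸ N) ∣ Nat.card G :=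
    (Subgroup.card_quotient_dvd_card N).trans (Subgroup.card_subgroup_dvd_card H)
  obtain ⟨p₀, hp₀, hp₀2, hp₀L, hp₀x⟩ := hL.far
  obtain ⟨K, hKn, hKs, hKmax⟩ := exists_radical G
  obtain ⟨S, hS, hSn, hSc, -⟩ := exists_socle hG hp₀ hp₀2 ((dvd_card_iff h hp₀).2 hp₀L)
    (fun hx => by
      obtain ⟨y, hy⟩ := (exists_iff h _).1 hx
      exact hp₀x y hy) K hKs hKmax
  have hSs := hS.simple
  obtain ⟨e⟩ := H414.CompFactor.equiv_of_factor K hKs S (solvable_quot S hS hSc) H hH N hna
  have hcard : Nat.card (↥H ⧸ N) = Nat.card ↥S := Nat.card_congr e.toEquiv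
  have hfac : Nat.card G = Nat.card ↥S * (Nat.card ↥K * S.index) := by
    rw [Subgroup.card_eq_card_quotient_mul_card_subgroup K, ← Subgroup.card_mul_index S]
    ring
  have key : ∀ t : ℕ, t.Prime → t ∣ Nat.card G → ¬ t ∣ Nat.card ↥K * S.index → t ∣ Nat.card (↥H ⧸ N) := by
    intro t ht h2 htn
    rw [hfac] at h2
    rw [hcard]
    exact (ht.dvd_mul.1 h2).resolve_right htn
  refine ⟨?_, ?_, ?_, ?_, ?_, ?_⟩
  · intro r hr hd
    exact hL.prime r hr ((dvd_card_iff h hr).1 (hd.trans hcd))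
  · intro r s d e' hr hs hd he hde
    -- a third prime
    obtain ⟨f, hf, hdf, hef⟩ : ∃ f : ℕ, (f = 3 ∨ f = 4 ∨ f = 6) ∧ d ≠ f ∧ e' ≠ f := by
      rcases hd with rfl | rfl | rfl <;> rcases he with rfl | rfl | rfl
      · exact absurd rfl hde
      · exact ⟨6, by omega, by omega, by omega⟩
      · exact ⟨4, by omega, by omega, by omega⟩
      · exact ⟨6, by omega, by omega, by omega⟩
      · exact absurd rfl hde
      · exact ⟨3, by omega, by omega, by omega⟩
      · exact ⟨4, by omega, by omega, by omega⟩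
      · exact ⟨3, by omega, by omega, by omega⟩
      · exact absurd rfl hde
    obtain ⟨t, ht⟩ := exists_pr (F := F) hq (e := f) (by omega)
    have hρ := coc_of_spec h (coc_three hL hr hs ht hd he hf hde hdf hef)
    have hc : ({r, s, t} : Finset ℕ).card = 3 := by
      rw [Finset.card_insert_of_notMem, Finset.card_insert_of_notMem, Finset.card_singleton]
      · simpa using ne_of_ord hs ht hef
      · simp only [Finset.mem_insert, Finset.mem_singleton, not_or]
        exact ⟨ne_of_ord hr hs hde, ne_of_ord hr ht hdf⟩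
    by_cases h5 : r ∣ Nat.card ↥K * S.index
    · right
      apply key s hs.prime ((dvd_card_iff h hs.prime).2 (hL.dvd _ _ hs he))
      intro h6
      exact ne_of_ord hr hs hde (coclique K hKs S hS hSc hρ hc.ge (p := r) (q := s) (by simp) (by simp) h5 h6)
    · exact Or.inl (key r hr.prime ((dvd_card_iff h hr.prime).2 (hL.dvd _ _ hr hd)) h5)
  · intro r s d e' hr hs hd he hde g hg
    obtain ⟨y, hy⟩ := section_orders h H N (Nat.mul_ne_zero hr.prime.ne_zero hs.prime.ne_zero) ⟨g, hg⟩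
    exact hL.coc r s d e' hr hs hd he hde y hy
  · intro r d hr hd g hg
    obtain ⟨y, hy⟩ := section_orders h H N (Nat.mul_ne_zero hr.prime.ne_zero hp.ne_zero) ⟨g, hg⟩
    exact hL.char r d hr hd y hy
  · intro h2 g hg
    obtain ⟨y, hy⟩ := section_orders h H N (by norm_num) ⟨g, hg⟩
    exact hL.sixteen h2 y hy
  · intro r d hr hd hE hOut
    have hrp : r ≠ p := by
      rintro rfl
      have := hr.ne_char (p := r)
      exact this rfl
    have hna' : ¬ ∀ x y : ↥H ⧸ N, Commute x y := by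
      intro hc
      exact hna ⟨⟨hc⟩⟩
    have hno : ∀ g : G, orderOf g ≠ r * p := by
      intro g hg
      obtain ⟨y, hy⟩ := (exists_iff h _).1 ⟨g, hg⟩
      exact hL.char r d hr hd y hy
    have h1 := (H390.Chief.main hr.prime hp hrp hH (QuotientGroup.mk' N) (QuotientGroup.mk'_surjective N) hna' hno hE
      hOut).2
    have h2 : r ∣ Nat.card G := (dvd_card_iff h hr.prime).2 (hL.dvd _ _ hr (by omega))
    by_contra h3
    rw [Nat.factorization_eq_zero_of_not_dvd h3] at h1
    have h4 := (hr.prime.dvd_iff_one_le_factorization Nat.card_pos.ne').1 h2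
    omega

end

end Cfsg.Agent.H424.Red
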