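import Cfsg.Agent.H424.Red
import Cfsg.Agent.H424.Cube
import Cfsg.Agent.H414.Rad
import Cfsg.Agent.S2475
import Cfsg.Agent.S0243

/-!
# Reduction for groups isospectral to PSp₆(q), PΩ₇(q), PΩ₈⁺(q), second part (helper424)

* `big` : `ord_r(q) ∈ {3, 6}`, `p ^ 5 ∣ |S|`, `r` prime to the order of `Out S` : `r ∣ |S|`.
-/

set_option autoImplicit false

namespace Cfsg.Agent.H424.Red2

open Subgroup Cfsg Cfsg.Agent.H424.SpecPlus Cfsg.Agent.H424.SpecL Cfsg.Agent.H424.Zs Cfsg.Agent.H424.Red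
open Cfsg.Agent.H414.Adj Cfsg.Agent.H414.Vasiliev Cfsg.Agent.H414.Comp Cfsg.Agent.H414.Spec Cfsg.Agent.H390.Chief
open Cfsg.Agent.H414.Rad

/-- `S ≅ A₇` or `L₂(q)`, `q` odd: elements of order 16. -/
theorem exists_sixteen {S : Type*} [Group S] (h : AltL2 S) (h32 : 32 ∣ Nat.card S) : ∃ g : S, orderOf g = 16 := by
  rcases h with ⟨⟨e⟩⟩ | ⟨K, _, _, hodd, ⟨e⟩⟩
  · exfalso
    rw [Nat.card_congr e.toEquiv, Nat.card_eq_fintype_card, card_alternatingGroup, Fintype.card_fin] at h32
    norm_num [Nat.factorial] at h32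
  · rw [Nat.card_congr e.toEquiv] at h32
    have hc := Cfsg.Agent.S0243.result (F := K) rfl 2 le_rfl
    set s := Fintype.card K with hs
    have hs1 : 1 < s := Fintype.one_lt_card
    obtain ⟨t, ht⟩ := hodd
    have hgcd : Nat.gcd 2 (s - 1) = 2 := by
      apply Nat.gcd_eq_left
      exact ⟨t, by omega⟩
    have hc2 : 2 * Nat.card (Matrix.ProjectiveSpecialLinearGroup (Fin 2) K) = s * ((s - 1) * (s + 1)) := by
      rw [Fin.prod_univ_two, hgcd] at hc
      apply Nat.eq_of_mul_eq_mul_left (show 0 < s - 1 by omega)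
      obtain ⟨u, hu⟩ : ∃ u, s = u + 1 := ⟨s - 1, by omega⟩
      have e1 : s ^ 2 - s ^ ((0 : Fin 2) : ℕ) = (s - 1) * (s + 1) := by
        rw [hu]
        simp only [Fin.val_zero, pow_zero, Nat.add_sub_cancel]
        have : (u + 1) ^ 2 = u * (u + 1 + 1) + 1 := by ring
        omega
      have e2 : s ^ 2 - s ^ ((1 : Fin 2) : ℕ) = s * (s - 1) := by
        rw [hu]
        simp only [Fin.val_one, pow_one, Nat.add_sub_cancel]
        have : (u + 1) ^ 2 = (u + 1) * u + (u + 1) := by ring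
        omega
      rw [e1, e2] at hc
      calc (s - 1) * (2 * Nat.card (Matrix.ProjectiveSpecialLinearGroup (Fin 2) K)) =
          (s - 1) * 2 * Nat.card (Matrix.ProjectiveSpecialLinearGroup (Fin 2) K) := by ring
        _ = (s - 1) * (s + 1) * (s * (s - 1)) := by
          first
            | exact hc
            | (rw [← hc]; ring)
        _ = _ := by ring
    have h64 : 64 ∣ s * ((s - 1) * (s + 1)) := by
      rw [← hc2]
      obtain ⟨v, hv⟩ := h32
      exact ⟨v, by rw [hv]; ring⟩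
    have h64' : 64 ∣ (s - 1) * (s + 1) := by
      have hcop : Nat.Coprime 64 s := by
        have : Nat.Coprime (2 ^ 6) s := Nat.Coprime.pow_left 6 (Nat.coprime_two_left.2 ⟨t, ht⟩)
        simpa using this
      exact hcop.dvd_of_dvd_mul_left h64
    have hdv : 16 ∣ (s - 1) / 2 ∨ 16 ∣ (s + 1) / 2 := by
      have e1 : (s - 1) / 2 = t := by omega
      have e2 : (s + 1) / 2 = t + 1 := by omega
      rw [e1, e2]
      have e3 : (s - 1) * (s + 1) = 4 * (t * (t + 1)) := by
        rw [ht]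
        simp only [Nat.add_sub_cancel]
        ring
      rw [e3] at h64'
      have h16 : 16 ∣ t * (t + 1) := by
        obtain ⟨v, hv⟩ := h64'
        exact ⟨v, by omega⟩
      rcases Nat.even_or_odd t with he | ho
      · left
        have hcop : Nat.Coprime 16 (t + 1) := by
          have : Nat.Coprime (2 ^ 4) (t + 1) := Nat.Coprime.pow_left 4 (Nat.coprime_two_left.2 he.add_one)
          simpa using this
        exact hcop.dvd_of_dvd_mul_right h16
      · right
        have hcop : Nat.Coprime 16 t := by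
          have : Nat.Coprime (2 ^ 4) t := Nat.Coprime.pow_left 4 (Nat.coprime_two_left.2 ho)
          simpa using this
        exact hcop.dvd_of_dvd_mul_left h16
    obtain ⟨n, hn, -⟩ := FiniteField.card K (ringChar K)
    have hfact : Fact (ringChar K).Prime := ⟨hn⟩
    have hs4 : 4 ≤ s := by
      rcases hdv with h | h
      · have h3 : (s - 1) / 2 ≠ 0 := by
          intro h0
          have : t = 0 := by omega
          omega
        have := Nat.le_of_dvd (Nat.pos_of_ne_zero h3) h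
        omega
      · have := Nat.le_of_dvd (by omega) h
        omega
    have hmem : 16 ∈ Set.range (orderOf : Matrix.ProjectiveSpecialLinearGroup (Fin 2) K → ℕ) := by
      rw [Cfsg.Agent.S2475.result (ringChar K) (by rw [← hs]; exact hs4)]
      rw [Set.mem_setOf_eq, ← hs, hgcd]
      exact Or.inr hdv
    obtain ⟨g, hg⟩ := hmem
    exact ⟨e.symm g, by rw [MulEquiv.orderOf_eq, hg]⟩

section

variable {F : Type*} [Field F] [Fintype F] {p : ℕ} {G L : Type*} [Group G] [Finite G] [Group L] [Finite L]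

theorem big (hp : p.Prime) [CharP F p] (hL : LF F p L) (hcube : p ≠ 2 → ∀ g : L, orderOf g ≠ p ^ 3)
    (hsf : ∀ (H : Subgroup G) (N : Subgroup ↥H) [N.Normal], H.IsSubnormal → IsSimpleGroup (↥H ⧸ N) →
      ¬ IsMulCommutative (↥H ⧸ N) → SF F p (↥H ⧸ N))
    (h : Set.range (orderOf : G → ℕ) = Set.range (orderOf : L → ℕ))
    (H : Subgroup G) (hH : H.IsSubnormal) (N : Subgroup ↥H) [N.Normal]
    (hs : IsSimpleGroup (↥H ⧸ N)) (hna : ¬ IsMulCommutative (↥H ⧸ N)) {r d : ℕ} (hr : Pr F r d)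
    (hd : d = 3 ∨ d = 6) (h5 : p ^ 5 ∣ Nat.card (↥H ⧸ N))
    (hout : ¬ r ∣ (MulAut.conj : (↥H ⧸ N) →* MulAut (↥H ⧸ N)).range.index) : r ∣ Nat.card (↥H ⧸ N) := by
  classical
  have hS := hsf H N hH hs hna
  have hpF : Fact p.Prime := ⟨hp⟩
  by_cases hp2 : p = 2
  · subst hp2
    have hG : ¬ Group.IsSolvable G := by
      intro hG
      apply hna
      apply H414.CompFactor.comm_of_solvable
      infer_instance
    obtain ⟨p₀, hp₀, hp₀2, hp₀L, hp₀x⟩ := hL.far
    obtain ⟨K, hKn, hKs, hKmax⟩ := exists_radical G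
    obtain ⟨S, hSc, hSn, hScent, -, hmain⟩ := H414.Vasiliev.main hG ⟨p₀, hp₀, hp₀2, (dvd_card_iff h hp₀).2 hp₀L,
      (fun hx => by
        obtain ⟨y, hy⟩ := (exists_iff h _).1 hx
        exact hp₀x y hy)⟩ K hKs hKmax
    have hSs := hSc.simple
    obtain ⟨e⟩ := H414.CompFactor.equiv_of_factor K hKs S (solvable_quot S hSc hScent) H hH N hna
    have hcard : Nat.card (↥H ⧸ N) = Nat.card ↥S := Nat.card_congr e.toEquiv
    have hfac : Nat.card G = Nat.card ↥S * (Nat.card ↥K * S.index) := by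
      rw [Subgroup.card_eq_card_quotient_mul_card_subgroup K, ← Subgroup.card_mul_index S]
      ring
    rcases hmain with hA | hmain
    · exfalso
      rw [hcard] at h5
      obtain ⟨g, hg⟩ := exists_sixteen hA (by simpa using h5)
      exact hS.sixteen rfl (e.symm g) (by rw [MulEquiv.orderOf_eq, hg])
    · have hrG : r ∣ Nat.card G := (dvd_card_iff h hr.prime).2 (hL.dvd _ _ hr (by omega))
      obtain ⟨h1, h2⟩ := hmain r hr.prime hr.ne_two hrG (by
        intro hx
        obtain ⟨y, hy⟩ := (exists_iff h _).1 hx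
        exact hL.char r d hr hd y (by rw [hy, mul_comm]))
      rw [hfac] at hrG
      rw [hcard]
      refine (hr.prime.dvd_mul.1 hrG).resolve_right fun h3 => ?_
      rcases hr.prime.dvd_mul.1 h3 with h3 | h3
      · exact h1 h3
      · exact h2 h3
  · refine hS.full r d hr hd ?_ hout
    obtain ⟨P⟩ : Nonempty (Sylow p (↥H ⧸ N)) := inferInstance
    refine ⟨P, P.isPGroup', ?_⟩
    rintro (⟨-, hcyc⟩ | ⟨h2, -⟩)
    · obtain ⟨g, hg⟩ := hcyc.exists_generator
      have hog : orderOf g = Nat.card ↥(P : Subgroup (↥H ⧸ N)) := orderOf_eq_card_of_forall_mem_zpowers hg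
      have hdvd : p ^ 5 ∣ Nat.card ↥(P : Subgroup (↥H ⧸ N)) := P.pow_dvd_card_of_pow_dvd_card h5
      rw [← hog, ← Subgroup.orderOf_coe] at hdvd
      set x : ↥H ⧸ N := (g : ↥H ⧸ N) with hx
      have hx3 : p ^ 3 ∣ orderOf x := (pow_dvd_pow p (by norm_num)).trans hdvd
      obtain ⟨m, hm⟩ := hx3
      have hm0 : m ≠ 0 := by
        rintro rfl
        rw [mul_zero] at hm
        exact (orderOf_pos x).ne' hm
      have ho : orderOf (x ^ m) = p ^ 3 := by
        rw [orderOf_pow' _ hm0, hm, Nat.gcd_mul_left_left, Nat.mul_div_cancel _ (Nat.pos_of_ne_zero hm0)]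
      obtain ⟨y, hy⟩ := section_orders h H N (pow_ne_zero 3 hp.ne_zero) ⟨_, ho⟩
      exact hcube hp2 y hy
    · exact hp2 h2

end

end Cfsg.Agent.H424.Red2
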