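import Mathlib
import Cfsg.Agent.Classification.RTwo.UThreeThree

/-!
# Computations in `SU₃(3)`

Elements of the field with nine elements are coded by numbers `< 9`; centralizers of cyclic
matrices are computed by enumerating polynomials in the matrix.
-/

set_option autoImplicit false

namespace Cfsg.Agent.H424.U33Codes

open Matrix Cfsg Cfsg.Agent.Classification.RTwo.UThreeThree

/-- The element with a given code. -/
def code (x : ℕ) : K9 := ⟨((x % 3 : ℕ) : ZMod 3), ((x / 3 % 3 : ℕ) : ZMod 3)⟩

theorem code_mod (x : ℕ) : code (x % 9) = code x := by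
  have h1 : x % 9 % 3 = x % 3 := by omega
  have h2 : x % 9 / 3 % 3 = x / 3 % 3 := by omega
  rw [code, code, h1, h2]

/-- table lookup -/
def look (T x y : ℕ) : ℕ :=
  Nat.mod (Nat.shiftRight T (Nat.mul 4 (Nat.add (Nat.mul 9 (Nat.mod x 9)) (Nat.mod y 9)))) 16

/-- The addition table. -/
def TA : ℕ :=
  8986690708024339884259668388453865091868182506470258411551265922896781674643265104972283578167824
/-- The multiplication table. -/
def TM : ℕ :=
  12992295474418726299168584010125499800446975643965808714274855111902658395364003326119775607717888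
/-- The table of `x * y ^ 3`. -/
def TC : ℕ :=
  4734049774712850806497981311164739234785405282237278466415727854232555506328298177528284355493888

theorem spec_of {T : ℕ} {f : K9 → K9 → K9}
    (h : ∀ x : Fin 9, ∀ y : Fin 9, code (look T x y) = f (code x) (code y)) (x y : ℕ) :
    code (look T x y) = f (code x) (code y) := by
  have h1 := h ⟨x % 9, Nat.mod_lt _ (by norm_num)⟩ ⟨y % 9, Nat.mod_lt _ (by norm_num)⟩
  have h2 : look T (x % 9) (y % 9) = look T x y := by
    have e1 : Nat.mod (x % 9) 9 = Nat.mod x 9 := Nat.mod_mod x 9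
    have e2 : Nat.mod (y % 9) 9 = Nat.mod y 9 := Nat.mod_mod y 9
    rw [look, look, e1, e2]
  rw [← code_mod x, ← code_mod y, ← h1]
  change _ = code (look T (x % 9) (y % 9))
  rw [h2]

theorem code_add (x y : ℕ) : code (look TA x y) = code x + code y :=
  spec_of (f := fun a b => a + b) (by decide +kernel) x y

theorem code_mul (x y : ℕ) : code (look TM x y) = code x * code y :=
  spec_of (f := fun a b => a * b) (by decide +kernel) x y

theorem code_cmul (x y : ℕ) : code (look TC x y) = code x * (code y * code y * code y) :=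
  spec_of (f := fun a b => a * (b * b * b)) (by decide +kernel) x y

theorem exists_code (a : K9) : ∃ x : Fin 9, code x = a := by
  obtain ⟨a, b⟩ := a
  revert a b
  decide +kernel

theorem code_inj {x y : ℕ} (h : code x = code y) : x % 9 = y % 9 := by
  have key : ∀ a b : Fin 9, code a = code b → a = b := by decide +kernel
  rw [← code_mod x, ← code_mod y] at h
  have := key ⟨x % 9, Nat.mod_lt _ (by norm_num)⟩ ⟨y % 9, Nat.mod_lt _ (by norm_num)⟩ h
  exact congrArg Fin.val this

theorem code_zero : code 0 = 0 := by decide +kernel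
theorem code_one : code 1 = 1 := by decide +kernel
theorem code_two : code 2 = -1 := by decide +kernel

/-- entry of a coded matrix -/
def ent (T i j : ℕ) : ℕ := Nat.mod (Nat.shiftRight T (Nat.mul 4 (Nat.add (Nat.mul 3 i) j))) 16

/-- the matrix with a given code -/
def mat (T : ℕ) : Matrix (Fin 3) (Fin 3) K9 := fun i j => code (ent T i j)

/-- the determinant and unitarity conditions on codes -/
def good (n : ℕ → ℕ → ℕ) : Bool :=
  let u := fun i j => look TA (look TA (look TC (n 0 i) (n 0 j)) (look TC (n 1 i) (n 1 j)))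
    (look TC (n 2 i) (n 2 j))
  let m := fun x y z => look TM (look TM x y) z
  let s := fun x y => look TA x (look TM 2 y)
  Nat.beq (Nat.mod (u 0 0) 9) 1 && (Nat.beq (Nat.mod (u 1 1) 9) 1 &&
    (Nat.beq (Nat.mod (u 2 2) 9) 1 && (Nat.beq (Nat.mod (u 0 1) 9) 0 &&
    (Nat.beq (Nat.mod (u 0 2) 9) 0 && (Nat.beq (Nat.mod (u 1 2) 9) 0 &&
    Nat.beq (Nat.mod (s (look TA (look TA (s (s (m (n 0 0) (n 1 1) (n 2 2)) (m (n 0 0) (n 1 2) (n 2 1)))
      (m (n 0 1) (n 1 0) (n 2 2))) (m (n 0 1) (n 1 2) (n 2 0))) (m (n 0 2) (n 1 0) (n 2 1)))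
      (m (n 0 2) (n 1 1) (n 2 0))) 9) 1)))))

theorem beq_one {x : ℕ} (h : code x = 1) : Nat.beq (Nat.mod x 9) 1 = true := by
  rw [← code_one] at h
  exact Nat.beq_eq.symm ▸ code_inj h

theorem beq_zero {x : ℕ} (h : code x = 0) : Nat.beq (Nat.mod x 9) 0 = true := by
  rw [← code_zero] at h
  exact Nat.beq_eq.symm ▸ code_inj h

theorem good_of_isGood {n : ℕ → ℕ → ℕ}
    (h : IsGood (fun i j : Fin 3 => code (n i j))) : good n = true := by
  obtain ⟨h1, h2⟩ := h
  have hu : ∀ i j : Fin 3, code (look TA (look TA (look TC (n 0 i) (n 0 j))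
      (look TC (n 1 i) (n 1 j))) (look TC (n 2 i) (n 2 j))) = if i = j then 1 else 0 := by
    intro i j
    rw [code_add, code_add, code_cmul, code_cmul, code_cmul, ← h2 i j]
    rfl
  rw [good]
  simp only [Bool.and_eq_true]
  refine ⟨beq_one (hu 0 0), beq_one (hu 1 1), beq_one (hu 2 2), beq_zero (hu 0 1),
    beq_zero (hu 0 2), beq_zero (hu 1 2), beq_one ?_⟩
  simp only [code_add, code_mul, code_two]
  refine Eq.trans ?_ h1
  simp only [Fin.val_zero, Fin.val_one, Fin.val_two]
  ring

/-- the entries of the polynomial `a + b M + c M ^ 2`; `T`, `T'` = codes of `M`, `M ^ 2` -/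
def pent (T T' a b c i j : ℕ) : ℕ :=
  look TA (look TA (cond (Nat.beq i j) a 0) (look TM b (ent T i j))) (look TM c (ent T' i j))

/-- the polynomials which are good -/
def sols (T T' : ℕ) : List ℕ :=
  (List.range 729).filter fun n => good (pent T T' (n / 81) (n / 9 % 9) (n % 9))

/-- A matrix commuting with a cyclic matrix is a polynomial. -/
theorem eq_poly {K : Type*} [CommRing K] (M N : Matrix (Fin 3) (Fin 3) K) (h : N * M = M * N)
    (v : Fin 3 → K) (C C' : Matrix (Fin 3) (Fin 3) K)
    (hC : C = Matrix.of fun i => ![v i, (M *ᵥ v) i, ((M * M) *ᵥ v) i])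
    (hCC' : C * C' = 1) : ∃ a b c : K, N = a • (1 : Matrix (Fin 3) (Fin 3) K) + b • M + c • (M * M) := by
  set w := C' *ᵥ (N *ᵥ v) with hw
  refine ⟨w 0, w 1, w 2, ?_⟩
  set p := w 0 • (1 : Matrix (Fin 3) (Fin 3) K) + w 1 • M + w 2 • (M * M) with hp
  have h1 : C *ᵥ w = N *ᵥ v := by rw [hw, Matrix.mulVec_mulVec, hCC', Matrix.one_mulVec]
  have h2 : p *ᵥ v = C *ᵥ w := by
    rw [hp, Matrix.add_mulVec, Matrix.add_mulVec, Matrix.smul_mulVec, Matrix.smul_mulVec,
      Matrix.smul_mulVec, Matrix.one_mulVec]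
    ext i
    rw [hC, Matrix.mulVec, dotProduct, Fin.sum_univ_three]
    simp [Pi.add_apply, Pi.smul_apply, smul_eq_mul, mul_comm]
  have h3 : (N - p) *ᵥ v = 0 := by rw [Matrix.sub_mulVec, h2, h1, sub_self]
  have h4 : (N - p) * M = M * (N - p) := by
    rw [sub_mul, mul_sub, h, hp]
    congr 1
    rw [add_mul, add_mul, mul_add, mul_add, Matrix.smul_mul, Matrix.smul_mul, Matrix.smul_mul,
      Matrix.mul_smul, Matrix.mul_smul, Matrix.mul_smul, one_mul, mul_one, mul_assoc]
  have h5 : (N - p) *ᵥ (M *ᵥ v) = 0 := by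
    rw [Matrix.mulVec_mulVec, h4, ← Matrix.mulVec_mulVec, h3, Matrix.mulVec_zero]
  have h6 : (N - p) *ᵥ ((M * M) *ᵥ v) = 0 := by
    rw [← Matrix.mulVec_mulVec, Matrix.mulVec_mulVec, h4, ← Matrix.mulVec_mulVec, h5,
      Matrix.mulVec_zero]
  have h7 : (N - p) * C = 0 := by
    ext i k
    rw [Matrix.mul_apply]
    have e3 := congrFun h3 i
    have e5 := congrFun h5 i
    have e6 := congrFun h6 i
    rw [Matrix.mulVec, dotProduct] at e3 e5 e6
    rw [hC]
    fin_cases k
    · exact e3
    · exact e5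
    · exact e6
  have h8 : N - p = 0 := by
    rw [← mul_one (N - p), ← hCC', ← mul_assoc, h7, zero_mul]
  exact sub_eq_zero.1 h8

theorem mat_pent {T T' : ℕ} (a b c : ℕ) :
    (fun i j : Fin 3 => code (pent T T' a b c i j) : Matrix (Fin 3) (Fin 3) K9) =
      code a • (1 : Matrix (Fin 3) (Fin 3) K9) + code b • mat T + code c • mat T' := by
  refine Matrix.ext fun i j => ?_
  rw [pent, code_add, code_add, code_mul, code_mul]
  simp only [Matrix.add_apply, Matrix.smul_apply, smul_eq_mul, mat]
  congr 2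
  by_cases hij : i = j
  · subst hij
    rw [Matrix.one_apply_eq, Nat.beq_refl, mul_one]
    rfl
  · rw [Matrix.one_apply_ne hij, mul_zero]
    have : Nat.beq i j = false := by
      rw [Bool.eq_false_iff]
      intro h
      exact hij (Fin.ext (Nat.eq_of_beq_eq_true h))
    rw [this]
    exact code_zero

theorem isGood_mt (x : Cfsg.SU 3 K9 3) : IsGood (mt x) := by
  refine ⟨?_, fun i j => ?_⟩
  · have h := x.1.2
    rw [Matrix.det_fin_three] at h
    exact h
  · have h := (LieClassical.GUOrder.mul_map_eq_one_iff card_k9' (mt x)).1 x.2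
    have h1 := congrFun (congrFun h i) j
    rw [Matrix.mul_apply, Fin.sum_univ_three, Matrix.one_apply] at h1
    rw [← h1]
    simp only [Matrix.transpose_apply, Matrix.map_apply, LieClassical.GUOrder.frob_apply, pow_succ,
      pow_zero, one_mul]

theorem card_centralizer_le {x : Cfsg.SU 3 K9 3} {T T' : ℕ} (hx : mt x = mat T)
    (hx2 : mat T * mat T = mat T') (v : Fin 3 → K9) (C C' : Matrix (Fin 3) (Fin 3) K9)
    (hC : C = Matrix.of fun i => ![v i, (mat T *ᵥ v) i, (mat T' *ᵥ v) i])
    (hCC' : C * C' = 1) {k : ℕ} (hk : (sols T T').length ≤ k) :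
    Nat.card (Subgroup.centralizer ({x} : Set (Cfsg.SU 3 K9 3))) ≤ k := by
  classical
  let F : ℕ → Matrix (Fin 3) (Fin 3) K9 := fun n =>
    fun i j : Fin 3 => code (pent T T' (n / 81) (n / 9 % 9) (n % 9) i j)
  have hmem : ∀ g ∈ Subgroup.centralizer ({x} : Set (Cfsg.SU 3 K9 3)),
      mt g ∈ ((sols T T').map F).toFinset := by
    intro g hg
    have hc : mt g * mat T = mat T * mt g := by
      have h1 := Subgroup.mem_centralizer_iff.1 hg x rfl
      rw [← hx, ← mt_mul, ← mt_mul, h1]
    obtain ⟨a, b, c, h⟩ := eq_poly (mat T) (mt g) hc v C C' (by rw [hC, hx2]) hCC'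
    rw [hx2] at h
    obtain ⟨a', rfl⟩ := exists_code a
    obtain ⟨b', rfl⟩ := exists_code b
    obtain ⟨c', rfl⟩ := exists_code c
    rw [List.mem_toFinset, List.mem_map]
    have e1 : (81 * (a' : ℕ) + 9 * b' + c') / 81 = a' := by omega
    have e2 : (81 * (a' : ℕ) + 9 * b' + c') / 9 % 9 = b' := by omega
    have e3 : (81 * (a' : ℕ) + 9 * b' + c') % 9 = c' := by omega
    have h2 : F (81 * (a' : ℕ) + 9 * b' + c') = mt g := by
      change (fun i j : Fin 3 => code (pent T T' _ _ _ i j)) = _
      rw [e1, e2, e3, mat_pent, h]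
    refine ⟨81 * (a' : ℕ) + 9 * b' + c', ?_, h2⟩
    rw [sols, List.mem_filter, List.mem_range]
    refine ⟨by omega, ?_⟩
    apply good_of_isGood
    change IsGood (F _)
    rw [h2]
    exact isGood_mt g
  calc Nat.card (Subgroup.centralizer ({x} : Set (Cfsg.SU 3 K9 3)))
      ≤ Nat.card ((sols T T').map F).toFinset := by
        refine Nat.card_le_card_of_injective (fun g => ⟨mt g.1, hmem g.1 g.2⟩) ?_
        intro g g' h
        have h' := congrArg Subtype.val h
        exact Subtype.ext (su_ext h')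
    _ = ((sols T T').map F).toFinset.card := by rw [Nat.card_eq_fintype_card, Fintype.card_coe]
    _ ≤ ((sols T T').map F).length := List.toFinset_card_le _
    _ = (sols T T').length := List.length_map _
    _ ≤ k := hk

end Cfsg.Agent.H424.U33Codes
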