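import Mathlib
import Cfsg.Agent.H424.U33Codes

/-!
# Classes and centralizers in `SU₃(3)`

* `fourteen_le` : `SU₃(3)` has at least 14 conjugacy classes;
* `exists_seven`, `exists_two`, `exists_three` : elements with centralizers of order at most 7, 8, 9.
-/

set_option autoImplicit false

namespace Cfsg.Agent.H424.U33Classes

open Matrix Cfsg Cfsg.Agent.Classification.RTwo.UThreeThree
open Cfsg.Agent.H424.U33Codes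

theorem sols_seven : (sols 2214871808 22336135285).length ≤ 7 := by decide +kernel
theorem sols_eight : (sols 16974592 12885032963).length ≤ 8 := by decide +kernel
theorem sols_nine : (sols 536883968 102760544).length ≤ 9 := by decide +kernel

/-- an element of order 7 -/
def x7 : Matrix (Fin 3) (Fin 3) K9 :=
  !![⟨0, 0⟩, ⟨0, 0⟩, ⟨0, 1⟩; ⟨1, 1⟩, ⟨1, 1⟩, ⟨0, 0⟩; ⟨1, 1⟩, ⟨2, 2⟩, ⟨0, 0⟩]
/-- an element of order 8 -/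
def x8 : Matrix (Fin 3) (Fin 3) K9 :=
  !![⟨0, 0⟩, ⟨0, 0⟩, ⟨0, 1⟩; ⟨0, 0⟩, ⟨0, 1⟩, ⟨0, 0⟩; ⟨1, 0⟩, ⟨0, 0⟩, ⟨0, 0⟩]
/-- an element of order 3 -/
def x3 : Matrix (Fin 3) (Fin 3) K9 :=
  !![⟨0, 0⟩, ⟨0, 0⟩, ⟨0, 1⟩; ⟨0, 1⟩, ⟨0, 0⟩, ⟨0, 0⟩; ⟨0, 0⟩, ⟨2, 0⟩, ⟨0, 0⟩]

theorem good7 : IsGood x7 := by decide +kernel
theorem good8 : IsGood x8 := by decide +kernel
theorem good3 : IsGood x3 := by decide +kernel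

theorem x7_eq : x7 = mat 2214871808 := by decide +kernel
theorem x8_eq : x8 = mat 16974592 := by decide +kernel
theorem x3_eq : x3 = mat 536883968 := by decide +kernel

theorem x7_sq : mat 2214871808 * mat 2214871808 = mat 22336135285 := by decide +kernel
theorem x8_sq : mat 16974592 * mat 16974592 = mat 12885032963 := by decide +kernel
theorem x3_sq : mat 536883968 * mat 536883968 = mat 102760544 := by decide +kernel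

theorem card_x7 : Nat.card (Subgroup.centralizer ({good7.su} : Set (Cfsg.SU 3 K9 3))) ≤ 7 :=
  card_centralizer_le (x := good7.su) x7_eq x7_sq ![⟨0, 0⟩, ⟨0, 0⟩, ⟨1, 0⟩]
    !![⟨0, 0⟩, ⟨0, 1⟩, ⟨0, 0⟩; ⟨0, 0⟩, ⟨0, 0⟩, ⟨2, 1⟩; ⟨1, 0⟩, ⟨0, 0⟩, ⟨2, 1⟩]
    !![⟨0, 0⟩, ⟨2, 0⟩, ⟨1, 0⟩; ⟨0, 2⟩, ⟨0, 0⟩, ⟨0, 0⟩; ⟨0, 0⟩, ⟨1, 1⟩, ⟨0, 0⟩]
    (by decide +kernel) (by decide +kernel) sols_seven

theorem card_x8 : Nat.card (Subgroup.centralizer ({good8.su} : Set (Cfsg.SU 3 K9 3))) ≤ 8 :=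
  card_centralizer_le (x := good8.su) x8_eq x8_sq ![⟨0, 0⟩, ⟨1, 0⟩, ⟨1, 0⟩]
    !![⟨0, 0⟩, ⟨0, 1⟩, ⟨0, 0⟩; ⟨1, 0⟩, ⟨0, 1⟩, ⟨2, 0⟩; ⟨1, 0⟩, ⟨0, 0⟩, ⟨0, 1⟩]
    !![⟨1, 1⟩, ⟨2, 2⟩, ⟨2, 1⟩; ⟨0, 2⟩, ⟨0, 0⟩, ⟨0, 0⟩; ⟨2, 1⟩, ⟨1, 2⟩, ⟨2, 1⟩]
    (by decide +kernel) (by decide +kernel) sols_eight

theorem card_x3 : Nat.card (Subgroup.centralizer ({good3.su} : Set (Cfsg.SU 3 K9 3))) ≤ 9 :=
  card_centralizer_le (x := good3.su) x3_eq x3_sq ![⟨0, 0⟩, ⟨0, 0⟩, ⟨1, 0⟩]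
    !![⟨0, 0⟩, ⟨0, 1⟩, ⟨0, 0⟩; ⟨0, 0⟩, ⟨0, 0⟩, ⟨2, 0⟩; ⟨1, 0⟩, ⟨0, 0⟩, ⟨0, 0⟩]
    !![⟨0, 0⟩, ⟨0, 0⟩, ⟨1, 0⟩; ⟨0, 2⟩, ⟨0, 0⟩, ⟨0, 0⟩; ⟨0, 0⟩, ⟨2, 0⟩, ⟨0, 0⟩]
    (by decide +kernel) (by decide +kernel) sols_nine

theorem x7_pow : good7.su ^ 7 = 1 := by
  apply su_ext
  rw [pow_succ, pow_succ, pow_succ, pow_succ, pow_succ, pow_succ, pow_one]
  change x7 * x7 * x7 * x7 * x7 * x7 * x7 = 1
  decide +kernel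

theorem x7_ne : good7.su ≠ 1 := by
  intro h
  have h1 : x7 = 1 := congrArg Classification.RTwo.UThreeThree.mt h
  have h2 : x7 0 0 = 1 := by rw [h1]; rfl
  revert h2
  decide +kernel

theorem x8_pow : good8.su ^ 8 = 1 := by
  apply su_ext
  rw [pow_succ, pow_succ, pow_succ, pow_succ, pow_succ, pow_succ, pow_succ, pow_one]
  change x8 * x8 * x8 * x8 * x8 * x8 * x8 * x8 = 1
  decide +kernel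

theorem x3_pow : good3.su ^ 3 = 1 := by
  apply su_ext
  rw [pow_succ, pow_succ, pow_one]
  change x3 * x3 * x3 = 1
  decide +kernel

/-- Representatives of the conjugacy classes. -/
def reps : List (Matrix (Fin 3) (Fin 3) K9) := [
  !![⟨1, 0⟩, ⟨0, 0⟩, ⟨0, 0⟩; ⟨0, 0⟩, ⟨1, 0⟩, ⟨0, 0⟩; ⟨0, 0⟩, ⟨0, 0⟩, ⟨1, 0⟩],
  !![⟨0, 0⟩, ⟨0, 0⟩, ⟨0, 1⟩; ⟨0, 0⟩, ⟨2, 0⟩, ⟨0, 0⟩; ⟨0, 2⟩, ⟨0, 0⟩, ⟨0, 0⟩],
  !![⟨1, 0⟩, ⟨0, 0⟩, ⟨0, 0⟩; ⟨0, 0⟩, ⟨1, 1⟩, ⟨1, 1⟩; ⟨0, 0⟩, ⟨2, 1⟩, ⟨1, 2⟩],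
  !![⟨0, 0⟩, ⟨0, 0⟩, ⟨0, 1⟩; ⟨0, 1⟩, ⟨0, 0⟩, ⟨0, 0⟩; ⟨0, 0⟩, ⟨2, 0⟩, ⟨0, 0⟩],
  !![⟨0, 1⟩, ⟨0, 0⟩, ⟨0, 0⟩; ⟨0, 0⟩, ⟨0, 1⟩, ⟨0, 0⟩; ⟨0, 0⟩, ⟨0, 0⟩, ⟨2, 0⟩],
  !![⟨0, 2⟩, ⟨0, 0⟩, ⟨0, 0⟩; ⟨0, 0⟩, ⟨0, 2⟩, ⟨0, 0⟩; ⟨0, 0⟩, ⟨0, 0⟩, ⟨2, 0⟩],
  !![⟨0, 0⟩, ⟨0, 0⟩, ⟨0, 1⟩; ⟨0, 0⟩, ⟨1, 0⟩, ⟨0, 0⟩; ⟨0, 1⟩, ⟨0, 0⟩, ⟨0, 0⟩],
  !![⟨1, 0⟩, ⟨0, 0⟩, ⟨0, 0⟩; ⟨0, 0⟩, ⟨2, 1⟩, ⟨1, 1⟩; ⟨0, 0⟩, ⟨2, 1⟩, ⟨2, 2⟩],
  !![⟨0, 0⟩, ⟨0, 0⟩, ⟨0, 1⟩; ⟨1, 1⟩, ⟨1, 1⟩, ⟨0, 0⟩; ⟨1, 1⟩, ⟨2, 2⟩, ⟨0, 0⟩],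
  !![⟨0, 0⟩, ⟨0, 0⟩, ⟨0, 1⟩; ⟨1, 1⟩, ⟨1, 2⟩, ⟨0, 0⟩; ⟨2, 1⟩, ⟨2, 2⟩, ⟨0, 0⟩],
  !![⟨0, 0⟩, ⟨0, 0⟩, ⟨0, 1⟩; ⟨0, 0⟩, ⟨0, 1⟩, ⟨0, 0⟩; ⟨1, 0⟩, ⟨0, 0⟩, ⟨0, 0⟩],
  !![⟨0, 0⟩, ⟨0, 0⟩, ⟨0, 1⟩; ⟨0, 0⟩, ⟨0, 2⟩, ⟨0, 0⟩; ⟨2, 0⟩, ⟨0, 0⟩, ⟨0, 0⟩],
  !![⟨0, 0⟩, ⟨0, 0⟩, ⟨0, 1⟩; ⟨1, 1⟩, ⟨2, 1⟩, ⟨0, 0⟩; ⟨1, 2⟩, ⟨2, 2⟩, ⟨0, 0⟩],
  !![⟨0, 0⟩, ⟨0, 0⟩, ⟨0, 1⟩; ⟨1, 1⟩, ⟨2, 2⟩, ⟨0, 0⟩; ⟨2, 2⟩, ⟨2, 2⟩, ⟨0, 0⟩]]

/-- A class invariant. -/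
def cinv (M : Matrix (Fin 3) (Fin 3) K9) : K9 × Bool × Bool × Bool :=
  (M.trace, decide (M * M = 1), decide (M * M * (M * M) = 1), decide ((M - 1) * (M - 1) = 0))

theorem reps_good : ∀ M ∈ reps, IsGood M := by
  simp only [reps, List.forall_mem_cons]
  refine ⟨?_, ?_, ?_, ?_, ?_, ?_, ?_, ?_, ?_, ?_, ?_, ?_, ?_, ?_, ?_⟩
  on_goal 15 => exact fun _ h => absurd h List.not_mem_nil
  all_goals decide +kernel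

theorem reps_nodup : (reps.map cinv).Nodup := by decide +kernel

theorem cinv_conj {M N C C' : Matrix (Fin 3) (Fin 3) K9} (h : N = C * M * C') (h1 : C' * C = 1) :
    cinv N = cinv M := by
  have h2 : C * C' = 1 := mul_eq_one_comm.1 h1
  have e1 : N * N = C * (M * M) * C' := by
    rw [h]
    calc C * M * C' * (C * M * C') = C * M * (C' * C) * M * C' := by simp only [mul_assoc]
      _ = C * (M * M) * C' := by rw [h1, mul_one]; simp only [mul_assoc]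
  have e2 : N * N * (N * N) = C * (M * M * (M * M)) * C' := by
    rw [e1]
    calc C * (M * M) * C' * (C * (M * M) * C') = C * (M * M) * (C' * C) * (M * M) * C' := by
          simp only [mul_assoc]
      _ = C * (M * M * (M * M)) * C' := by rw [h1, mul_one]; simp only [mul_assoc]
  have e3 : N - 1 = C * (M - 1) * C' := by
    rw [mul_sub, sub_mul, mul_one, h2, h]
  have e4 : (N - 1) * (N - 1) = C * ((M - 1) * (M - 1)) * C' := by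
    rw [e3]
    calc C * (M - 1) * C' * (C * (M - 1) * C') = C * (M - 1) * (C' * C) * (M - 1) * C' := by
          simp only [mul_assoc]
      _ = C * ((M - 1) * (M - 1)) * C' := by rw [h1, mul_one]; simp only [mul_assoc]
  have key : ∀ X Y : Matrix (Fin 3) (Fin 3) K9, C * X * C' = C * Y * C' ↔ X = Y := by
    intro X Y
    constructor
    · intro h3
      have h4 : C' * (C * X * C') * C = C' * (C * Y * C') * C := by rw [h3]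
      have h5 : ∀ X : Matrix (Fin 3) (Fin 3) K9, C' * (C * X * C') * C = X := by
        intro X
        calc C' * (C * X * C') * C = (C' * C) * X * (C' * C) := by simp only [mul_assoc]
          _ = X := by rw [h1, mul_one, one_mul]
      rwa [h5, h5] at h4
    · rintro rfl; rfl
  have one' : (1 : Matrix (Fin 3) (Fin 3) K9) = C * 1 * C' := by rw [mul_one, h2]
  have zero' : (0 : Matrix (Fin 3) (Fin 3) K9) = C * 0 * C' := by rw [mul_zero, zero_mul]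
  have t1 : N.trace = M.trace := by
    rw [h, Matrix.trace_mul_comm, ← mul_assoc, h1, one_mul]
  have t2 : (N * N = 1) ↔ (M * M = 1) := by
    rw [e1]; nth_rewrite 1 [one']; exact key _ _
  have t3 : (N * N * (N * N) = 1) ↔ (M * M * (M * M) = 1) := by
    rw [e2]; nth_rewrite 1 [one']; exact key _ _
  have t4 : ((N - 1) * (N - 1) = 0) ↔ ((M - 1) * (M - 1) = 0) := by
    rw [e4]; nth_rewrite 1 [zero']; exact key _ _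
  rw [cinv, cinv, t1, decide_eq_decide.2 t2, decide_eq_decide.2 t3, decide_eq_decide.2 t4]

theorem cinv_isConj {x y : Cfsg.SU 3 K9 3} (h : IsConj x y) : cinv (mt y) = cinv (mt x) := by
  obtain ⟨c, rfl⟩ := isConj_iff.1 h
  refine cinv_conj (C := mt c) (C' := mt c⁻¹) ?_ ?_
  · rw [mt_mul, mt_mul]
  · rw [← mt_mul, inv_mul_cancel]
    rfl

/-- `SU₃(3)` has at least 14 conjugacy classes. -/
theorem fourteen_le : 14 ≤ Nat.card (ConjClasses (Cfsg.SU 3 K9 3)) := by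
  classical
  let f : ConjClasses (Cfsg.SU 3 K9 3) → K9 × Bool × Bool × Bool :=
    Quotient.lift (fun x => cinv (mt x)) fun a b h => (cinv_isConj h).symm
  have h1 : ((reps.map cinv).toFinset : Set (K9 × Bool × Bool × Bool)) ⊆ Set.range f := by
    intro z hz
    rw [Finset.mem_coe, List.mem_toFinset, List.mem_map] at hz
    obtain ⟨M, hM, rfl⟩ := hz
    exact ⟨ConjClasses.mk (reps_good M hM).su, rfl⟩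
  have h2 : ((reps.map cinv).toFinset : Set (K9 × Bool × Bool × Bool)).ncard = 14 := by
    rw [Set.ncard_coe_finset, List.toFinset_card_of_nodup reps_nodup]
    rfl
  have h3 : (Set.range f).ncard ≤ Nat.card (ConjClasses (Cfsg.SU 3 K9 3)) := by
    rw [← Set.image_univ, ← Set.ncard_univ]
    exact Set.ncard_image_le (Set.toFinite _)
  rw [← h2]
  exact (Set.ncard_le_ncard h1 (Set.toFinite _)).trans h3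

end Cfsg.Agent.H424.U33Classes
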