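import Mathlib
import Cfsg.Agent.H424.U33Classes
import Cfsg.Agent.H424.BlockTools
import Cfsg.Agent.SmallSimple.OrdersA
import Cfsg.Agent.SmallSimple.S1000.PSLFacts
import Cfsg.Agent.S0283

/-!
# The degree graph of `PSU₃(3)`
-/

set_option autoImplicit false

namespace Cfsg.Agent.H424.U33Degrees

open Cfsg Cfsg.Agent.Classification.RTwo.UThreeThree Cfsg.Agent.Characters.Core
open Cfsg.Agent.H424.DegTools Cfsg.Agent.H424.CentBound Cfsg.Agent.H424.BlockTools
open Cfsg.Agent.H424.U33Classes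
open Cfsg.Agent.SmallSimple.LocalData Cfsg.Agent.SmallSimple.DegreeData Cfsg.Agent.SmallSimple.OrdersA
open Subgroup

theorem card_SU : Nat.card (Cfsg.SU 3 K9 3) = 6048 := by
  rw [← Nat.card_congr (psuEquiv card_k9).toEquiv]
  exact SmallSimple.PSLFacts.card_psu_three_three card_k9

theorem isSimple_SU : IsSimpleGroup (Cfsg.SU 3 K9 3) := by
  have := S0283.result (F := K9) (q := 3) card_k9' 3 le_rfl (by norm_num)
  exact MulEquiv.isSimpleGroup (psuEquiv card_k9).symm

instance finite_SU : Finite (Cfsg.SU 3 K9 3) :=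
  Nat.finite_of_card_ne_zero (by rw [card_SU]; norm_num)

theorem exists_data_seven : Data (Cfsg.SU 3 K9 3) 7 3 1 := by
  have := isSimple_SU
  have hG := not_comm card_SU (by norm_num)
  obtain ⟨d, e, k, h1, h2, h3⟩ := data_cases card_SU hG 7 (by norm_num) (by norm_num) (by norm_num)
    (by norm_num) [(36, 2, 12), (36, 6, 4), (288, 3, 1)] (by decide +kernel)
  have hk : k = 1 := by
    have : Fact (Nat.Prime 7) := ⟨by norm_num⟩
    have ho : orderOf good7.su = 7 := orderOf_eq_prime x7_pow x7_ne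
    have hc : Nat.card (zpowers good7.su) = 7 := by rw [Nat.card_zpowers, ho]
    obtain ⟨P, hP⟩ := exists_sylow_eq (q := 7) (by norm_num) h1.not_sq_dvd (zpowers good7.su) hc
    have h4 := h1.card_centralizer P
    have hm : good7.su ∈ P := by
      change good7.su ∈ (P : Subgroup _)
      rw [hP]
      exact mem_zpowers _
    have h5 : centralizer (P : Set (Cfsg.SU 3 K9 3)) ≤ centralizer {good7.su} :=
      centralizer_le (Set.singleton_subset_iff.2 hm)
    have h6 := (Subgroup.card_le_of_le h5).trans card_x7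
    rw [h4] at h6
    obtain ⟨K, hK, hk⟩ := h1.loc P
    have : 0 < k := hk ▸ Nat.card_pos
    omega
  subst hk
  simp only [List.mem_cons, Prod.mk.injEq, List.mem_nil_iff, or_false] at h3
  rcases h3 with h3 | h3 | h3
  · omega
  · omega
  · obtain ⟨-, rfl, -⟩ := h3
    exact h1

theorem card_prime_seven (S : Finset (IrrCharacter (Cfsg.SU 3 K9 3)))
    (hS : ∀ χ ∈ S, ¬ 7 ∣ charDegree (χ : Cfsg.SU 3 K9 3 → ℂ)) : S.card ≤ 5 := by
  have : Fact (Nat.Prime 7) := ⟨by norm_num⟩
  have h := exists_data_seven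
  obtain ⟨M, hM, ⟨D⟩⟩ := exists_block h (by norm_num) default (t := 2) (by norm_num)
  exact card_le_of_selfCent hM D (h.card_eq _) (by rw [h.card_centralizer]) S hS

theorem card_prime_two (S : Finset (IrrCharacter (Cfsg.SU 3 K9 3)))
    (hS : ∀ χ ∈ S, ¬ 2 ∣ charDegree (χ : Cfsg.SU 3 K9 3 → ℂ)) : S.card ≤ 8 :=
  (card_le_centralizer (p := 2) (m := 3) (x := good8.su) (by norm_num; exact x8_pow) S hS).trans card_x8

theorem card_prime_three (S : Finset (IrrCharacter (Cfsg.SU 3 K9 3)))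
    (hS : ∀ χ ∈ S, ¬ 3 ∣ charDegree (χ : Cfsg.SU 3 K9 3 → ℂ)) : S.card ≤ 9 :=
  (card_le_centralizer (p := 3) (m := 1) (x := good3.su) (by norm_num; exact x3_pow) S hS).trans card_x3

theorem fourteen : ∃ d ∈ charDegrees (Cfsg.SU 3 K9 3), 2 * 7 ∣ d :=
  exists_mul_dvd (by norm_num) (by norm_num) (by norm_num) card_prime_two card_prime_seven
    (by have := fourteen_le; omega)

theorem twentyone : ∃ d ∈ charDegrees (Cfsg.SU 3 K9 3), 3 * 7 ∣ d :=
  exists_mul_dvd (by norm_num) (by norm_num) (by norm_num) card_prime_three card_prime_seven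
    fourteen_le

theorem six : ∃ d ∈ charDegrees (Cfsg.SU 3 K9 3), 2 * 3 ∣ d := by
  have : Fact (Nat.Prime 7) := ⟨by norm_num⟩
  have := isSimple_SU
  have h := exists_data_seven
  obtain ⟨M, hM, ⟨D⟩⟩ := exists_block h (by norm_num) default (t := 2) (by norm_num)
  have h3 : ∀ z ∈ D.degs, decide (3 ≤ z.natAbs) = true := fun z hz => by
    rw [decide_eq_true_eq]
    exact degs_three_le (by rw [card_SU]; norm_num) (by rw [card_SU]; norm_num) D z hz
  have h4 := SmallSimple.DegreeCheck.degs_check D (h.card_eq _) rfl card_SU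
    (L := [(2, 5), (3, 3), (7, 1)]) (by norm_num)
    (by norm_num) (F := fun z => decide (3 ≤ z.natAbs)) (FX := fun _ => true)
    (C := [-216, -48, -27, -6, 8, 36, 288]) (Ds := [-144, -32, -18, -4, 3, 24, 108, 864]) h3 rfl
    (by decide) (o := 216) (w := 1000) (M := 0) (wt := fun _ => 0) (V := 0) (Or.inl rfl)
    (P := fun l => [[-27, -6], [-27, 8], [-6, 8]].contains l) (by decide +kernel)
  have h5 : D.degs = [-27, -6] ∨ D.degs = [-27, 8] ∨ D.degs = [-6, 8] := by simpa using h4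
  have h6 := dexc_mem D (by norm_num)
  rcases h5 with h5 | h5 | h5
  · exact ⟨_, degs_mem D (z := -6) (by rw [h5]; simp), by norm_num⟩
  · rw [h5] at h6
    exact ⟨_, h6, by norm_num⟩
  · exact ⟨_, degs_mem D (z := -6) (by rw [h5]; simp), by norm_num⟩

theorem mem_degreePrimes_SU {p : ℕ} : p ∈ degreePrimes (Cfsg.SU 3 K9 3) ↔ p = 2 ∨ p = 3 ∨ p = 7 := by
  rw [mem_degreePrimes]
  constructor
  · rintro ⟨hp, d, hd, hpd⟩
    have h1 := hpd.trans (DegTools.dvd_card hd)
    rw [card_SU, show 6048 = 2 ^ 5 * 3 ^ 3 * 7 by norm_num] at h1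
    rcases hp.dvd_mul.1 h1 with h2 | h2
    · rcases hp.dvd_mul.1 h2 with h3 | h3
      · exact Or.inl ((Nat.prime_dvd_prime_iff_eq hp Nat.prime_two).1 (hp.dvd_of_dvd_pow h3))
      · exact Or.inr (Or.inl ((Nat.prime_dvd_prime_iff_eq hp Nat.prime_three).1
          (hp.dvd_of_dvd_pow h3)))
    · exact Or.inr (Or.inr ((Nat.prime_dvd_prime_iff_eq hp (by norm_num)).1 h2))
  · obtain ⟨d, hd, h⟩ := fourteen
    obtain ⟨d', hd', h'⟩ := six
    rintro (rfl | rfl | rfl)
    · exact ⟨by norm_num, d, hd, (dvd_mul_right 2 7).trans h⟩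
    · exact ⟨by norm_num, d', hd', (dvd_mul_left 3 2).trans h'⟩
    · exact ⟨by norm_num, d, hd, (dvd_mul_left 7 2).trans h⟩

end Cfsg.Agent.H424.U33Degrees
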